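import Groth.Agent.H14.GenFam.PushGen

/-!
The two cases with the structure sheaf.
-/

set_option autoImplicit false
set_option backward.isDefEq.respectTransparency false
set_option backward.isDefEq.respectTransparency.types false
set_option linter.style.haveILetI false

universe u

open CategoryTheory CategoryTheory.Limits AlgebraicGeometry Opposite
open StMod (sch bmap fibCat fibFst baseOver)
open Groth.Agent.Lib Groth.Agent.Lib.AlgStack
open Groth.Agent.H14.ModDesc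

namespace Groth.Agent.H14.GenFam

variable {S : Scheme.{u}}

/-- The section one. -/
noncomputable def oneO (𝒳 : AlgSt.Cat S) (ξ : 𝒳.obj) : Γ((StMod.OQ 𝒳).obj.obj ξ, ⊤) :=
  show Γ(sch 𝒳 ξ, ⊤) from 1

theorem oneO_mapTop {𝒳 : AlgSt.Cat S} {ξ' ξ : 𝒳.obj} (k : ξ' ⟶ ξ) :
    (StMod.OQ 𝒳).obj.mapTop k (oneO 𝒳 ξ) = oneO 𝒳 ξ' := by
  show (StMod.O 𝒳).mapTop k (1 : Γ(sch 𝒳 ξ, ⊤)) = _
  rw [StMod.O_mapTop]
  exact map_one (bmap 𝒳 k).appTop.hom

theorem smul_oneO {𝒳 : AlgSt.Cat S} {ξ : 𝒳.obj} (s : Γ((StMod.OQ 𝒳).obj.obj ξ, ⊤)) :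
    (show Γ(sch 𝒳 ξ, ⊤) from s) • oneO 𝒳 ξ = s := by
  show (show Γ(sch 𝒳 ξ, ⊤) from s) * 1 = s
  exact mul_one _

theorem fp_OQ {𝒳 : AlgSt.Cat S} (x : 𝒳.obj) :
    Module.FinitePresentation Γ(sch 𝒳 x, ⊤) Γ((StMod.OQ 𝒳).obj.obj x, ⊤) := by
  let e : Γ(sch 𝒳 x, ⊤) ≃ₗ[Γ(sch 𝒳 x, ⊤)] Γ((StMod.OQ 𝒳).obj.obj x, ⊤) :=
    { toFun := fun r => (show Γ((StMod.OQ 𝒳).obj.obj x, ⊤) from r)
      invFun := fun r => (show Γ(sch 𝒳 x, ⊤) from r)
      map_add' := fun _ _ => rfl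
      map_smul' := fun _ _ => rfl
      left_inv := fun _ => rfl
      right_inv := fun _ => rfl }
  exact Module.FinitePresentation.of_equiv e

variable {𝒳 𝒴 : AlgSt.Cat S} {f : 𝒳 ⥤ᵇ 𝒴}

/-- Over the chart, every affine object is covered by objects mapping to the chart. -/
theorem exists_cover_lift (C : Chart2 𝒴) (hX : FibCat.IsFibGrpd 𝒳.p) (hY : FibCat.IsFibGrpd 𝒴.p) (ξ : 𝒳.obj)
    [IsAffine (sch 𝒳 ξ)] : ∃ (n : ℕ) (D : Cover ξ (Fin n)), ∀ j, Nonempty (f.obj (D.E j) ⟶ C.x) := by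
  obtain ⟨n, D, hD⟩ := C.cover (f.obj ξ) (isAffine_fobj f ξ)
  have hsch : sch 𝒴 (f.obj ξ) = sch 𝒳 ξ := StMod.sch_obj_eq f ξ
  choose ξj k ej hk using fun j => exists_obj hX ξ (bmap 𝒴 (D.e j) ≫ eqToHom hsch)
  refine ⟨n, ⟨ξj, fun j => (have := D.aff j; IsAffine.of_isIso (ej j).hom), k, fun j => by
    rw [hk]
    have := D.flat j
    infer_instance, fun v => by
    obtain ⟨j, z, hz⟩ := D.surj (eqToHom hsch.symm v)
    refine ⟨j, (ej j).inv z, ?_⟩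
    rw [hk, ← Scheme.Hom.comp_apply, Iso.inv_hom_id_assoc, Scheme.Hom.comp_apply, hz, ← Scheme.Hom.comp_apply,
      eqToHom_trans, eqToHom_refl]
    rfl⟩, fun j => ?_⟩
  have hb : bmap 𝒴 (f.map (k j)) = eqToHom (StMod.sch_obj_eq f (ξj j)) ≫ bmap 𝒳 (k j) ≫ eqToHom hsch.symm := by
    have := IsHomLift.fac' 𝒴.p (𝒳.p.map (k j)) (f.map (k j))
    have h2 := congrArg CommaMorphism.left this
    simpa using h2
  obtain ⟨d, -, -⟩ := exists_hom_over hY (f.map (k j)) (D.e j) (eqToHom (StMod.sch_obj_eq f (ξj j)) ≫ (ej j).hom) (by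
    rw [hb, hk]
    simp)
  exact ⟨d ≫ (hD j).some⟩

variable (hX : FibCat.IsFibGrpd 𝒳.p) (hY : FibCat.IsFibGrpd 𝒴.p)

include hX hY in
theorem exists_hom_of_chart (C : Chart2 𝒴) (F G : StMod.QCoh 𝒳)
    (σ : ∀ ξ, IsAffine (sch 𝒳 ξ) → Nonempty (f.obj ξ ⟶ C.x) →
      (Γ(F.obj.obj ξ, ⊤) →ₗ[Γ(sch 𝒳 ξ, ⊤)] Γ(G.obj.obj ξ, ⊤)))
    (nat : ∀ {o' o : 𝒳.obj} (h' : IsAffine (sch 𝒳 o')) (h : IsAffine (sch 𝒳 o)) (p' : Nonempty (f.obj o' ⟶ C.x))
      (p : Nonempty (f.obj o ⟶ C.x)) (e : o' ⟶ o) t,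
      G.obj.mapTop e (σ o h p t) = σ o' h' p' (F.obj.mapTop e t)) :
    ∃ ψ : F.obj ⟶ G.obj, ∀ o (h : IsAffine (sch 𝒳 o)) (p : Nonempty (f.obj o ⟶ C.x)) t,
      (ψ.app o).app ⊤ t = σ o h p t :=
  exists_hom_of_local hX F G (fun o => Nonempty (f.obj o ⟶ C.x)) (fun e p => ⟨f.map e ≫ p.some⟩)
    (fun o h => exists_cover_lift C hX hY o) σ nat

include hX hY in
/-- Inverse images of a generating family are generating when the structure sheaf is relatively so. -/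
theorem isGenFam_comap_of_structureSheaf (C : Chart2 𝒴) (hchart : ∀ y, IsAffine (sch 𝒴 y) → Nonempty (Chart (fibCat f y)))
    (hO : StMod.IsRelGenFam f (fun _ : PUnit.{u + 1} => StMod.OQ 𝒳)) {κ : Type*} (F : κ → StMod.QCoh 𝒴)
    (hF : StMod.IsGenFam F) : StMod.IsGenFam (fun j => (StMod.comapQ f).obj (F j)) := by
  rw [StMod.isGenFam_iff]
  intro M N u hu
  refine eq_zero_of_pairings C (fun _ : PUnit.{u + 1} => StMod.OQ 𝒳)
    (fun _ => ⟨hX, hY, hchart, fun x _ => fp_OQ x⟩) (hO C.x C.affx) F hF hX hY u fun i j b ξ _ h t s => ?_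
  let hs : ∀ ξ, sch 𝒴 (f.obj ξ) = sch 𝒳 ξ := fun ξ => StMod.sch_obj_eq f ξ
  let c : ∀ ξ, Γ((F j).obj.obj (f.obj ξ), ⊤) → Γ(((StMod.comapQ f).obj (F j)).obj.obj ξ, ⊤) :=
    fun ξ t => castTop (hs ξ) ((F j).obj.obj (f.obj ξ)) t
  have hc : ∀ ξ, Function.Bijective (c ξ) := fun ξ => castTop_bijective (hs ξ) _
  let cinv : ∀ ξ, Γ(((StMod.comapQ f).obj (F j)).obj.obj ξ, ⊤) → Γ((F j).obj.obj (f.obj ξ), ⊤) :=
    fun ξ => (Equiv.ofBijective _ (hc ξ)).symm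
  have hcinv : ∀ ξ z, c ξ (cinv ξ z) = z := fun ξ z => (Equiv.ofBijective _ (hc ξ)).apply_symm_apply z
  have hcinv' : ∀ ξ z, cinv ξ (c ξ z) = z := fun ξ z => (Equiv.ofBijective _ (hc ξ)).symm_apply_apply z
  have hadd : ∀ ξ z z', cinv ξ (z + z') = cinv ξ z + cinv ξ z' := fun ξ z z' => (hc ξ).injective (by
    rw [hcinv]
    exact ((congrArg₂ (· + ·) (hcinv ξ z) (hcinv ξ z')).symm.trans (map_add (castTop (hs ξ) _) _ _).symm))
  have hsmul : ∀ ξ (r : Γ(sch 𝒳 ξ, ⊤)) z,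
      cinv ξ (r • z) = (eqToHom (hs ξ)).appTop.hom r • cinv ξ z := fun ξ r z => (hc ξ).injective (by
    rw [hcinv]
    refine Eq.trans ?_ (castTop_smul (hs ξ) _ _ _).symm
    refine Eq.trans (congrArg (r • ·) (hcinv ξ z).symm) (congrArg (· • _) ?_)
    refine Eq.trans ?_ (RingHom.comp_apply (eqToHom (hs ξ).symm).appTop.hom (eqToHom (hs ξ)).appTop.hom r)
    rw [← appTop_comp_hom, eqToHom_trans, eqToHom_refl, Scheme.Hom.id_appTop]
    rfl)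
  obtain ⟨ψ, hψ⟩ := exists_hom_of_chart hX hY C ((StMod.comapQ f).obj (F j)) M (fun ξ hξ p =>
    { toFun := fun z => b.B ξ p (cinv ξ z) (oneO 𝒳 ξ)
      map_add' := fun z z' => by rw [hadd]; exact b.map_add ξ p _ _ _
      map_smul' := fun r z => by
        rw [RingHom.id_apply, hsmul, b.map_smul]
        refine congrArg (· • b.B ξ p (cinv ξ z) (oneO 𝒳 ξ)) ?_
        refine (RingHom.comp_apply (baseOver f ξ (𝟙 (f.obj ξ))).left.appTop.hom (eqToHom (hs ξ)).appTop.hom r).symm.trans ?_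
        rw [← appTop_comp_hom]
        have e : (baseOver f ξ (𝟙 (f.obj ξ))).left ≫ eqToHom (hs ξ) = 𝟙 _ := by
          rw [baseOver, 𝒴.p.map_id, Category.comp_id, Over.eqToHom_left, eqToHom_trans, eqToHom_refl]
        rw [e, Scheme.Hom.id_appTop]
        rfl }) fun {o' o} h' h p' p e z => by
      show M.obj.mapTop e (b.B o p (cinv o z) (oneO 𝒳 o)) = b.B o' p' (cinv o' _) (oneO 𝒳 o')
      rw [b.natural e p' p, oneO_mapTop]
      refine congrArg (fun w => b.B o' p' w (oneO 𝒳 o')) ?_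
      apply (hc o').injective
      rw [hcinv]
      refine (mapTop_comap f (F j).obj e (cinv o z)).symm.trans (congrArg _ (hcinv o z))
  have h1 : (u.hom.app ξ).app ⊤ (b.B ξ h t (oneO 𝒳 ξ)) = 0 := by
    have h2 := congrArg (fun q : ((StMod.comapQ f).obj (F j)).obj ⟶ N.obj => (q.app ξ).app ⊤ (c ξ t)) (hu j ψ)
    have h3 : (ψ.app ξ).app ⊤ (c ξ t) = b.B ξ h t (oneO 𝒳 ξ) :=
      (hψ ξ ‹_› h (c ξ t)).trans (congrArg (fun w => b.B ξ h w (oneO 𝒳 ξ)) (hcinv' ξ t))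
    exact (congrArg _ h3.symm).trans (h2.trans rfl)
  rw [← smul_oneO s, map_smul]
  exact (Scheme.Modules.Hom.app_smul (u.hom.app ξ) _ _).trans ((congrArg (_ • ·) h1).trans (smul_zero _))

include hX hY in
/-- A relatively generating family is generating when the structure sheaf of the target is generating. -/
theorem isGenFam_of_structureSheaf_target (C : Chart2 𝒴)
    (hchart : ∀ y, IsAffine (sch 𝒴 y) → Nonempty (Chart (fibCat f y))) {ι : Type*} (E : ι → StMod.QCoh 𝒳)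
    (hfp : ∀ i x, IsAffine (sch 𝒳 x) → Module.FinitePresentation Γ(sch 𝒳 x, ⊤) Γ((E i).obj.obj x, ⊤))
    (hE : StMod.IsRelGenFam f E) (hO : StMod.IsGenFam (fun _ : PUnit.{u + 1} => StMod.OQ 𝒴)) :
    StMod.IsGenFam E := by
  rw [StMod.isGenFam_iff]
  intro M N u hu
  refine eq_zero_of_pairings C E (fun i => ⟨hX, hY, hchart, hfp i⟩) (hE C.x C.affx) _ hO hX hY u
    fun i j b ξ _ h t s => ?_
  obtain ⟨ψ, hψ⟩ := exists_hom_of_chart hX hY C (E i) M (fun ξ hξ p => b.B ξ p (oneO 𝒴 (f.obj ξ)))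
    fun {o' o} h' h p' p e z => by rw [b.natural e p' p, oneO_mapTop]
  have h1 : (u.hom.app ξ).app ⊤ (b.B ξ h (oneO 𝒴 (f.obj ξ)) s) = 0 := by
    have h2 := congrArg (fun q : (E i).obj ⟶ N.obj => (q.app ξ).app ⊤ s) (hu i ψ)
    exact (congrArg _ (hψ ξ ‹_› h s).symm).trans (h2.trans rfl)
  rw [← smul_oneO t, b.map_smul]
  exact (Scheme.Modules.Hom.app_smul (u.hom.app ξ) _ _).trans ((congrArg (_ • ·) h1).trans (smul_zero _))

end Groth.Agent.H14.GenFam
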