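import Groth.Agent.H14.GenFam.ExtDatum

/-!
The extension evaluated on objects flat over the chart.
-/

set_option autoImplicit false
set_option backward.isDefEq.respectTransparency false
set_option backward.isDefEq.respectTransparency.types false
set_option linter.style.haveILetI false

universe u

open CategoryTheory CategoryTheory.Limits AlgebraicGeometry Opposite TopologicalSpace
open StMod (sch bmap)
open Groth.Agent.Lib.AlgStack
open Groth.Agent.H14.ModDesc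

namespace Groth.Agent.H14.GenFam

variable {S : Scheme.{u}} {𝒳 : AlgSt.Cat S} {C : Chart2 𝒳} (Φ : FlatFun 𝒳) (hfib : FibCat.IsFibGrpd 𝒳.p)

/-- The scheme as an open. -/
noncomputable def topLift (Z : Scheme.{u}) : Z ⟶ (⊤ : Z.Opens).toScheme :=
  IsOpenImmersion.lift (⊤ : Z.Opens).ι (𝟙 Z) (by rw [Scheme.Opens.range_ι]; exact fun _ _ => trivial)

theorem topLift_ι (Z : Scheme.{u}) : topLift Z ≫ (⊤ : Z.Opens).ι = 𝟙 Z := IsOpenImmersion.lift_fac _ _ _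

theorem topLift_toGlobal (Z : Scheme.{u}) (r : Γ(Z, ⊤)) :
    (topLift Z).appTop.hom (Datum.toGlobal (⊤ : Z.Opens) r) = r := by
  have h1 : (topLift Z).appTop.hom ((⊤ : Z.Opens).ι.appTop.hom r) = r := by
    rw [← RingHom.comp_apply, ← appTop_comp_hom, topLift_ι, Scheme.Hom.id_appTop]
    rfl
  refine Eq.trans (congrArg (topLift Z).appTop.hom ?_) h1
  rw [Datum.toGlobal_eq]
  have h2 : (⊤ : Z.Opens).ι.appTop = (⊤ : Z.Opens).ι.appLE ⊤ ⊤ le_top := by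
    rw [Scheme.Hom.appTop, Scheme.Hom.app_eq_appLE]
    rfl
  rw [h2]

/-- The value of the extension at an affine object with a map to the chart. -/
noncomputable def extEv (o : 𝒳.obj) [ho : IsAffine (sch 𝒳 o)] (a : o ⟶ C.x) :
    Γ((extQ (C := C) Φ hfib).obj.obj o, ⊤) →+ MM Φ C a where
  toFun s := ((cDatum (C := C) Φ hfib o).secEquiv ⊤ s).1 ⟨o, 𝟙 o, a, ho⟩
    ⟨topLift _, (topLift_ι _).trans (StMod.bmap_id o).symm⟩
  map_zero' := by
    rw [map_zero]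
    rfl
  map_add' s t := by
    rw [map_add]
    rfl

theorem extEv_smul (o : 𝒳.obj) [IsAffine (sch 𝒳 o)] (a : o ⟶ C.x) (r : Γ(sch 𝒳 o, ⊤))
    (s : Γ((extQ (C := C) Φ hfib).obj.obj o, ⊤)) : extEv Φ hfib o a (r • s) = r • extEv Φ hfib o a s := by
  show ((cDatum (C := C) Φ hfib o).secEquiv ⊤ (r • s)).1 _ _ = _
  rw [map_smul]
  show (topLift (sch 𝒳 o)).appTop.hom (Datum.toGlobal (⊤ : (sch 𝒳 o).Opens) r) • extEv Φ hfib o a s = _
  rw [topLift_toGlobal]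

theorem bijective_extEv (o : 𝒳.obj) [ho : IsAffine (sch 𝒳 o)] (a : o ⟶ C.x) :
    Function.Bijective (extEv Φ hfib o a) := by
  have : IsAffine (⊤ : (sch 𝒳 o).Opens).toScheme := isAffineOpen_top _
  obtain ⟨n, ⟨K⟩⟩ := Datum.exists_wcov (D := cDatum (C := C) Φ hfib o) (isAffineOpen_top (sch 𝒳 o))
  have : IsIso (topLift (sch 𝒳 o)) := by
    refine ⟨(⊤ : (sch 𝒳 o).Opens).ι, topLift_ι _, ?_⟩
    rw [← cancel_mono (⊤ : (sch 𝒳 o).Opens).ι, Category.assoc, topLift_ι, Category.comp_id, Category.id_comp]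
  have hb := (K.isBC_ev (⟨o, 𝟙 o, a, ho⟩ : CObj C o) (topLift _) ((topLift_ι _).trans (StMod.bmap_id o).symm)).bijective
    (bijective_appTop (topLift (sch 𝒳 o)))
  exact hb.comp ((cDatum (C := C) Φ hfib o).secEquiv ⊤).bijective

set_option maxHeartbeats 800000 in
theorem extEv_mapTop {o' o : 𝒳.obj} [ho' : IsAffine (sch 𝒳 o')] [ho : IsAffine (sch 𝒳 o)] (e : o' ⟶ o)
    (a : o ⟶ C.x) (a' : o' ⟶ C.x) (s : Γ((extQ (C := C) Φ hfib).obj.obj o, ⊤)) :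
    extEv Φ hfib o' a' ((extQ (C := C) Φ hfib).obj.mapTop e s) =
      kappa hfib a' (e ≫ a) (resM e rfl (extEv Φ hfib o a s)) := by
  let D := cDatum (C := C) Φ hfib o
  let t := D.secEquiv ⊤ s
  let l₁ : CObj C o := ⟨o', 𝟙 o' ≫ e, a', ho'⟩
  let l : CObj C o := ⟨o, 𝟙 o, a, ho⟩
  have hg : D.Rel (l' := l₁) (l := l) (bmap 𝒳 e) := ⟨e, rfl, (Category.comp_id e).trans (Category.id_comp e).symm⟩
  have he : hg.choose = e := cRel_unique hfib (l' := l₁) (l := l) hg.choose_spec.1 hg.choose_spec.2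
    ((Category.comp_id e).trans (Category.id_comp e).symm)
  have hc : (bmap 𝒳 e ≫ topLift (sch 𝒳 o)) ≫ (⊤ : (sch 𝒳 o).Opens).ι = D.b l₁ := by
    show _ = bmap 𝒳 (𝟙 o' ≫ e)
    rw [Category.assoc, topLift_ι, Category.comp_id, Category.id_comp]
  have hl : topLift (sch 𝒳 o) ≫ (⊤ : (sch 𝒳 o).Opens).ι = D.b l := (topLift_ι _).trans (StMod.bmap_id o).symm
  have h₁ : D.res (l' := l₁) (l := l) (bmap 𝒳 e) hg (t.1 l ⟨topLift (sch 𝒳 o), hl⟩) =
      t.1 l₁ ⟨bmap 𝒳 e ≫ topLift (sch 𝒳 o), hc⟩ :=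
    t.2 (l' := l₁) (l := l) (bmap 𝒳 e) hg (topLift (sch 𝒳 o)) hl
  refine Eq.trans ?_ (Eq.trans h₁.symm ?_)
  · show ((cDatum (C := C) Φ hfib o').secEquiv (bmap 𝒳 e ⁻¹ᵁ ⊤)
      ((Datum.descMap (cPushMap Φ hfib e rfl)).app ⊤ s)).1 ⟨o', 𝟙 o', a', ho'⟩ ⟨topLift _, _⟩ = _
    rw [Datum.secEquiv_descMap]
    refine Datum.fam_congr (D := D) t ?_ _ _
    rw [← cancel_mono (⊤ : (sch 𝒳 o).Opens).ι, Category.assoc, Category.assoc, Scheme.Hom.resLE_comp_ι,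
      Category.assoc, topLift_ι, Category.comp_id]
    show 𝟙 _ ≫ topLift (sch 𝒳 o') ≫ (⊤ : (sch 𝒳 o').Opens).ι ≫ bmap 𝒳 e = bmap 𝒳 e
    rw [reassoc_of% (topLift_ι (sch 𝒳 o')), Category.id_comp]
  · show cRes Φ hfib (l' := l₁) (l := l) hg.choose _ = _
    rw [he]
    rfl

/-- The comparison along a flat map to the chart. -/
theorem bijective_psi {o : 𝒳.obj} [IsAffine (sch 𝒳 o)] {a : o ⟶ C.x} (h : Flat (bmap 𝒳 a)) :
    Function.Bijective (psi (Φ := Φ) h (𝟙 o) (Category.id_comp a)) := by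
  refine (IsBC.of_comp (Φ.bc a h) (isSL_psi h (𝟙 o) (Category.id_comp a))
    ((isBC_mk (bmap 𝒳 a).appTop.hom _).congr ?_ ?_)).bijective ?_
  · rw [← bmap_hom_comp, Category.id_comp]
  · exact AddMonoidHom.ext fun m => (psi_res h (𝟙 o) (Category.id_comp a) m).symm
  · rw [StMod.bmap_id, Scheme.Hom.id_appTop]
    exact Function.bijective_id

theorem exists_chi {o : 𝒳.obj} [IsAffine (sch 𝒳 o)] (a : o ⟶ C.x) :
    ∃ F : MM Φ C a →ₗ[Γ(sch 𝒳 o, ⊤)] Φ.obj o, ∀ m, F (unitM Φ C a m) = Φ.res a m :=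
  bc_extend (isBC_mk _ _) (Φ.res a) (Φ.sl a)

/-- The map to the module of an object with a map to the chart. -/
noncomputable def chi {o : 𝒳.obj} [IsAffine (sch 𝒳 o)] (a : o ⟶ C.x) :
    MM Φ C a →ₗ[Γ(sch 𝒳 o, ⊤)] Φ.obj o :=
  (exists_chi Φ a).choose

theorem chi_unit {o : 𝒳.obj} [IsAffine (sch 𝒳 o)] (a : o ⟶ C.x) (m : Φ.obj C.x) :
    chi Φ a (unitM Φ C a m) = Φ.res a m :=
  (exists_chi Φ a).choose_spec m

theorem res_chi {o' o : 𝒳.obj} [IsAffine (sch 𝒳 o')] [IsAffine (sch 𝒳 o)] (e : o' ⟶ o) {a : o ⟶ C.x}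
    {a' : o' ⟶ C.x} (h : e ≫ a = a') (v : MM Φ C a) : Φ.res e (chi Φ a v) = chi Φ a' (resM e h v) := by
  refine DFunLike.congr_fun (sl_ext (isBC_mk _ (Φ.obj C.x)) (ψ := (bmap 𝒳 e).appTop.hom)
    (F := (Φ.res e).comp (chi Φ a).toAddMonoidHom) (G := (chi Φ a').toAddMonoidHom.comp (resM e h))
    (fun r m => ?_) (fun r m => ?_) fun m => ?_) v
  · show Φ.res e (chi Φ a (r • m)) = _
    rw [map_smul, Φ.sl e]
    rfl
  · show chi Φ a' (resM e h (r • m)) = _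
    rw [isSL_resM e h, map_smul]
    rfl
  · show Φ.res e (chi Φ a (unitM Φ C a m)) = chi Φ a' (resM e h (unitM Φ C a m))
    rw [chi_unit, resM_unit, chi_unit, ← Φ.res_comp, h]

theorem chi_psi {d₀ : 𝒳.obj} [IsAffine (sch 𝒳 d₀)] {P : d₀ ⟶ C.x} (hP : Flat (bmap 𝒳 P)) {d : 𝒳.obj}
    [IsAffine (sch 𝒳 d)] (f : d ⟶ d₀) {a' : d ⟶ C.x} (h : f ≫ P = a') (t : Φ.obj d₀) :
    chi Φ a' (psi hP f h t) = Φ.res f t := by
  refine DFunLike.congr_fun (sl_ext (Φ.bc P hP) (ψ := (bmap 𝒳 f).appTop.hom)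
    (F := (chi Φ a').toAddMonoidHom.comp (psi hP f h)) (G := Φ.res f)
    (fun r m => ?_) (Φ.sl f) fun m => ?_) t
  · show chi Φ a' (psi hP f h (r • m)) = _
    rw [isSL_psi hP f h, map_smul]
    rfl
  · show chi Φ a' (psi hP f h (Φ.res P m)) = _
    rw [psi_res, chi_unit, ← Φ.res_comp, h]

theorem eqΦ {o : 𝒳.obj} [IsAffine (sch 𝒳 o)] {J : Type*} (D : Cover o J) {v v' : Φ.obj o}
    (h : ∀ j, haveI := D.aff j; Φ.res (D.e j) v = Φ.res (D.e j) v') : v = v' := by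
  let : ∀ j, Algebra Γ(sch 𝒳 o, ⊤) Γ(sch 𝒳 (D.E j), ⊤) := fun j => (bmap 𝒳 (D.e j)).appTop.hom.toAlgebra
  have : ∀ j, IsAffine (sch 𝒳 (D.E j)) := D.aff
  have : ∀ j, Module.Flat Γ(sch 𝒳 o, ⊤) Γ(sch 𝒳 (D.E j), ⊤) := fun j =>
    have := D.flat j
    flat_appTop (bmap 𝒳 (D.e j))
  rw [← sub_eq_zero]
  refine eq_zero_of_isBC (fun j => Γ(sch 𝒳 (D.E j), ⊤))
    (jointlySurj_appTop (fun j => bmap 𝒳 (D.e j)) (fun j => rfl) D.surj)
    (fun j => Φ.res (D.e j)) (fun j => Φ.bc (D.e j) (D.flat j)) _ fun j => ?_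
  rw [map_sub, sub_eq_zero]
  exact h j

theorem chi_kappa {o : 𝒳.obj} [ho : IsAffine (sch 𝒳 o)] (a b : o ⟶ C.x) (v : MM Φ C b) :
    chi Φ a (kappa hfib a b v) = chi Φ b v := by
  refine LinearMap.congr_fun (bc_ext (isBC_mk (bmap 𝒳 b).appTop.hom (Φ.obj C.x))
    (F := (chi Φ a).comp (kappa hfib a b)) (s := Set.univ) Submodule.span_univ fun s _ => ?_) v
  show chi Φ a (kappa hfib a b (unitM Φ C b s)) = chi Φ b (unitM Φ C b s)
  rw [kappa_unit, chi_unit]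
  obtain ⟨J, _, D, hD⟩ := C.overlap o ho a b
  refine eqΦ Φ D fun j => ?_
  have := D.aff j
  obtain ⟨c, hp, hq⟩ := hD j
  rw [res_chi Φ (D.e j) rfl, resM_kappaVal hfib a b s _ c hp hq, kv, chi_psi Φ C.flat c hp, ← Φ.res_comp,
    ← Φ.res_comp, hq]

/-- The map from the extension to the given modules. -/
noncomputable def phiA (o : 𝒳.obj) [IsAffine (sch 𝒳 o)] (a : o ⟶ C.x) :
    Γ((extQ (C := C) Φ hfib).obj.obj o, ⊤) →ₗ[Γ(sch 𝒳 o, ⊤)] Φ.obj o :=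
  { toFun := fun s => chi Φ a (extEv Φ hfib o a s)
    map_add' := fun s t => (congrArg (chi Φ a) (map_add (extEv Φ hfib o a) s t)).trans (map_add (chi Φ a) _ _)
    map_smul' := fun r s => (congrArg (chi Φ a) (extEv_smul Φ hfib o a r s)).trans (map_smul (chi Φ a) r _) }

theorem phiA_apply (o : 𝒳.obj) [IsAffine (sch 𝒳 o)] (a : o ⟶ C.x) (s : Γ((extQ (C := C) Φ hfib).obj.obj o, ⊤)) :
    phiA Φ hfib o a s = chi Φ a (extEv Φ hfib o a s) := rfl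

theorem phiA_natural {o' o : 𝒳.obj} [IsAffine (sch 𝒳 o')] [IsAffine (sch 𝒳 o)] (e : o' ⟶ o)
    (a' : o' ⟶ C.x) (a : o ⟶ C.x) (s : Γ((extQ (C := C) Φ hfib).obj.obj o, ⊤)) :
    phiA Φ hfib o' a' ((extQ (C := C) Φ hfib).obj.mapTop e s) = Φ.res e (phiA Φ hfib o a s) := by
  rw [phiA_apply, phiA_apply, extEv_mapTop Φ hfib e a, chi_kappa, ← res_chi Φ e rfl]

include hfib in
/-- Extension of a functor of modules on affine objects to a quasi-coherent module. -/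
theorem exists_ext (C : Chart2 𝒳) : ∃ G : StMod.QCoh 𝒳,
    ∃ φ : ∀ (o : 𝒳.obj) [IsAffine (sch 𝒳 o)], Nonempty (o ⟶ C.x) →
      (Γ(G.obj.obj o, ⊤) →ₗ[Γ(sch 𝒳 o, ⊤)] Φ.obj o),
      (∀ (o : 𝒳.obj) [IsAffine (sch 𝒳 o)] (h : Nonempty (o ⟶ C.x)) (a : o ⟶ C.x), Flat (bmap 𝒳 a) →
        Function.Bijective (φ o h)) ∧
      ∀ {o' o : 𝒳.obj} [IsAffine (sch 𝒳 o')] [IsAffine (sch 𝒳 o)] (e : o' ⟶ o)
        (h' : Nonempty (o' ⟶ C.x)) (h : Nonempty (o ⟶ C.x)) (s : Γ(G.obj.obj o, ⊤)),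
        φ o' h' (G.obj.mapTop e s) = Φ.res e (φ o h s) := by
  refine ⟨extQ (C := C) Φ hfib, fun o _ h => phiA Φ hfib o h.some, fun o _ h a ha => ?_,
    fun e h' h s => phiA_natural Φ hfib e _ _ s⟩
  have heq : phiA Φ hfib o h.some = phiA Φ hfib o a := LinearMap.ext fun s => by
    have := phiA_natural Φ hfib (𝟙 o) h.some a s
    rwa [StMod.Mod.mapTop_id, Φ.res_id] at this
  show Function.Bijective (phiA Φ hfib o h.some)
  rw [heq]
  show Function.Bijective (fun s => chi Φ a (extEv Φ hfib o a s))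
  refine Function.Bijective.comp (g := chi Φ a) ?_ (bijective_extEv Φ hfib o a)
  refine Function.Bijective.of_comp_iff (chi Φ a) (bijective_psi Φ ha) |>.1 ?_
  have : (chi Φ a) ∘ psi ha (𝟙 o) (Category.id_comp a) = id := funext fun t =>
    (chi_psi Φ ha (𝟙 o) (Category.id_comp a) t).trans (Φ.res_id o t)
  rw [this]
  exact Function.bijective_id

end Groth.Agent.H14.GenFam
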