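import Groth.Agent.H14.GenFam.HomBC
import Groth.Agent.H14.GenFam.ExtEval
import Groth.Agent.Lib.DescAlg.FPPush
import Mathlib.Algebra.Module.TransferInstance

/-!
Generating families on the target pull back to families detecting morphisms.
-/

set_option autoImplicit false
set_option backward.isDefEq.respectTransparency false
set_option backward.isDefEq.respectTransparency.types false
set_option linter.style.haveILetI false

universe u

open CategoryTheory CategoryTheory.Limits AlgebraicGeometry Opposite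
open StMod (sch bmap fibCat fibFst baseOver)
open Groth.Agent.Lib Groth.Agent.Lib.AlgStack
open Groth.Agent.H14.ModDesc
open Groth.Agent.H14.AffPush
open TensorProduct

namespace Groth.Agent.H14.GenFam

variable {S : Scheme.{u}} {𝒳 𝒴 : AlgSt.Cat S}

/-- Transport of base change maps along linear equivalences. -/
theorem isBC_of_linearEquiv {A B : Type u} [CommRing A] [CommRing B] {φ : A →+* B} {M M' : Type*} {N N' : Type*}
    [AddCommGroup M] [Module A M] [AddCommGroup M'] [Module A M'] [AddCommGroup N] [Module B N] [AddCommGroup N']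
    [Module B N'] {g : M →+ N} (hg : IsBC φ g) (e : M' ≃ₗ[A] M) (e' : N ≃ₗ[B] N') :
    IsBC φ (e'.toAddEquiv.toAddMonoidHom.comp (g.comp e.toAddEquiv.toAddMonoidHom)) := by
  let := φ.toAlgebra
  obtain ⟨hs, hb⟩ := (isBC_iff rfl).1 hg
  have hs' : IsSL φ (e'.toAddEquiv.toAddMonoidHom.comp (g.comp e.toAddEquiv.toAddMonoidHom)) := fun a m => by
    show e' (g (e (a • m))) = φ a • e' (g (e m))
    rw [map_smul, ← map_smul e', hg.sl]
  refine (isBC_iff rfl).2 ⟨hs', ?_⟩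
  have key : ∀ z, bcMap A B _ hs' z = e' (bcMap A B g hs (e.toLinearMap.lTensor B z)) := fun z => by
    induction z with
    | zero => simp
    | tmul b m => rw [bcMap_tmul, LinearMap.lTensor_tmul, bcMap_tmul, map_smul]; rfl
    | add x y hx hy => simp only [map_add, hx, hy]
  rw [show ⇑(bcMap A B _ hs') = e' ∘ bcMap A B g hs ∘ (LinearEquiv.lTensor B e) from funext key]
  exact e'.bijective.comp (hb.comp (LinearEquiv.lTensor B e).bijective)

/-- What is needed to push forward morphisms out of a module. -/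
structure FibData (f : 𝒳 ⥤ᵇ 𝒴) (E : StMod.QCoh 𝒳) : Prop where
  fibX : FibCat.IsFibGrpd 𝒳.p
  fibY : FibCat.IsFibGrpd 𝒴.p
  chart : ∀ y : 𝒴.obj, IsAffine (sch 𝒴 y) → Nonempty (Chart (fibCat f y))
  fp : ∀ x : 𝒳.obj, IsAffine (sch 𝒳 x) → Module.FinitePresentation Γ(sch 𝒳 x, ⊤) Γ(E.obj.obj x, ⊤)

variable {f : 𝒳 ⥤ᵇ 𝒴} {E : StMod.QCoh 𝒳}

theorem FibData.small (H : FibData f E) (M : StMod.QCoh 𝒳) (y : 𝒴.obj) [hy : IsAffine (sch 𝒴 y)] :
    Small.{u} (homFam f E M y) := by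
  obtain ⟨C⟩ := H.chart y hy
  have := H.fp C.x.left C.affx
  obtain ⟨n, e, he⟩ := Module.Finite.exists_fin (R := Γ(sch 𝒳 C.x.left, ⊤)) (M := Γ(E.obj.obj C.x.left, ⊤))
  exact small_homFam H.fibX (C := C) ⟨n, e, he⟩

/-- The families of morphisms on affine objects, in a small universe. -/
def SHom (H : FibData f E) (M : StMod.QCoh 𝒳) (y : 𝒴.obj) [IsAffine (sch 𝒴 y)] : Type u :=
  @Shrink.{u} (homFam f E M y) (H.small M y)

noncomputable instance SHom.grp (H : FibData f E) (M : StMod.QCoh 𝒳) (y : 𝒴.obj) [IsAffine (sch 𝒴 y)] :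
    AddCommGroup (SHom H M y) :=
  @Equiv.addCommGroup _ _ (@equivShrink.{u} (homFam f E M y) (H.small M y)).symm _

noncomputable instance SHom.mod (H : FibData f E) (M : StMod.QCoh 𝒳) (y : 𝒴.obj) [IsAffine (sch 𝒴 y)] :
    Module Γ(sch 𝒴 y, ⊤) (SHom H M y) :=
  Equiv.module Γ(sch 𝒴 y, ⊤) (@equivShrink.{u} (homFam f E M y) (H.small M y)).symm

/-- The identification with the families. -/
noncomputable def FibData.shr (H : FibData f E) (M : StMod.QCoh 𝒳) (y : 𝒴.obj) [IsAffine (sch 𝒴 y)] :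
    SHom H M y ≃ₗ[Γ(sch 𝒴 y, ⊤)] homFam f E M y :=
  Equiv.linearEquiv Γ(sch 𝒴 y, ⊤) (@equivShrink.{u} (homFam f E M y) (H.small M y)).symm

attribute [irreducible] SHom SHom.grp SHom.mod FibData.shr

theorem sRes_add (H : FibData f E) (M : StMod.QCoh 𝒳) {y' y : 𝒴.obj} [IsAffine (sch 𝒴 y')]
    [IsAffine (sch 𝒴 y)] (e : y' ⟶ y) (a b : SHom H M y) :
    (H.shr M y').symm (homRes e (H.shr M y (a + b))) =
      (H.shr M y').symm (homRes e (H.shr M y a)) + (H.shr M y').symm (homRes e (H.shr M y b)) := by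
  have h1 : H.shr M y (a + b) = H.shr M y a + H.shr M y b := LinearEquiv.map_add _ _ _
  have h2 : homRes e (H.shr M y a + H.shr M y b) = homRes e (H.shr M y a) + homRes e (H.shr M y b) :=
    AddMonoidHom.map_add _ _ _
  exact (congrArg _ (congrArg _ h1)).trans ((congrArg _ h2).trans (LinearEquiv.map_add _ _ _))

/-- Restriction of the small families. -/
noncomputable def sRes (H : FibData f E) (M : StMod.QCoh 𝒳) {y' y : 𝒴.obj} [IsAffine (sch 𝒴 y')]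
    [IsAffine (sch 𝒴 y)] (e : y' ⟶ y) : SHom H M y →+ SHom H M y' :=
  AddMonoidHom.mk' (fun τ => (H.shr M y').symm (homRes e (H.shr M y τ))) (sRes_add H M e)

theorem shr_sRes (H : FibData f E) (M : StMod.QCoh 𝒳) {y' y : 𝒴.obj} [IsAffine (sch 𝒴 y')]
    [IsAffine (sch 𝒴 y)] (e : y' ⟶ y) (τ : SHom H M y) : H.shr M y' (sRes H M e τ) = homRes e (H.shr M y τ) :=
  (H.shr M y').apply_symm_apply _

theorem isBC_sRes (H : FibData f E) (M : StMod.QCoh 𝒳) {y' y : 𝒴.obj} [IsAffine (sch 𝒴 y')]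
    [hy : IsAffine (sch 𝒴 y)] (e : y' ⟶ y) [Flat (bmap 𝒴 e)] :
    IsBC (bmap 𝒴 e).appTop.hom (sRes H M e) := by
  obtain ⟨C⟩ := H.chart y hy
  have h := isBC_of_linearEquiv (isBC_homRes (E := E) (M := M) e C (H.fp C.x.left C.affx) H.fibX H.fibY)
    (H.shr M y) (H.shr M y').symm
  refine h.congr rfl (AddMonoidHom.ext fun τ => ?_)
  rfl

attribute [irreducible] sRes

/-- The functor of the families of morphisms. -/
noncomputable def homFlat (H : FibData f E) (M : StMod.QCoh 𝒳) : FlatFun 𝒴 where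
  obj y := SHom H M y
  grp y := inferInstance
  mod y := inferInstance
  res := fun {y' y} _ _ e => sRes H M e
  sl := fun {y' y} _ _ e r τ => (H.shr M y').injective ((shr_sRes H M e _).trans
    ((congrArg (homRes e) (LinearEquiv.map_smul (H.shr M y) r τ)).trans ((isSL_homRes e r _).trans
      ((congrArg (_ • ·) (shr_sRes H M e τ).symm).trans (LinearEquiv.map_smul (H.shr M y') _ _).symm))))
  res_id y _ τ := (H.shr M y).injective ((shr_sRes H M (𝟙 y) τ).trans (homRes_id y _))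
  res_comp := fun {y'' y' y} _ _ _ e' e τ => (H.shr M y'').injective ((shr_sRes H M (e' ≫ e) τ).trans
    ((homRes_comp e' e _).trans ((congrArg (homRes e') (shr_sRes H M e τ).symm).trans
      (shr_sRes H M e' (sRes H M e τ)).symm)))
  bc := fun {y' y} _ _ e _ => isBC_sRes H M e

/-- The families as families. -/
noncomputable def FibData.val (H : FibData f E) {M : StMod.QCoh 𝒳} {y : 𝒴.obj} [IsAffine (sch 𝒴 y)]
    (t : (homFlat H M).obj y) : homFam f E M y :=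
  H.shr M y t

theorem FibData.val_add (H : FibData f E) {M : StMod.QCoh 𝒳} {y : 𝒴.obj} [IsAffine (sch 𝒴 y)]
    (t t' : (homFlat H M).obj y) : H.val (t + t') = H.val t + H.val t' :=
  map_add (H.shr M y) t t'

theorem FibData.val_smul (H : FibData f E) {M : StMod.QCoh 𝒳} {y : 𝒴.obj} [IsAffine (sch 𝒴 y)]
    (r : Γ(sch 𝒴 y, ⊤)) (t : (homFlat H M).obj y) : H.val (r • t) = r • H.val t :=
  map_smul (H.shr M y) r t

theorem FibData.val_res (H : FibData f E) {M : StMod.QCoh 𝒳} {y' y : 𝒴.obj} [IsAffine (sch 𝒴 y')]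
    [IsAffine (sch 𝒴 y)] (e : y' ⟶ y) (t : (homFlat H M).obj y) :
    H.val ((homFlat H M).res e t) = homRes e (H.val t) :=
  shr_sRes H M e t

theorem FibData.post_add (H : FibData f E) {M N : StMod.QCoh 𝒳} (u : M ⟶ N) (y : 𝒴.obj) [IsAffine (sch 𝒴 y)]
    (t t' : (homFlat H M).obj y) :
    (H.shr N y).symm (homPost u y (H.val (t + t'))) =
      (H.shr N y).symm (homPost u y (H.val t)) + (H.shr N y).symm (homPost u y (H.val t')) :=
  (congrArg _ (congrArg _ (H.val_add t t'))).trans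
    ((congrArg _ (LinearMap.map_add (homPost u y) _ _)).trans (LinearEquiv.map_add _ _ _))

theorem FibData.post_smul (H : FibData f E) {M N : StMod.QCoh 𝒳} (u : M ⟶ N) (y : 𝒴.obj) [IsAffine (sch 𝒴 y)]
    (r : Γ(sch 𝒴 y, ⊤)) (t : (homFlat H M).obj y) :
    (H.shr N y).symm (homPost u y (H.val (r • t))) = r • (H.shr N y).symm (homPost u y (H.val t)) :=
  (congrArg _ (congrArg _ (H.val_smul r t))).trans
    ((congrArg _ (LinearMap.map_smul (homPost u y) r _)).trans (LinearEquiv.map_smul _ _ _))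

/-- The map of functors induced by a morphism. -/
noncomputable def FibData.post (H : FibData f E) {M N : StMod.QCoh 𝒳} (u : M ⟶ N) (y : 𝒴.obj) [IsAffine (sch 𝒴 y)] :
    (homFlat H M).obj y →ₗ[Γ(sch 𝒴 y, ⊤)] (homFlat H N).obj y where
  toFun t := (H.shr N y).symm (homPost u y (H.val t))
  map_add' := H.post_add u y
  map_smul' := H.post_smul u y

theorem FibData.val_post (H : FibData f E) {M N : StMod.QCoh 𝒳} (u : M ⟶ N) (y : 𝒴.obj) [IsAffine (sch 𝒴 y)]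
    (t : (homFlat H M).obj y) : H.val (H.post u y t) = homPost u y (H.val t) :=
  (H.shr N y).apply_symm_apply _

theorem FibData.val_injective (H : FibData f E) {M : StMod.QCoh 𝒳} {y : 𝒴.obj} [IsAffine (sch 𝒴 y)] :
    Function.Injective (H.val (M := M) (y := y)) :=
  (H.shr M y).injective

theorem isAffine_fobj (f : 𝒳 ⥤ᵇ 𝒴) (ξ : 𝒳.obj) [IsAffine (sch 𝒳 ξ)] : IsAffine (sch 𝒴 (f.obj ξ)) := by
  show IsAffine (𝒴.p.obj (f.obj ξ)).left
  rw [f.w_obj]
  exact ‹IsAffine (sch 𝒳 ξ)›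

/-- A bilinear pairing into `M` of sections of a module on the target and sections of `E`, on the objects over the
chart. -/
structure Pairing (f : 𝒳 ⥤ᵇ 𝒴) (x : 𝒴.obj) (E : StMod.QCoh 𝒳) (F : StMod.QCoh 𝒴) (M : StMod.QCoh 𝒳) where
  /-- the pairing -/
  B : ∀ (ξ : 𝒳.obj) [IsAffine (sch 𝒳 ξ)], Nonempty (f.obj ξ ⟶ x) →
    Γ(F.obj.obj (f.obj ξ), ⊤) → (Γ(E.obj.obj ξ, ⊤) →ₗ[Γ(sch 𝒳 ξ, ⊤)] Γ(M.obj.obj ξ, ⊤))
  map_add : ∀ (ξ : 𝒳.obj) [IsAffine (sch 𝒳 ξ)] (h : Nonempty (f.obj ξ ⟶ x)) t t' s,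
    B ξ h (t + t') s = B ξ h t s + B ξ h t' s
  map_smul : ∀ (ξ : 𝒳.obj) [IsAffine (sch 𝒳 ξ)] (h : Nonempty (f.obj ξ ⟶ x)) (r : Γ(sch 𝒴 (f.obj ξ), ⊤)) t s,
    B ξ h (r • t) s = (baseOver f ξ (𝟙 (f.obj ξ))).left.appTop.hom r • B ξ h t s
  natural : ∀ {ξ' ξ : 𝒳.obj} [IsAffine (sch 𝒳 ξ')] [IsAffine (sch 𝒳 ξ)] (k : ξ' ⟶ ξ)
    (h' : Nonempty (f.obj ξ' ⟶ x)) (h : Nonempty (f.obj ξ ⟶ x)) t s,
    M.obj.mapTop k (B ξ h t s) = B ξ' h' (F.obj.mapTop (f.map k) t) (E.obj.mapTop k s)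

variable {C : Chart2 𝒴}

/-- The maps on the extensions induced by a morphism. -/
theorem exists_postHom (H : FibData f E) (hY : FibCat.IsFibGrpd 𝒴.p) (C : Chart2 𝒴) {M N : StMod.QCoh 𝒳} (u : M ⟶ N)
    {G G' : StMod.QCoh 𝒴}
    (φ : ∀ (o : 𝒴.obj) [IsAffine (sch 𝒴 o)], Nonempty (o ⟶ C.x) →
      (Γ(G.obj.obj o, ⊤) →ₗ[Γ(sch 𝒴 o, ⊤)] (homFlat H M).obj o))
    (φ' : ∀ (o : 𝒴.obj) [IsAffine (sch 𝒴 o)], Nonempty (o ⟶ C.x) →
      (Γ(G'.obj.obj o, ⊤) →ₗ[Γ(sch 𝒴 o, ⊤)] (homFlat H N).obj o))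
    (hφn : ∀ {o' o : 𝒴.obj} [IsAffine (sch 𝒴 o')] [IsAffine (sch 𝒴 o)] (e : o' ⟶ o)
      (h' : Nonempty (o' ⟶ C.x)) (h : Nonempty (o ⟶ C.x)) (s : Γ(G.obj.obj o, ⊤)),
      φ o' h' (G.obj.mapTop e s) = (homFlat H M).res e (φ o h s))
    (hφn' : ∀ {o' o : 𝒴.obj} [IsAffine (sch 𝒴 o')] [IsAffine (sch 𝒴 o)] (e : o' ⟶ o)
      (h' : Nonempty (o' ⟶ C.x)) (h : Nonempty (o ⟶ C.x)) (s : Γ(G'.obj.obj o, ⊤)),
      φ' o' h' (G'.obj.mapTop e s) = (homFlat H N).res e (φ' o h s))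
    (hx0 : Nonempty (C.x ⟶ C.x)) (hw0 : Nonempty (C.w ⟶ C.x))
    (ex : Γ(G'.obj.obj C.x, ⊤) ≃ₗ[Γ(sch 𝒴 C.x, ⊤)] (homFlat H N).obj C.x) (hex : ∀ s, ex s = φ' C.x hx0 s)
    (ew : Γ(G'.obj.obj C.w, ⊤) ≃ₗ[Γ(sch 𝒴 C.w, ⊤)] (homFlat H N).obj C.w) (hew : ∀ s, ew s = φ' C.w hw0 s) :
    ∃ Gu : G.obj ⟶ G'.obj, ∀ s, (Gu.app C.x).app ⊤ s = ex.symm (H.post u C.x (φ C.x hx0 s)) := by
  refine Chart.exists_hom_of_linear hY C.toChart G G'
    (ex.symm.toLinearMap.comp ((H.post u C.x).comp (φ C.x hx0)))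
    ⟨ew.symm.toLinearMap.comp ((H.post u C.w).comp (φ C.w hw0)), fun s => ?_⟩
  have key : ∀ (r : C.w ⟶ C.x), ew.symm (H.post u C.w (φ C.w hw0 (G.obj.mapTop r s))) =
      G'.obj.mapTop r (ex.symm (H.post u C.x (φ C.x hx0 s))) := fun r => by
    have e1 := hφn r hw0 hx0 s
    have e2 := hφn' r hw0 hx0 (ex.symm (H.post u C.x (φ C.x hx0 s)))
    have e3 : φ' C.x hx0 (ex.symm (H.post u C.x (φ C.x hx0 s))) = H.post u C.x (φ C.x hx0 s) :=
      (hex _).symm.trans (ex.apply_symm_apply _)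
    apply ew.injective
    refine (ew.apply_symm_apply _).trans (Eq.trans ?_ (hew _).symm)
    refine Eq.trans ?_ (e2.trans (congrArg ((homFlat H N).res r) e3)).symm
    apply H.val_injective
    refine ((congrArg (fun z => H.val (H.post u C.w z)) e1).trans (H.val_post u _ _)).trans ?_
    refine (congrArg (homPost u C.w) (H.val_res r _)).trans ?_
    refine (homRes_homPost u r _).symm.trans ?_
    exact (congrArg (homRes r) (H.val_post u _ _).symm).trans (H.val_res r _).symm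
  exact ⟨key C.p, key C.q⟩

variable {G : StMod.QCoh 𝒴} {F : StMod.QCoh 𝒴} {M : StMod.QCoh 𝒳}

/-- The family of maps attached to a section. -/
noncomputable def pairVal (H : FibData f E)
    (φ : ∀ (o : 𝒴.obj) [IsAffine (sch 𝒴 o)], Nonempty (o ⟶ C.x) →
      (Γ(G.obj.obj o, ⊤) →ₗ[Γ(sch 𝒴 o, ⊤)] (homFlat H M).obj o))
    (ψ : F.obj ⟶ G.obj) (y : 𝒴.obj) [IsAffine (sch 𝒴 y)] (h : Nonempty (y ⟶ C.x)) (t : Γ(F.obj.obj y, ⊤)) :
    homFam f E M y :=
  H.val (φ y h ((ψ.app y).app ⊤ t))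

variable (H : FibData f E)
  (φ : ∀ (o : 𝒴.obj) [IsAffine (sch 𝒴 o)], Nonempty (o ⟶ C.x) →
    (Γ(G.obj.obj o, ⊤) →ₗ[Γ(sch 𝒴 o, ⊤)] (homFlat H M).obj o))
  (hφn : ∀ {o' o : 𝒴.obj} [IsAffine (sch 𝒴 o')] [IsAffine (sch 𝒴 o)] (e : o' ⟶ o)
    (h' : Nonempty (o' ⟶ C.x)) (h : Nonempty (o ⟶ C.x)) (s : Γ(G.obj.obj o, ⊤)),
    φ o' h' (G.obj.mapTop e s) = (homFlat H M).res e (φ o h s))
  (ψ : F.obj ⟶ G.obj)

include hφn in
theorem pairVal_natural {y' y : 𝒴.obj} [IsAffine (sch 𝒴 y')] [IsAffine (sch 𝒴 y)] (e : y' ⟶ y)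
    (h' : Nonempty (y' ⟶ C.x)) (h : Nonempty (y ⟶ C.x)) (t : Γ(F.obj.obj y, ⊤)) :
    pairVal H φ ψ y' h' (F.obj.mapTop e t) = homRes e (pairVal H φ ψ y h t) :=
  ((congrArg (fun z => H.val (φ y' h' z)) (StMod.Mod.mapTop_app ψ e t).symm).trans
    (congrArg H.val (hφn e h' h _))).trans (H.val_res e _)

theorem pairVal_add (y : 𝒴.obj) [IsAffine (sch 𝒴 y)] (h : Nonempty (y ⟶ C.x)) (t t' : Γ(F.obj.obj y, ⊤)) :
    pairVal H φ ψ y h (t + t') = pairVal H φ ψ y h t + pairVal H φ ψ y h t' :=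
  ((congrArg (fun z => H.val (φ y h z)) (_root_.map_add ((ψ.app y).app ⊤).hom t t')).trans
    (congrArg H.val (LinearMap.map_add (φ y h) _ _))).trans (H.val_add _ _)

theorem pairVal_smul (y : 𝒴.obj) [IsAffine (sch 𝒴 y)] (h : Nonempty (y ⟶ C.x)) (r : Γ(sch 𝒴 y, ⊤))
    (t : Γ(F.obj.obj y, ⊤)) : pairVal H φ ψ y h (r • t) = r • pairVal H φ ψ y h t :=
  ((congrArg (fun z => H.val (φ y h z)) (Scheme.Modules.Hom.app_smul (ψ.app y) r t)).trans
    (congrArg H.val (LinearMap.map_smul (φ y h) r _))).trans (H.val_smul r _)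

theorem pairVal_smul_val (ξ : 𝒳.obj) (hξ : IsAffine (sch 𝒳 ξ)) [IsAffine (sch 𝒴 (f.obj ξ))]
    (h : Nonempty (f.obj ξ ⟶ C.x)) (r : Γ(sch 𝒴 (f.obj ξ), ⊤)) (t : Γ(F.obj.obj (f.obj ξ), ⊤))
    (l : AObj f (f.obj ξ)) (s : Γ(E.obj.obj l.ξ, ⊤)) :
    (pairVal H φ ψ (f.obj ξ) h (r • t)).1 l s = l.str.appTop.hom r • (pairVal H φ ψ (f.obj ξ) h t).1 l s := by
  have key : ∀ A B : homFam f E M (f.obj ξ), A = r • B → A.1 l s = l.str.appTop.hom r • B.1 l s := fun A B e => by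
    subst e
    exact homFam_smul_apply r B l s
  exact key _ _ (pairVal_smul H φ ψ (f.obj ξ) h r t)

/-- The pairing attached to a morphism into the extension. -/
noncomputable def pairing : Pairing f C.x E F M where
  B ξ _ h t :=
    haveI := isAffine_fobj f ξ
    (pairVal H φ ψ (f.obj ξ) h t).1 ⟨ξ, 𝟙 (f.obj ξ), ‹IsAffine (sch 𝒳 ξ)›⟩
  map_add ξ _ h t t' s := by
    haveI := isAffine_fobj f ξ
    exact congrArg (fun z : homFam f E M (f.obj ξ) => z.1 ⟨ξ, 𝟙 (f.obj ξ), ‹IsAffine (sch 𝒳 ξ)›⟩ s)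
      (pairVal_add H φ ψ (f.obj ξ) h t t')
  map_smul ξ _ h r t s := by
    haveI := isAffine_fobj f ξ
    exact pairVal_smul_val H φ ψ ξ ‹IsAffine (sch 𝒳 ξ)› h r t ⟨ξ, 𝟙 (f.obj ξ), ‹IsAffine (sch 𝒳 ξ)›⟩ s
  natural := fun {ξ' ξ} _ _ k h' h t s => by
    haveI := isAffine_fobj f ξ
    haveI := isAffine_fobj f ξ'
    have e1 := congrArg (fun z : homFam f E M (f.obj ξ') => z.1 ⟨ξ', 𝟙 (f.obj ξ'), ‹IsAffine (sch 𝒳 ξ')›⟩ (E.obj.mapTop k s))
      (pairVal_natural H φ hφn ψ (f.map k) h' h t)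
    refine Eq.trans ?_ e1.symm
    exact (pairVal H φ ψ (f.obj ξ) h t).2
      (l' := ⟨ξ', 𝟙 (f.obj ξ') ≫ f.map k, ‹IsAffine (sch 𝒳 ξ')›⟩)
      (l := ⟨ξ, 𝟙 (f.obj ξ), ‹IsAffine (sch 𝒳 ξ)›⟩) k
      ((Category.comp_id (f.map k)).trans (Category.id_comp (f.map k)).symm) s

set_option maxHeartbeats 800000 in
/-- If the family `F` generates on the target and `E` relative to the map, a morphism killing all the pairings is
zero. -/
theorem eq_zero_of_pairings (C : Chart2 𝒴) {ι : Type*} (E : ι → StMod.QCoh 𝒳) (hE : ∀ i, FibData f (E i))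
    (hgen : StMod.IsGenFam (fun i => (StMod.comapQ (fibFst f C.x)).obj (E i))) {κ : Type*}
    (F : κ → StMod.QCoh 𝒴) (hF : StMod.IsGenFam F) (hX : FibCat.IsFibGrpd 𝒳.p) (hY : FibCat.IsFibGrpd 𝒴.p)
    {M N : StMod.QCoh 𝒳} (u : M ⟶ N)
    (hu : ∀ (i : ι) (j : κ) (b : Pairing f C.x (E i) (F j) M) (ξ : 𝒳.obj) [IsAffine (sch 𝒳 ξ)]
      (h : Nonempty (f.obj ξ ⟶ C.x)) t s, (u.hom.app ξ).app ⊤ (b.B ξ h t s) = 0) : u = 0 := by
  have hx0 : Nonempty (C.x ⟶ C.x) := ⟨𝟙 _⟩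
  have hflx : Flat (bmap 𝒴 (𝟙 C.x)) := by
    rw [StMod.bmap_id]
    infer_instance
  -- the morphisms on objects over the chart are killed
  have hkill : ∀ i (t : (homFlat (hE i) M).obj C.x), (hE i).post u C.x t = 0 := fun i => by
    let H := hE i
    obtain ⟨G, φ, hφb, hφn⟩ := exists_ext (homFlat H M) hY C
    obtain ⟨G', φ', hφb', hφn'⟩ := exists_ext (homFlat H N) hY C
    let ex := LinearEquiv.ofBijective _ (hφb' C.x hx0 (𝟙 _) hflx)
    have hw0 : Nonempty (C.w ⟶ C.x) := ⟨C.p⟩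
    let ew := LinearEquiv.ofBijective _ (hφb' C.w hw0 C.p C.flat)
    obtain ⟨Gu, hGu⟩ := exists_postHom H hY C u φ φ' hφn hφn' hx0 hw0 ex (fun s => rfl) ew (fun s => rfl)
    have hzero : ∀ (j : κ) (ψ : (F j).obj ⟶ G.obj), ψ ≫ Gu = 0 := fun j ψ => by
      have haff : ∀ (ξ : 𝒳.obj) [IsAffine (sch 𝒳 ξ)], IsAffine (sch 𝒴 (f.obj ξ)) := fun ξ _ => isAffine_fobj f ξ
      refine C.toChart.hom_eq_zero hY _ fun t => ?_
      show (Gu.app C.x).app ⊤ ((ψ.app C.x).app ⊤ t) = 0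
      rw [hGu]
      show ex.symm (H.post u C.x (φ C.x hx0 ((ψ.app C.x).app ⊤ t))) = 0
      rw [LinearEquiv.map_eq_zero_iff]
      apply H.val_injective
      rw [H.val_post]
      refine (Subtype.ext (funext fun l => LinearMap.ext fun s => ?_)).trans (map_zero (H.shr N C.x)).symm
      haveI := haff l.ξ
      show (u.hom.app l.ξ).app ⊤ ((pairVal H φ ψ C.x hx0 t).1 l s) = 0
      refine Eq.trans (congrArg _ ?_) (hu i j (pairing H φ hφn ψ) l.ξ ⟨l.α⟩ ((F j).obj.mapTop l.α t) s)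
      refine (homFam_congr (pairVal H φ ψ C.x hx0 t) (Category.id_comp l.α) l.aff s).symm.trans ?_
      exact (congrArg (fun z : homFam f (E i) M (f.obj l.ξ) => z.1 ⟨l.ξ, 𝟙 (f.obj l.ξ), l.aff⟩ s)
        (pairVal_natural H φ hφn ψ l.α ⟨l.α⟩ hx0 t)).symm
    have hG0 : Gu = 0 := congrArg InducedCategory.Hom.hom
      ((StMod.isGenFam_iff F).1 hF (ObjectProperty.homMk Gu : G ⟶ G') hzero)
    intro t
    obtain ⟨s, rfl⟩ := (hφb C.x hx0 (𝟙 _) hflx).surjective t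
    apply ex.symm.injective
    rw [map_zero]
    exact (hGu s).symm.trans (by rw [hG0]; rfl)
  -- hence the morphism is zero over the chart
  have hres : (StMod.comapQ (fibFst f C.x)).map u = 0 := by
    refine (StMod.isGenFam_iff _).1 hgen _ fun i ψ => ?_
    refine hom_ext_affine (isFibGrpd_fibCat hX f C.x) ((StMod.comapQ (fibFst f C.x)).obj N).property fun o ho s => ?_
    obtain ⟨t, ht⟩ := ((hE i).shr M C.x).surjective (ofHom ψ)
    have h := congrArg (fun z => (hE i).val z) (hkill i t)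
    simp only [(hE i).val_post] at h
    have h2 : (homPost u C.x (ofHom ψ)).1 ⟨o.left, o.hom, ho⟩ s = 0 := by
      rw [← ht]
      refine (congrArg (fun z : homFam f (E i) N C.x => z.1 ⟨o.left, o.hom, ho⟩ s) h).trans ?_
      exact congrArg (fun z : homFam f (E i) N C.x => z.1 ⟨o.left, o.hom, ho⟩ s) (map_zero ((hE i).shr N C.x))
    exact h2
  refine InducedCategory.hom_ext (hom_ext_affine hX N.property fun ξ hξ s => ?_)
  have haf : IsAffine (sch 𝒴 (f.obj ξ)) := isAffine_fobj f ξ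
  obtain ⟨n, D, hD⟩ := C.cover (f.obj ξ) haf
  have hsch : sch 𝒴 (f.obj ξ) = sch 𝒳 ξ := StMod.sch_obj_eq f ξ
  choose ξj k ej hk using fun j => exists_obj hX ξ (bmap 𝒴 (D.e j) ≫ eqToHom hsch)
  let D' : Cover ξ (Fin n) := ⟨ξj, fun j => (have := D.aff j; IsAffine.of_isIso (ej j).hom), k, fun j => by
    rw [hk]
    have := D.flat j
    infer_instance, fun v => by
    obtain ⟨j, z, hz⟩ := D.surj (eqToHom hsch.symm v)
    refine ⟨j, (ej j).inv z, ?_⟩
    rw [hk, ← Scheme.Hom.comp_apply, Iso.inv_hom_id_assoc, Scheme.Hom.comp_apply, hz, ← Scheme.Hom.comp_apply,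
      eqToHom_trans, eqToHom_refl]
    rfl⟩
  refine D'.eq_of_mapTop N fun j => ?_
  have hb : bmap 𝒴 (f.map (k j)) = eqToHom (StMod.sch_obj_eq f (ξj j)) ≫ bmap 𝒳 (k j) ≫ eqToHom hsch.symm := by
    have := IsHomLift.fac' 𝒴.p (𝒳.p.map (k j)) (f.map (k j))
    have h2 := congrArg CommaMorphism.left this
    simpa using h2
  obtain ⟨d, -, -⟩ := exists_hom_over hY (f.map (k j)) (D.e j) (eqToHom (StMod.sch_obj_eq f (ξj j)) ≫ (ej j).hom) (by
    rw [hb, hk]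
    simp)
  show N.obj.mapTop (k j) ((u.hom.app ξ).app ⊤ s) = N.obj.mapTop (k j) 0
  rw [StMod.Mod.mapTop_zero, StMod.Mod.mapTop_app]
  let o : (fibCat f C.x).obj := CostructuredArrow.mk (d ≫ (hD j).some)
  exact congrArg (fun z : (StMod.comapQ (fibFst f C.x)).obj M ⟶ (StMod.comapQ (fibFst f C.x)).obj N =>
    (z.hom.app o).app ⊤ (M.obj.mapTop (k j) s)) hres

end Groth.Agent.H14.GenFam
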