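import Groth.Agent.H14.GenFam.Chart

/-!
Morphisms from values on a locally cofinal class of affine objects.
-/

set_option autoImplicit false
set_option backward.isDefEq.respectTransparency false
set_option backward.isDefEq.respectTransparency.types false
set_option linter.style.haveILetI false

universe u

open CategoryTheory CategoryTheory.Limits AlgebraicGeometry Opposite
open StMod (sch bmap)
open Groth.Agent.H14.ModDesc

namespace Groth.Agent.H14.GenFam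

variable {S : Scheme.{u}} {𝒳 : AlgSt.Cat S}

/-- Linear maps on a class of affine objects covering all of them glue to a morphism. -/
theorem exists_hom_of_local (hfib : FibCat.IsFibGrpd 𝒳.p) (F G : StMod.QCoh 𝒳) (P : 𝒳.obj → Prop)
    (mono : ∀ {o' o : 𝒳.obj}, (o' ⟶ o) → P o → P o')
    (cov : ∀ o, IsAffine (sch 𝒳 o) → ∃ (n : ℕ) (C : Cover o (Fin n)), ∀ j, P (C.E j))
    (σ : ∀ o, IsAffine (sch 𝒳 o) → P o → (Γ(F.obj.obj o, ⊤) →ₗ[Γ(sch 𝒳 o, ⊤)] Γ(G.obj.obj o, ⊤)))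
    (nat : ∀ {o' o : 𝒳.obj} (h' : IsAffine (sch 𝒳 o')) (h : IsAffine (sch 𝒳 o)) (p' : P o') (p : P o) (e : o' ⟶ o) t,
      G.obj.mapTop e (σ o h p t) = σ o' h' p' (F.obj.mapTop e t)) :
    ∃ ψ : F.obj ⟶ G.obj, ∀ o (h : IsAffine (sch 𝒳 o)) (p : P o) t, (ψ.app o).app ⊤ t = σ o h p t := by
  have hτ : ∀ (o : 𝒳.obj) (h : IsAffine (sch 𝒳 o)) (t : Γ(F.obj.obj o, ⊤)), ∃ z : Γ(G.obj.obj o, ⊤),
      ∀ (d : 𝒳.obj) (h' : IsAffine (sch 𝒳 d)) (p : P d) (e : d ⟶ o),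
        G.obj.mapTop e z = σ d h' p (F.obj.mapTop e t) := fun o h t => by
    obtain ⟨m, D, hD⟩ := cov o h
    obtain ⟨z, hz⟩ := D.exists_glue hfib G (fun j => σ _ (D.aff j) (hD j) (F.obj.mapTop (D.e j) t))
      fun i j d hd a b e => by
        rw [nat hd (D.aff i) (mono a (hD i)) (hD i), nat hd (D.aff j) (mono a (hD i)) (hD j),
          ← StMod.Mod.mapTop_comp, ← StMod.Mod.mapTop_comp, e]
    refine ⟨z, fun d h' p e => ?_⟩
    obtain ⟨D', g, hg⟩ := D.exists_pullback hfib e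
    refine D'.eq_of_mapTop G fun j => ?_
    rw [← StMod.Mod.mapTop_comp, ← hg, StMod.Mod.mapTop_comp, hz, nat (D'.aff j) (D.aff j) (mono (g j) (hD j)) (hD j),
      nat (D'.aff j) h' (mono (g j) (hD j)) p, ← StMod.Mod.mapTop_comp, ← StMod.Mod.mapTop_comp, hg]
  choose τ hτ using hτ
  have huniq : ∀ (o : 𝒳.obj) (h : IsAffine (sch 𝒳 o)) (t : Γ(F.obj.obj o, ⊤)) (z : Γ(G.obj.obj o, ⊤)),
      (∀ (d : 𝒳.obj) (h' : IsAffine (sch 𝒳 d)) (p : P d) (e : d ⟶ o),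
        G.obj.mapTop e z = σ d h' p (F.obj.mapTop e t)) → τ o h t = z := fun o h t z hz => by
    obtain ⟨m, D, hD⟩ := cov o h
    refine D.eq_of_mapTop G fun j => ?_
    rw [hτ o h t _ (D.aff j) (hD j) (D.e j), hz _ (D.aff j) (hD j) (D.e j)]
  obtain ⟨ψ, hψ⟩ := exists_hom_of_affine hfib F G (fun o h =>
    { toFun := τ o h
      map_add' := fun s t => huniq o h _ _ fun d h' p e => by
        rw [StMod.Mod.mapTop_add, StMod.Mod.mapTop_add, map_add, hτ o h s d h' p e, hτ o h t d h' p e]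
      map_smul' := fun c s => huniq o h _ _ fun d h' p e => by
        rw [RingHom.id_apply, StMod.Mod.mapTop_smul, StMod.Mod.mapTop_smul, map_smul, hτ o h s d h' p e] })
    fun {o' o} h' h e t => (huniq o' h' _ _ fun d hd p g => by
      rw [← StMod.Mod.mapTop_comp, ← StMod.Mod.mapTop_comp]
      exact hτ o h t d hd p (g ≫ e)).symm
  refine ⟨ψ, fun o h p t => (hψ o h t).trans (huniq o h t _ fun d h' p' e => nat h' h p' p e t)⟩

/-- A linear map at a chart compatible on overlaps gives a morphism. -/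
theorem Chart.exists_hom_of_linear (hfib : FibCat.IsFibGrpd 𝒳.p) (C : Chart 𝒳) (E M : StMod.QCoh 𝒳)
    (hx : Γ(E.obj.obj C.x, ⊤) →ₗ[Γ(sch 𝒳 C.x, ⊤)] Γ(M.obj.obj C.x, ⊤))
    (hw : ∃ H : Γ(E.obj.obj C.w, ⊤) →ₗ[Γ(sch 𝒳 C.w, ⊤)] Γ(M.obj.obj C.w, ⊤),
      ∀ s, H (E.obj.mapTop C.p s) = M.obj.mapTop C.p (hx s) ∧ H (E.obj.mapTop C.q s) = M.obj.mapTop C.q (hx s)) :
    ∃ ψ : E.obj ⟶ M.obj, ∀ s, (ψ.app C.x).app ⊤ s = hx s := by
  obtain ⟨Hw, hHw⟩ := hw
  have hH : ∀ (o : 𝒳.obj) (_ : IsAffine (sch 𝒳 o)) (a : o ⟶ C.x),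
      ∃ H : Γ(E.obj.obj o, ⊤) →ₗ[Γ(sch 𝒳 o, ⊤)] Γ(M.obj.obj o, ⊤),
        ∀ s, H (E.obj.mapTop a s) = M.obj.mapTop a (hx s) := fun o _ a =>
    bc_extend (isBC_mapHom E a) ((mapHom M.obj a).comp hx.toAddMonoidHom) (fun c s => by
      show M.obj.mapTop a (hx (c • s)) = _
      rw [map_smul, StMod.Mod.mapTop_smul]
      rfl)
  choose H hH using hH
  have hnat : ∀ (o' o : 𝒳.obj) (h' : IsAffine (sch 𝒳 o')) (h : IsAffine (sch 𝒳 o)) (f : o' ⟶ o) (a : o ⟶ C.x) t,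
      M.obj.mapTop f (H o h a t) = H o' h' (f ≫ a) (E.obj.mapTop f t) := fun o' o h' h f a t => by
    refine bc_induction (isBC_mapHom E a)
      (P := fun t => M.obj.mapTop f (H o h a t) = H o' h' (f ≫ a) (E.obj.mapTop f t)) ?_ (fun x y hx hy => ?_)
      (fun c s => ?_) t
    · rw [map_zero, StMod.Mod.mapTop_zero, StMod.Mod.mapTop_zero, map_zero]
    · rw [map_add, StMod.Mod.mapTop_add, StMod.Mod.mapTop_add, map_add, hx, hy]
    · show M.obj.mapTop f (H o h a (c • E.obj.mapTop a s)) = H o' h' (f ≫ a) (E.obj.mapTop f (c • E.obj.mapTop a s))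
      rw [map_smul, StMod.Mod.mapTop_smul, StMod.Mod.mapTop_smul, map_smul, hH, ← StMod.Mod.mapTop_comp,
        ← StMod.Mod.mapTop_comp, hH]
  have hwd : ∀ (o : 𝒳.obj) (h : IsAffine (sch 𝒳 o)) (a b : o ⟶ C.x) t, H o h a t = H o h b t := fun o h a b t => by
    obtain ⟨J, _, D, hD⟩ := C.overlap o h a b
    refine D.eq_of_mapTop M fun j => ?_
    obtain ⟨c, hcp, hcq⟩ := hD j
    rw [hnat _ _ (D.aff j) h, hnat _ _ (D.aff j) h, ← hcp, ← hcq]
    have := D.aff j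
    have key : ∀ (r : C.w ⟶ C.x), (∀ s, Hw (E.obj.mapTop r s) = M.obj.mapTop r (hx s)) →
        ∀ z, H (D.E j) (D.aff j) (c ≫ r) (E.obj.mapTop c z) = M.obj.mapTop c (Hw z) := fun r hr z => by
      refine bc_induction (isBC_mapHom E r)
        (P := fun z => H (D.E j) (D.aff j) (c ≫ r) (E.obj.mapTop c z) = M.obj.mapTop c (Hw z)) ?_
        (fun x y hx hy => ?_) (fun d s => ?_) z
      · rw [StMod.Mod.mapTop_zero, map_zero, map_zero, StMod.Mod.mapTop_zero]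
      · rw [StMod.Mod.mapTop_add, map_add, map_add, StMod.Mod.mapTop_add, hx, hy]
      · show H _ _ (c ≫ r) (E.obj.mapTop c (d • E.obj.mapTop r s)) = M.obj.mapTop c (Hw (d • E.obj.mapTop r s))
        rw [StMod.Mod.mapTop_smul, map_smul, map_smul, StMod.Mod.mapTop_smul, ← StMod.Mod.mapTop_comp, hH, hr,
          StMod.Mod.mapTop_comp]
    refine LinearMap.congr_fun (bc_ext (isBC_mapHom E c) (s := Set.univ) (Submodule.span_univ) fun z _ => ?_) _
    exact (key C.p (fun s => (hHw s).1) z).trans (key C.q (fun s => (hHw s).2) z).symm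
  obtain ⟨ψ, hψ⟩ := exists_hom_of_local hfib E M (fun o => Nonempty (o ⟶ C.x))
    (fun e ⟨a⟩ => ⟨e ≫ a⟩) (fun o ho => C.cover o ho) (fun o h p => H o h p.some)
    (fun {o' o} h' h p' p e t => by rw [hnat _ _ h' h]; exact hwd _ _ _ _ _)
  refine ⟨ψ, fun s => ?_⟩
  rw [hψ C.x C.affx ⟨𝟙 _⟩]
  have := hH C.x C.affx (⟨𝟙 C.x⟩ : Nonempty (C.x ⟶ C.x)).some s
  rw [hwd C.x C.affx _ (𝟙 _)]
  have h2 := hH C.x C.affx (𝟙 _) s
  rwa [StMod.Mod.mapTop_id, StMod.Mod.mapTop_id] at h2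

/-- A morphism vanishing at a chart vanishes. -/
theorem Chart.hom_eq_zero (hfib : FibCat.IsFibGrpd 𝒳.p) (C : Chart 𝒳) {E M : StMod.QCoh 𝒳} (ψ : E.obj ⟶ M.obj)
    (h : ∀ s, (ψ.app C.x).app ⊤ s = 0) : ψ = 0 := by
  refine hom_ext_affine hfib M.property fun o ho t => ?_
  obtain ⟨n, D, hD⟩ := C.cover o ho
  refine D.eq_of_mapTop M fun j => ?_
  have := D.aff j
  show M.obj.mapTop _ ((ψ.app o).app ⊤ t) = M.obj.mapTop _ 0
  rw [StMod.Mod.mapTop_zero, StMod.Mod.mapTop_app]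
  refine bc_induction (isBC_mapHom E (hD j).some) (P := fun z => (ψ.app (D.E j)).app ⊤ z = 0) (map_zero _)
    (fun a b ha hb => ?_) (fun c s => ?_) _
  · exact (map_add ((ψ.app (D.E j)).app ⊤).hom a b).trans ((congrArg₂ (· + ·) ha hb).trans (add_zero _))
  · refine (Scheme.Modules.Hom.app_smul (ψ.app (D.E j)) c _).trans ?_
    have e : (ψ.app (D.E j)).app ⊤ (E.obj.mapTop (hD j).some s) = 0 := by
      rw [← StMod.Mod.mapTop_app, h, StMod.Mod.mapTop_zero]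
    exact (congrArg (c • ·) e).trans (smul_zero c)

end Groth.Agent.H14.GenFam
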