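import Groth.Agent.H14.GenFam.Transfer
import Groth.Agent.Lib.AlgStack.FibProd

/-!
The category over an object of the base: change of object, and comparison with fibre products.
-/

set_option autoImplicit false
set_option backward.isDefEq.respectTransparency false
set_option backward.isDefEq.respectTransparency.types false
set_option linter.style.haveILetI false

universe u

open CategoryTheory CategoryTheory.Limits AlgebraicGeometry Opposite
open StMod (sch bmap baseOver fibCat fibFst)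
open Groth.Agent.Lib.AlgStack
open Groth.Agent.H14.AffPush
open FibCat (IsFibGrpd fp fpFst fpSnd overCat)

namespace Groth.Agent.H14.GenFam

variable {S : Scheme.{u}} {𝒳 𝒴 : AlgSt.Cat S}

/-- Two morphisms with one target over the same morphism of schemes differ by an isomorphism over the identity. -/
theorem exists_isoOver (hY : IsFibGrpd 𝒴.p) {a b η : 𝒴.obj} (α : b ⟶ η) (k : a ⟶ η)
    (h : 𝒴.p.obj b = 𝒴.p.obj a) (hp : eqToHom h ≫ 𝒴.p.map k = 𝒴.p.map α) :
    ∃ i : b ≅ a, 𝒴.p.IsHomLift (𝟙 (𝒴.p.obj b)) i.hom ∧ i.hom ≫ k = α := by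
  haveI : 𝒴.p.IsHomLift (eqToHom h ≫ 𝒴.p.map k) α := by rw [hp]; exact IsHomLift.map 𝒴.p α
  obtain ⟨ψ, hψ, hψk⟩ := BasedBasic.exists_lift_through hY k α (eqToHom h)
  haveI := BasedBasic.isIso_of_isHomLift_iso hY (eqToHom h) ψ
  refine ⟨asIso ψ, IsHomLift.of_fac' 𝒴.p _ ψ rfl h.symm ?_, hψk⟩
  rw [IsHomLift.fac' 𝒴.p (eqToHom h) ψ]
  simp

theorem isFibGrpd_fibCat (hX : IsFibGrpd 𝒳.p) (f : 𝒳 ⥤ᵇ 𝒴) (η : 𝒴.obj) : IsFibGrpd (fibCat f η).p where
  exists_lift := fun {o} {V} g => by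
    obtain ⟨x, φ, hφ⟩ := hX.exists_lift g
    exact ⟨CostructuredArrow.mk (f.map φ ≫ o.hom), CostructuredArrow.homMk φ rfl,
      IsHomLift.of_fac' (fibCat f η).p g _ (IsHomLift.domain_eq 𝒳.p g φ) rfl (IsHomLift.fac' 𝒳.p g φ)⟩
  isStronglyCartesian := fun {y x} φ =>
    { toIsHomLift := IsHomLift.map (fibCat f η).p φ
      universal_property' := fun {o} h φ' hφ' => by
        haveI := hX.isStronglyCartesian φ.left
        haveI : 𝒳.p.IsHomLift (h ≫ 𝒳.p.map φ.left) φ'.left :=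
          IsHomLift.of_fac' 𝒳.p _ _ rfl rfl (IsHomLift.fac' (fibCat f η).p (h ≫ (fibCat f η).p.map φ) φ')
        let m := Functor.IsStronglyCartesian.map 𝒳.p (𝒳.p.map φ.left) φ.left (g := h) rfl φ'.left
        have hmf : m ≫ φ.left = φ'.left :=
          Functor.IsStronglyCartesian.fac 𝒳.p (𝒳.p.map φ.left) φ.left rfl φ'.left
        have hw : f.map m ≫ y.hom = o.hom := by
          rw [← CostructuredArrow.w φ, ← CostructuredArrow.w φ', ← Category.assoc, ← f.toFunctor.map_comp, hmf]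
        refine ⟨CostructuredArrow.homMk m hw, ⟨?_, ?_⟩, ?_⟩
        · exact IsHomLift.of_fac' (fibCat f η).p h _ rfl rfl (IsHomLift.fac' 𝒳.p h m)
        · exact CostructuredArrow.hom_ext _ _ hmf
        · rintro χ ⟨hχ, hχe⟩
          refine CostructuredArrow.hom_ext _ _ ?_
          haveI : 𝒳.p.IsHomLift h χ.left :=
            IsHomLift.of_fac' 𝒳.p _ _ rfl rfl (IsHomLift.fac' (fibCat f η).p h χ)
          exact Functor.IsStronglyCartesian.map_uniq 𝒳.p (𝒳.p.map φ.left) φ.left rfl φ'.left χ.left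
            (congrArg (fun k => k.left) hχe) }

/-- The category over an object as a category over its scheme. -/
def baseFun (f : 𝒳 ⥤ᵇ 𝒴) (η : 𝒴.obj) : fibCat f η ⥤ᵇ AlgSt.ofSch (𝒴.p.obj η) where
  toFunctor :=
    { obj := fun x => ⟨𝒳.p.obj x.left, ⟨baseOver f x.left x.hom⟩⟩
      map := fun {x x'} φ => ⟨𝒳.p.map φ.left, congrArg ULift.up (by
        show 𝒳.p.map φ.left ≫ baseOver f x'.left x'.hom = baseOver f x.left x.hom
        rw [StMod.map_comp_baseOver, CostructuredArrow.w φ])⟩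
      map_id := fun x => Stk.EltObj.hom_ext (𝒳.p.map_id _)
      map_comp := fun φ ψ => Stk.EltObj.hom_ext (𝒳.p.map_comp _ _) }
  w := rfl

theorem str_baseFun (f : 𝒳 ⥤ᵇ 𝒴) (η : 𝒴.obj) (x : (fibCat f η).obj) :
    str (baseFun f η) x = baseOver f x.left x.hom :=
  Category.id_comp _

/-- Restriction to an object over the object. -/
def resFun (f : 𝒳 ⥤ᵇ 𝒴) {ω η : 𝒴.obj} (c : ω ⟶ η) :
    fibCat f ω ⥤ᵇ cat (baseFun f η) (𝒴.p.map c) where
  toFunctor :=
    { obj := fun x => mkObj (π := baseFun f η) (g := 𝒴.p.map c)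
        (CostructuredArrow.mk (x.hom ≫ c) : (fibCat f η).obj) (baseOver f x.left x.hom) (by
          refine Eq.trans ?_ (str_baseFun f η _).symm
          exact (StMod.baseOver_comp f x.left x.hom c).symm)
      map := fun {x x'} φ => mkHom (CostructuredArrow.homMk φ.left (by
          show f.map φ.left ≫ x'.hom ≫ c = x.hom ≫ c
          rw [← Category.assoc, CostructuredArrow.w φ])) (by
        show 𝒳.p.map φ.left ≫ baseOver f x'.left x'.hom = baseOver f x.left x.hom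
        rw [StMod.map_comp_baseOver, CostructuredArrow.w φ])
      map_id := fun _ => hom_ext rfl
      map_comp := fun _ _ => hom_ext rfl }
  w := rfl

theorem isEqv_resFun (hX : IsFibGrpd 𝒳.p) (hY : IsFibGrpd 𝒴.p) (f : 𝒳 ⥤ᵇ 𝒴) {ω η : 𝒴.obj} (c : ω ⟶ η) :
    IsEqv (resFun f c) where
  fibX := isFibGrpd_fibCat hX f ω
  fibY := isFibGrpd_cat (isFibGrpd_fibCat hX f η)
  faithful := ⟨fun {x x' φ ψ} h => CostructuredArrow.hom_ext _ _ (congrArg (fun k => k.hom.left.left) h)⟩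
  full := ⟨fun {x x'} k => by
    let k₀ : x.left ⟶ x'.left := k.hom.left.left
    have w₁ : f.map k₀ ≫ x'.hom ≫ c = x.hom ≫ c := CostructuredArrow.w k.hom.left
    have w₂ : 𝒳.p.map k₀ ≫ baseOver f x'.left x'.hom = baseOver f x.left x.hom :=
      CostructuredArrow.w k.hom
    rw [StMod.map_comp_baseOver] at w₂
    refine ⟨CostructuredArrow.homMk k₀
      (BasedBasic.hom_eq_of_comp_eq hY c ?_ (by rw [Category.assoc]; exact w₁)), hom_ext (CostructuredArrow.hom_ext _ _ rfl)⟩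
    simp only [StMod.baseOver] at w₂
    exact (cancel_epi (eqToHom (f.w_obj x.left).symm)).1 w₂⟩
  obj o := by
    have hz : baseOver f o.obj.left.left o.obj.left.hom = o.obj.hom ≫ 𝒴.p.map c :=
      (str_baseFun f η o.obj.left).symm.trans o.property.symm
    haveI : 𝒴.p.IsHomLift ((eqToHom (f.w_obj o.obj.left.left) ≫ o.obj.hom) ≫ 𝒴.p.map c) o.obj.left.hom := by
      rw [Category.assoc, ← hz, StMod.baseOver, ← Category.assoc, eqToHom_trans, eqToHom_refl, Category.id_comp]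
      exact IsHomLift.map 𝒴.p _
    obtain ⟨α, hα, hαc⟩ := BasedBasic.exists_lift_through hY c o.obj.left.hom (eqToHom (f.w_obj o.obj.left.left) ≫ o.obj.hom)
    have hb : baseOver f o.obj.left.left α = o.obj.hom := by
      rw [StMod.baseOver, IsHomLift.fac' 𝒴.p (eqToHom (f.w_obj o.obj.left.left) ≫ o.obj.hom) α]
      simp
    refine ⟨CostructuredArrow.mk α, ⟨mkHom (CostructuredArrow.homMk (𝟙 o.obj.left.left) ?_) ?_,
      mkHom (CostructuredArrow.homMk (𝟙 o.obj.left.left) ?_) ?_, ?_, ?_⟩, ?_⟩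
    · show f.map (𝟙 _) ≫ o.obj.left.hom = α ≫ c
      rw [f.toFunctor.map_id, Category.id_comp, hαc]
    · show 𝒳.p.map (𝟙 _) ≫ o.obj.hom = baseOver f o.obj.left.left α
      rw [𝒳.p.map_id, Category.id_comp, hb]
    · show f.map (𝟙 _) ≫ α ≫ c = o.obj.left.hom
      rw [f.toFunctor.map_id, Category.id_comp, hαc]
    · show 𝒳.p.map (𝟙 _) ≫ baseOver f o.obj.left.left α = o.obj.hom
      rw [𝒳.p.map_id, Category.id_comp, hb]
    · exact hom_ext (CostructuredArrow.hom_ext _ _ (Category.id_comp _))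
    · exact hom_ext (CostructuredArrow.hom_ext _ _ (Category.id_comp _))
    · refine IsHomLift.of_fac' _ _ _ rfl rfl ?_
      show 𝒳.p.map (𝟙 o.obj.left.left) = 𝟙 _ ≫ 𝟙 _ ≫ 𝟙 _
      simp

/-- The fibre product with a scheme as the category over its tautological object. -/
def fpToFib (f : 𝒳 ⥤ᵇ 𝒴) {T : Over S} (y : overCat T ⥤ᵇ 𝒴) : fp f y ⥤ᵇ fibCat f (y.obj (Over.mk (𝟙 T))) where
  toFunctor :=
    { obj := fun P => CostructuredArrow.mk (P.obj.iso.hom ≫ y.map (Yoneda.toId P.obj.snd))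
      map := fun {P P'} m => CostructuredArrow.homMk m.hom.fst (by
        show f.map m.hom.fst ≫ P'.obj.iso.hom ≫ y.map (Yoneda.toId P'.obj.snd) =
          P.obj.iso.hom ≫ y.map (Yoneda.toId P.obj.snd)
        rw [← Category.assoc]
        refine (congrArg (· ≫ _) m.hom.w).trans ?_
        rw [Category.assoc]
        refine congrArg (P.obj.iso.hom ≫ ·) ?_
        show y.map m.hom.snd ≫ y.map (Yoneda.toId P'.obj.snd) = _
        rw [← y.toFunctor.map_comp]
        congr 1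
        exact Over.OverMorphism.ext (Over.w m.hom.snd))
      map_id := fun P => CostructuredArrow.hom_ext _ _ rfl
      map_comp := fun _ _ => CostructuredArrow.hom_ext _ _ rfl }
  w := rfl

theorem isEqv_fpToFib (hX : IsFibGrpd 𝒳.p) (hY : IsFibGrpd 𝒴.p) (f : 𝒳 ⥤ᵇ 𝒴) {T : Over S}
    (y : overCat T ⥤ᵇ 𝒴) : IsEqv (fpToFib f y) := by
  have hbase : ∀ (P : (fp f y).obj), baseOver f P.obj.fst (P.obj.iso.hom ≫ y.map (Yoneda.toId P.obj.snd)) =
      eqToHom (FibProd.snd_obj P).symm ≫ P.obj.snd.hom ≫ eqToHom (y.w_obj (Over.mk (𝟙 T))).symm := fun P => by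
    haveI : 𝒴.p.IsHomLift (𝟙 (𝒳.p.obj P.obj.fst)) P.obj.iso.hom := P.property
    haveI : 𝒴.p.IsHomLift P.obj.snd.hom (y.map (Yoneda.toId P.obj.snd)) := Yoneda.map_toId_isHomLift y _
    rw [StMod.baseOver, Functor.map_comp, IsHomLift.fac' 𝒴.p (𝟙 (𝒳.p.obj P.obj.fst)) P.obj.iso.hom,
      IsHomLift.fac' 𝒴.p P.obj.snd.hom (y.map (Yoneda.toId P.obj.snd))]
    simp
  refine ⟨FibProd.isFibGrpd_fp hX (Yoneda.isFibGrpd_overCat T) hY, isFibGrpd_fibCat hX f _,
    ⟨fun {P P'} k => ?_⟩, ⟨fun {P P' m m'} h => ?_⟩, fun o => ?_⟩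
  · let k₁ : P.obj.fst ⟶ P'.obj.fst := k.left
    have w : f.map k₁ ≫ P'.obj.iso.hom ≫ y.map (Yoneda.toId P'.obj.snd) =
        P.obj.iso.hom ≫ y.map (Yoneda.toId P.obj.snd) := CostructuredArrow.w k
    let d : P.obj.snd.left ⟶ P'.obj.snd.left :=
      eqToHom (FibProd.snd_obj P) ≫ 𝒳.p.map k₁ ≫ eqToHom (FibProd.snd_obj P').symm
    have hd : d ≫ P'.obj.snd.hom = P.obj.snd.hom := by
      have h1 := hbase P
      rw [← w, ← StMod.map_comp_baseOver, hbase P'] at h1
      simp only [d, Category.assoc]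
      simp only [← Category.assoc] at h1
      rw [cancel_mono] at h1
      simp only [Category.assoc] at h1
      rw [h1, ← Category.assoc, eqToHom_trans, eqToHom_refl, Category.id_comp]
    let m₂ : P.obj.snd ⟶ P'.obj.snd := Over.homMk d hd
    refine ⟨FibProd.homMk k₁ m₂ ?_, CostructuredArrow.hom_ext _ _ rfl⟩
    refine BasedBasic.hom_eq_of_comp_eq hY (y.map (Yoneda.toId P'.obj.snd)) ?_ ?_
    · haveI : 𝒴.p.IsHomLift (𝟙 (𝒳.p.obj P.obj.fst)) P.obj.iso.hom := P.property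
      haveI : 𝒴.p.IsHomLift (𝟙 (𝒳.p.obj P'.obj.fst)) P'.obj.iso.hom := P'.property
      haveI : 𝒴.p.IsHomLift d (y.map m₂) := Yoneda.map_isHomLift y m₂
      rw [Functor.map_comp, Functor.map_comp, IsHomLift.fac' 𝒴.p (𝟙 (𝒳.p.obj P.obj.fst)) P.obj.iso.hom,
        IsHomLift.fac' 𝒴.p (𝟙 (𝒳.p.obj P'.obj.fst)) P'.obj.iso.hom, IsHomLift.fac' 𝒴.p d (y.map m₂),
        IsHomLift.fac' 𝒴.p (𝒳.p.map k₁) (f.map k₁)]
      simp [d]
    · rw [Category.assoc, w, Category.assoc]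
      refine congrArg (P.obj.iso.hom ≫ ·) ?_
      show y.map _ = y.map m₂ ≫ y.map _
      rw [← y.toFunctor.map_comp]
      congr 1
      exact Over.OverMorphism.ext hd.symm
  · have h1 : m.hom.fst = m'.hom.fst := congrArg (fun k => k.left) h
    refine FibProd.hom_ext h1 (Over.OverMorphism.ext ?_)
    haveI := FibCat.fp_isHomLift_snd f y m
    haveI := FibCat.fp_isHomLift_snd f y m'
    have e := IsHomLift.fac' (overCat T).p ((fp f y).p.map m) m.hom.snd
    have e' := IsHomLift.fac' (overCat T).p ((fp f y).p.map m') m'.hom.snd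
    change m.hom.snd.left = _ at e
    change m'.hom.snd.left = _ at e'
    rw [e, e']
    show _ ≫ 𝒳.p.map m.hom.fst ≫ _ = _ ≫ 𝒳.p.map m'.hom.fst ≫ _
    rw [h1]
  · let e₀ : 𝒳.p.obj o.left ⟶ T :=
      baseOver f o.left o.hom ≫ eqToHom (y.w_obj (Over.mk (𝟙 T)))
    let t : Over T := Over.mk e₀
    haveI : 𝒴.p.IsHomLift e₀ (y.map (Yoneda.toId t)) := Yoneda.map_toId_isHomLift y t
    have hh : 𝒴.p.obj (f.obj o.left) = 𝒴.p.obj (y.obj t) := (f.w_obj o.left).trans (y.w_obj t).symm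
    obtain ⟨i, hi, hik⟩ := exists_isoOver hY o.hom (y.map (Yoneda.toId t)) hh (by
      rw [IsHomLift.fac' 𝒴.p e₀ (y.map (Yoneda.toId t))]
      simp [e₀, StMod.baseOver])
    refine ⟨FibProd.objMk o.left t i ?_, CostructuredArrow.isoMk (Iso.refl _) ?_, ?_⟩
    · rw [← f.w_obj o.left]
      exact hi
    · show f.map (𝟙 _) ≫ o.hom = i.hom ≫ y.map (Yoneda.toId t)
      rw [f.toFunctor.map_id, Category.id_comp, hik]
    · refine IsHomLift.of_fac' _ _ _ rfl rfl ?_
      show 𝒳.p.map (𝟙 o.left) = 𝟙 _ ≫ 𝟙 _ ≫ 𝟙 _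
      simp

end Groth.Agent.H14.GenFam
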