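import Groth.Agent.H14.GenFam.HomFam

/-!
The families of maps are compatible with flat base change.
-/

set_option autoImplicit false
set_option backward.isDefEq.respectTransparency false
set_option backward.isDefEq.respectTransparency.types false
set_option linter.style.haveILetI false

universe u v v'

open CategoryTheory CategoryTheory.Limits AlgebraicGeometry Opposite
open StMod (sch bmap fibCat fibFst baseOver)
open Groth.Agent.Lib Groth.Agent.Lib.AlgStack
open Groth.Agent.H14.ModDesc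
open Groth.Agent.H14.AffPush
open TensorProduct

namespace Groth.Agent.H14.GenFam

/-- A map commuting with an injective evaluation in tuples is injective after a flat base change. -/
theorem bcMap_injective_of_eval {A B : Type u} [CommRing A] [CommRing B] [Algebra A B] [Module.Flat A B]
    {M N : Type u} [AddCommGroup M] [Module A M] [AddCommGroup N] [Module B N] {g : M →+ N}
    (hg : IsBC (algebraMap A B) g) {n : ℕ} {H : Type v} [AddCommGroup H] [Module A H] {K : Type v'}
    [AddCommGroup K] [Module B K] (res : H →+ K) (hres : IsSL (algebraMap A B) res)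
    (ev : H →ₗ[A] (Fin n → M)) (hev : Function.Injective ev) (ev' : K →+ (Fin n → N))
    (comm : ∀ (b : B) τ l, ev' (b • res τ) l = b • g (ev τ l)) :
    Function.Injective (bcMap A B res hres) := by
  classical
  obtain ⟨hs, hb⟩ := (isBC_iff rfl).1 hg
  rw [injective_iff_map_eq_zero]
  intro z hz
  apply Module.Flat.lTensor_preserves_injective_linearMap (M := B) ev hev
  rw [map_zero]
  apply (TensorProduct.piRight A A B (fun _ : Fin n => M)).injective
  rw [map_zero]
  funext l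
  apply hb.injective
  rw [Pi.zero_apply, map_zero]
  refine Eq.trans ?_ (by rw [hz, map_zero]; rfl : ev' (bcMap A B res hres z) l = 0)
  clear hz
  induction z with
  | zero => simp
  | tmul b τ =>
    rw [LinearMap.lTensor_tmul, bcMap_tmul, comm]
    rfl
  | add x y hx hy => simp only [map_add, Pi.add_apply, hx, hy]

variable {S : Scheme.{u}} {𝒳 𝒴 : AlgSt.Cat S}

/-- A map lifting a given one along `e`, from the schemes. -/
theorem exists_beta (hY : FibCat.IsFibGrpd 𝒴.p) {f : 𝒳 ⥤ᵇ 𝒴} {y' y : 𝒴.obj} (e : y' ⟶ y) (ξ : 𝒳.obj)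
    (α : f.obj ξ ⟶ y) (h : 𝒳.p.obj ξ ⟶ 𝒴.p.obj y') (w : h ≫ 𝒴.p.map e = baseOver f ξ α) :
    ∃ β : f.obj ξ ⟶ y', β ≫ e = α ∧ baseOver f ξ β = h := by
  haveI : 𝒴.p.IsHomLift ((eqToHom (f.w_obj ξ) ≫ h) ≫ 𝒴.p.map e) α := by
    rw [Category.assoc, w, baseOver, ← Category.assoc, eqToHom_trans, eqToHom_refl, Category.id_comp]
    exact IsHomLift.map 𝒴.p _
  obtain ⟨β, hβ, hβe⟩ := BasedBasic.exists_lift_through hY e α (eqToHom (f.w_obj ξ) ≫ h)
  refine ⟨β, hβe, ?_⟩
  rw [baseOver, IsHomLift.fac' 𝒴.p (eqToHom (f.w_obj ξ) ≫ h) β]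
  simp

/-- Such a map is unique. -/
theorem beta_ext (hY : FibCat.IsFibGrpd 𝒴.p) {f : 𝒳 ⥤ᵇ 𝒴} {y' y : 𝒴.obj} (e : y' ⟶ y) {ξ : 𝒳.obj}
    {β β' : f.obj ξ ⟶ y'} (he : β ≫ e = β' ≫ e) (h : baseOver f ξ β = baseOver f ξ β') : β = β' := by
  refine BasedBasic.hom_eq_of_comp_eq hY e ?_ he
  simp only [baseOver] at h
  exact (cancel_epi (eqToHom (f.w_obj ξ).symm)).1 h



/-- The object over the base change has a map to the smaller object. -/
theorem exists_beta_cat (hY : FibCat.IsFibGrpd 𝒴.p) {f : 𝒳 ⥤ᵇ 𝒴} {y' y : 𝒴.obj} (e : y' ⟶ y)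
    (o : (cat (baseFun f y) (𝒴.p.map e)).obj) :
    ∃ β : f.obj o.obj.left.left ⟶ y', β ≫ e = o.obj.left.hom ∧ baseOver f o.obj.left.left β = o.obj.hom := by
  have w : o.obj.hom ≫ 𝒴.p.map e = str (baseFun f y) o.obj.left := o.property
  rw [str_baseFun] at w
  exact exists_beta hY e o.obj.left.left o.obj.left.hom o.obj.hom w

set_option maxHeartbeats 1000000 in
/-- The families of maps commute with flat affine base change. -/
theorem isBC_homRes {f : 𝒳 ⥤ᵇ 𝒴} {E M : StMod.QCoh 𝒳} {y' y : 𝒴.obj} (e : y' ⟶ y) [IsAffine (sch 𝒴 y)]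
    [IsAffine (sch 𝒴 y')] [Flat (bmap 𝒴 e)] (C : Chart (fibCat f y))
    (hE : Module.FinitePresentation Γ(sch 𝒳 C.x.left, ⊤) Γ(E.obj.obj C.x.left, ⊤))
    (hX : FibCat.IsFibGrpd 𝒳.p) (hY : FibCat.IsFibGrpd 𝒴.p) :
    IsBC (bmap 𝒴 e).appTop.hom (homRes (f := f) (E := E) (M := M) e) := by
  classical
  let Z := fibCat f y
  let hfib : FibCat.IsFibGrpd Z.p := isFibGrpd_fibCat hX f y
  let π := baseFun f y
  let g : 𝒴.p.obj y' ⟶ 𝒴.p.obj y := 𝒴.p.map e
  have : IsAffine (𝒴.p.obj y).left := ‹IsAffine (sch 𝒴 y)›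
  have : IsAffine (𝒴.p.obj y').left := ‹IsAffine (sch 𝒴 y')›
  have : Flat g.left := ‹Flat (bmap 𝒴 e)›
  let A := Γ(sch 𝒴 y, ⊤)
  let B := Γ(sch 𝒴 y', ⊤)
  let : Algebra A B := (bmap 𝒴 e).appTop.hom.toAlgebra
  have : Module.Flat A B := flat_appTop (bmap 𝒴 e)
  let M' : StMod.QCoh Z := (StMod.comapQ (fibFst f y)).obj M
  let x' : (cat π g).obj := up (π := π) (g := g) hfib C.x
  let w' : (cat π g).obj := up (π := π) (g := g) hfib C.w
  have affx' : IsAffine (sch 𝒳 x'.obj.left.left) := isAffine_up (π := π) (g := g) hfib C.x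
  have affw' : IsAffine (sch 𝒳 w'.obj.left.left) := isAffine_up (π := π) (g := g) hfib C.w
  -- the maps to the smaller object
  have hβ : ∀ o : (cat π g).obj, ∃ β : f.obj o.obj.left.left ⟶ y',
      β ≫ e = o.obj.left.hom ∧ baseOver f o.obj.left.left β = o.obj.hom := fun o => exists_beta_cat hY e o
  choose β hβe hβb using hβ
  have hcomm : ∀ {o' o : (cat π g).obj} (k : o' ⟶ o), f.map k.hom.left.left ≫ β o = β o' := fun {o' o} k => by
    refine beta_ext hY e ?_ ?_
    · rw [Category.assoc, hβe, hβe]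
      exact CostructuredArrow.w k.hom.left
    · rw [hβb, ← StMod.map_comp_baseOver, hβb]
      exact CostructuredArrow.w k.hom
  let lx' : AObj f y' := ⟨x'.obj.left.left, β x', affx'⟩
  let lw' : AObj f y' := ⟨w'.obj.left.left, β w', affw'⟩
  obtain ⟨n, eg, he⟩ := Module.Finite.exists_fin (R := Γ(sch 𝒳 C.x.left, ⊤)) (M := Γ(E.obj.obj C.x.left, ⊤))
  let P : Pres C E := ⟨n, eg, he⟩
  let εx := (eps (π := π) (g := g) hfib C.x).left
  let εw := (eps (π := π) (g := g) hfib C.w).left
  let mA : Module A Γ(M.obj.obj C.x.left, ⊤) := Module.compHom _ (str π C.x).left.appTop.hom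
  let mB : Module B Γ(M.obj.obj x'.obj.left.left, ⊤) := Module.compHom _ x'.obj.hom.left.appTop.hom
  have hg : IsBC (algebraMap A B) (mapHom M.obj εx) := by
    have : IsAffine (sch Z x'.obj.left) := affx'
    refine isBC_of_isPushout (Lib.ZeroCyc99.FlatLocalAffine.isPushout_appTop (isPullback_eps (π := π) (g := g) hfib C.x)).flip
      (mA := mA) (mB := mB) (fun _ _ => rfl) (fun _ _ => rfl) ?_
    have : IsAffine (sch 𝒳 C.x.left) := C.affx
    exact isBC_mapHom M εx
  let ev : homFam f E M y →ₗ[A] (Fin n → Γ(M.obj.obj C.x.left, ⊤)) :=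
    { toFun := evGen P
      map_add' := map_add _
      map_smul' := fun r τ => funext fun k => by
        have e0 : str π C.x = baseOver f C.x.left C.x.hom := str_baseFun f y C.x
        show (AObj.str (f := f) (y := y) ⟨C.x.left, C.x.hom, C.affx⟩).appTop.hom r • τ.1 ⟨C.x.left, C.x.hom, C.affx⟩ (eg k) =
          (str π C.x).left.appTop.hom r • τ.1 ⟨C.x.left, C.x.hom, C.affx⟩ (eg k)
        rw [e0]
        rfl }
  let ev' : homFam f E M y' →+ (Fin n → Γ(M.obj.obj x'.obj.left.left, ⊤)) :=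
    { toFun := fun τ k => τ.1 lx' (E.obj.mapTop εx (eg k))
      map_zero' := rfl
      map_add' := fun _ _ => rfl }
  have hev'smul : ∀ (b : B) τ k, ev' (b • τ) k = x'.obj.hom.left.appTop.hom b • ev' τ k := fun b τ k => by
    show (baseOver f x'.obj.left.left (β x')).left.appTop.hom b • τ.1 lx' (E.obj.mapTop εx (eg k)) =
      x'.obj.hom.left.appTop.hom b • τ.1 lx' (E.obj.mapTop εx (eg k))
    rw [hβb]
    rfl
  have hlx : ∀ (τ : homFam f E M y) s, (homRes e τ).1 lx' s = τ.1 ⟨x'.obj.left.left, x'.obj.left.hom, affx'⟩ s :=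
    fun τ s => homFam_congr τ (hβe x') affx' s
  have hev'res : ∀ (τ : homFam f E M y) k, ev' (homRes e τ) k = M.obj.mapTop εx (evGen P τ k) := fun τ k => by
    show (homRes e τ).1 lx' _ = M.obj.mapTop εx (τ.1 ⟨C.x.left, C.x.hom, C.affx⟩ (eg k))
    rw [hlx]
    exact (τ.2 (l' := ⟨x'.obj.left.left, x'.obj.left.hom, affx'⟩) (l := ⟨C.x.left, C.x.hom, C.affx⟩) εx
      (CostructuredArrow.w (eps (π := π) (g := g) hfib C.x)) _).symm
  -- families are determined by the values at the generators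
  have hev' : ∀ τ, ev' τ = 0 → τ = 0 := fun τ hτ => by
    refine Subtype.ext (funext fun l => LinearMap.ext fun s => ?_)
    let o : Z.obj := CostructuredArrow.mk (l.α ≫ e)
    have ho : IsAffine (sch Z o) := l.aff
    obtain ⟨m, D, hD⟩ := C.cover o ho
    refine D.eq_of_mapTop M' fun j => ?_
    let oj : (cat π g).obj := mkObj (π := π) (g := g) (D.E j) (Z.p.map (D.e j) ≫ baseOver f l.ξ l.α) (by
      rw [Category.assoc, ← StMod.baseOver_comp, str_baseFun]
      show 𝒳.p.map (D.e j).left ≫ baseOver f l.ξ o.hom = _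
      exact (StMod.map_comp_baseOver f (D.e j).left _).trans (congrArg _ (CostructuredArrow.w (D.e j))))
    have affj : IsAffine (sch 𝒳 oj.obj.left.left) := D.aff j
    let lj : AObj f y' := ⟨oj.obj.left.left, β oj, affj⟩
    have hαj : f.map (D.e j).left ≫ l.α = β oj := by
      refine beta_ext hY e ?_ ?_
      · rw [hβe, Category.assoc]
        exact CostructuredArrow.w (D.e j)
      · exact (StMod.map_comp_baseOver f (D.e j).left l.α).symm.trans (hβb oj).symm
    let kj : oj ⟶ x' := upLift hfib (hD j).some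
    have hk : kj.hom.left.left ≫ εx = (hD j).some.left := congrArg CommaMorphism.left (upLift_eps (π := π) (g := g) hfib (o := oj) (x := C.x) (hD j).some)
    refine (mapTop_comap (fibFst f y) M.obj (D.e j) (τ.1 l s)).trans (Eq.trans ?_
      (StMod.Mod.mapTop_zero _ (D.e j)).symm)
    show M.obj.mapTop (D.e j).left (τ.1 l s) = 0
    rw [τ.2 (l' := lj) (l := l) (D.e j).left hαj]
    have : IsAffine (sch 𝒳 (D.E j).left) := D.aff j
    have : IsAffine (sch 𝒳 C.x.left) := C.affx
    obtain ⟨r, hr⟩ := exists_gen (E := E) (hD j).some.left he (E.obj.mapTop (D.e j).left s)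
    rw [← hr, map_sum]
    refine Finset.sum_eq_zero fun k _ => ?_
    rw [map_smul]
    have h0 : τ.1 lx' (E.obj.mapTop εx (eg k)) = 0 := congrFun hτ k
    have e1 : τ.1 lj (E.obj.mapTop (hD j).some.left (eg k)) = 0 := by
      rw [← hk, StMod.Mod.mapTop_comp, ← τ.2 (l' := lj) (l := lx') kj.hom.left.left (hcomm kj), h0, StMod.Mod.mapTop_zero]
    exact (congrArg (r k • ·) e1).trans (smul_zero _)
  refine (isBC_iff rfl).2 ⟨isSL_homRes e, bcMap_injective_of_eval hg _ _ ev (evGen_injective hX P) ev' (fun b τ k => by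
    rw [hev'smul, hev'res]
    rfl), fun τ' => ?_⟩
  -- surjectivity
  obtain ⟨m, cs, hcs⟩ : ∃ (m : ℕ) (cs : Fin m → Fin n → Γ(sch 𝒳 C.x.left, ⊤)),
      Submodule.span _ (Set.range cs) = LinearMap.ker (Fintype.linearCombination Γ(sch 𝒳 C.x.left, ⊤) eg) :=
    Submodule.fg_iff_exists_fin_generating_family.1 (Module.FinitePresentation.fg_ker _ (by
      rw [← LinearMap.range_eq_top, Fintype.range_linearCombination, he]))
  have : IsAffine (sch 𝒳 C.x.left) := C.affx
  have : IsAffine (sch 𝒳 C.w.left) := C.affw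
  choose r hr using fun k => exists_gen (E := E) C.q.left he (E.obj.mapTop C.p.left (eg k))
  have hsum : ∀ (F : StMod.Mod 𝒳) {o' o : 𝒳.obj} (φ : o' ⟶ o) (z : Fin n → Γ(F.obj o, ⊤)),
      F.mapTop φ (∑ l, z l) = ∑ l, F.mapTop φ (z l) := fun F o' o φ z => map_sum (mapHom F φ) z _
  suffices key : ∃ z, ev' (bcMap A B _ (isSL_homRes e) z) = ev' τ' by
    obtain ⟨z, hz⟩ := key
    exact ⟨z, sub_eq_zero.1 (hev' _ (by rw [map_sub, hz, sub_self]))⟩
  refine mem_span_sol (π := π) (g := g) hfib C M' cs r (ev' τ') ?_ ?_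
    (fun a => ∃ z, ev' (bcMap A B _ (isSL_homRes e) z) = a) ⟨0, by rw [map_zero, map_zero]⟩
    (fun a b ⟨za, ha⟩ ⟨zb, hb⟩ => ⟨za + zb, by rw [map_add, map_add, ha, hb]⟩)
    (fun b a ⟨za, ha⟩ => ⟨(show B from b) • za, by
      rw [bcMap_smul]
      funext k
      rw [hev'smul, ha]⟩)
    (fun v hv₁ hv₂ => ?_)
  · intro j
    have hj : ∑ l, cs j l • eg l = 0 := by
      have : cs j ∈ LinearMap.ker (Fintype.linearCombination Γ(sch 𝒳 C.x.left, ⊤) eg) :=
        hcs ▸ Submodule.subset_span ⟨j, rfl⟩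
      rwa [LinearMap.mem_ker, Fintype.linearCombination_apply] at this
    have := congrArg (fun z => τ'.1 lx' (E.obj.mapTop εx z)) hj
    simp only [hsum, StMod.Mod.mapTop_zero, map_sum, map_zero, StMod.Mod.mapTop_smul, map_smul] at this
    exact this
  · intro k
    let up' : ∀ (q : C.w ⟶ C.x), w'.obj.left.left ⟶ x'.obj.left.left := fun q =>
      (upMap (π := π) (g := g) hfib q).hom.left.left
    have e₁ : ∀ (q : C.w ⟶ C.x) (l : Fin n), M.obj.mapTop (up' q) (ev' τ' l) =
        τ'.1 lw' (E.obj.mapTop εw (E.obj.mapTop q.left (eg l))) := fun q l => by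
      refine (τ'.2 (l' := lw') (l := lx') (up' q) (hcomm _) _).trans (congrArg _ ?_)
      rw [← StMod.Mod.mapTop_comp, ← StMod.Mod.mapTop_comp]
      exact congrArg (fun q => E.obj.mapTop q (eg l)) (congrArg (fun q => q.left) (upMap_eps (π := π) (g := g) hfib q))
    refine (mapTop_comap (fibFst f y) M.obj _ _).trans ((e₁ C.p k).trans ?_)
    rw [← hr k, hsum, map_sum]
    refine Finset.sum_congr rfl fun l _ => ?_
    rw [StMod.Mod.mapTop_smul, map_smul, ← e₁ C.q l]
    exact congrArg (_ • ·) (mapTop_comap (fibFst f y) M.obj (upMap (π := π) (g := g) hfib C.q).hom.left (ev' τ' l)).symm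
  · have hrel : ∀ c : Fin n → Γ(sch 𝒳 C.x.left, ⊤), ∑ l, c l • eg l = 0 →
        ∑ l, c l • (show Γ(M.obj.obj C.x.left, ⊤) from v l) = 0 := fun c hc => by
      have hmem : c ∈ Submodule.span Γ(sch 𝒳 C.x.left, ⊤) (Set.range cs) := by
        rw [hcs, LinearMap.mem_ker, Fintype.linearCombination_apply]
        exact hc
      obtain ⟨d, rfl⟩ := (Submodule.mem_span_range_iff_exists_fun _).1 hmem
      simp only [Finset.sum_apply, Pi.smul_apply, smul_eq_mul, Finset.sum_smul, mul_smul]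
      rw [Finset.sum_comm]
      simp only [← Finset.smul_sum]
      exact Finset.sum_eq_zero fun j _ => (congrArg (d j • ·) (hv₁ j)).trans (smul_zero _)
    obtain ⟨ψ, hψ⟩ := C.exists_hom hfib ((StMod.comapQ (fibFst f y)).obj E) M' eg he v hrel
      r (fun k => (mapTop_comap (fibFst f y) E.obj C.p _).trans ((hr k).symm.trans
        (Finset.sum_congr rfl fun l _ => congrArg (r k l • ·) (mapTop_comap (fibFst f y) E.obj C.q _).symm))) hv₂
    refine ⟨(1 : B) ⊗ₜ ofHom ψ, funext fun k => ?_⟩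
    rw [bcMap_tmul, one_smul, hev'res]
    refine Eq.trans ?_ (mapTop_comap (fibFst f y) M.obj _ _).symm
    exact congrArg (M.obj.mapTop εx) (hψ k)

end Groth.Agent.H14.GenFam
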