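import Groth.Agent.H14.GenFam.Main

/-!
Relative generating families are local on the target for flat families of charts.
-/

set_option autoImplicit false
set_option backward.isDefEq.respectTransparency false
set_option backward.isDefEq.respectTransparency.types false
set_option linter.style.haveILetI false

universe u

open CategoryTheory CategoryTheory.Limits AlgebraicGeometry Opposite
open StMod (sch bmap fibCat fibFst)
open Groth.Agent.Lib Groth.Agent.Lib.AlgStack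
open Groth.Agent.H14.ModDesc
open Groth.Agent.H14.AffPush
open FibCat (IsFibGrpd IsEquivOver fp fpFst fpSnd overCat)
open AlgSt (overMap RepByAlgSpWith IsAlgStack)
open AlgSp (LocP)

namespace Groth.Agent.H14.GenFam

variable {S : Scheme.{u}} {𝒳 𝒴 : AlgSt.Cat S} (f : 𝒳 ⥤ᵇ 𝒴) {ι : Type u} (E : ι → StMod.QCoh 𝒳)

theorem isAffine_obj {T : Over S} (hT : IsAffine T.left) (y : overCat T ⥤ᵇ 𝒴) :
    IsAffine (sch 𝒴 (y.obj (Over.mk (𝟙 T)))) := by
  show IsAffine (𝒴.p.obj _).left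
  rw [y.w_obj]
  exact hT

/-- The category over the tautological object of an affine scheme has a chart. -/
theorem exists_chart_fib (h𝒳 : IsAlgStack Scheme.fppfPrecoverage 𝒳) (h𝒴 : IsAlgStack Scheme.fppfPrecoverage 𝒴)
    (hfqc : AlgSt.IsQuasiCompactMor Scheme.fppfPrecoverage f) (hfqs : AlgSt.IsQuasiSeparatedMor f) {V : Over S}
    (hV : IsAffine V.left) (y : overCat V ⥤ᵇ 𝒴) : Nonempty (Chart (fibCat f (y.obj (Over.mk (𝟙 V))))) := by
  have hVc := H14.Chart.Basic.isAlgStack_overCat V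
  have hP := H14.Chart.Basic.isAlgStack_fp h𝒴 hVc h𝒳 y f
  obtain ⟨C⟩ := exists_chart hP (fpFst y f) (H14.Sep.Rep.diag_fpFst y hfqs)
    (hfqc _ hVc (H14.Chart.QC.isQuasiCompact_overCat V) y)
  refine Chart.transfer ((isEqv_of_isEquivOver (Lib.AlgStack.FibProd.isEquivOver_swap y f) hP.isStack.1
    (Lib.AlgStack.FibProd.isFibGrpd_fp h𝒳.isStack.1 (Yoneda.isFibGrpd_overCat V) h𝒴.isStack.1)).comp
      (isEqv_fpToFib h𝒳.isStack.1 h𝒴.isStack.1 f y)) C

/-- A family is relatively generating as soon as every affine object is, near every point, flatly dominated by one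
over which it generates. -/
theorem isRelGenFam_of_local (h𝒳 : IsAlgStack Scheme.fppfPrecoverage 𝒳) (h𝒴 : IsAlgStack Scheme.fppfPrecoverage 𝒴)
    (hfqc : AlgSt.IsQuasiCompactMor Scheme.fppfPrecoverage f) (hfqs : AlgSt.IsQuasiSeparatedMor f)
    (hE : ∀ i, (E i).obj.IsFinPres)
    (h : ∀ η, IsAffine (sch 𝒴 η) → ∀ v : sch 𝒴 η, ∃ (ω : 𝒴.obj) (c : ω ⟶ η),
      IsAffine (sch 𝒴 ω) ∧ Flat (bmap 𝒴 c) ∧ v ∈ Set.range (bmap 𝒴 c) ∧ StMod.IsGenFam (fam f E ω)) :
    StMod.IsRelGenFam f E := by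
  intro η hη
  have hX := h𝒳.isStack.1
  have hY := h𝒴.isStack.1
  obtain ⟨κ, -⟩ := Yoneda.exists_fromObj_iso hY (rfl : 𝒴.p.obj η = 𝒴.p.obj η)
  have hη' := isAffine_obj (T := 𝒴.p.obj η) hη (Yoneda.fromObj hY rfl)
  obtain ⟨C⟩ := exists_chart_fib f h𝒳 h𝒴 hfqc hfqs (V := 𝒴.p.obj η) hη (Yoneda.fromObj hY rfl)
  choose ω c hω hfl hv hgen using h _ hη'
  exact isGenFam_of_hom f E hX hY κ.inv hη hη'
    (isGenFam_of_flat f E hX hY hE hη' C ω c hω hfl (fun v => ⟨v, hv v⟩) hgen)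

/-- A family generating on a fibre product with a scheme generates over the tautological object. -/
theorem isGenFam_of_fp (h𝒳 : IsFibGrpd 𝒳.p) (h𝒴 : IsFibGrpd 𝒴.p) {T : Over S} (y : overCat T ⥤ᵇ 𝒴)
    (h : StMod.IsGenFam (fun i => (StMod.comapQ (fpFst f y)).obj (E i))) :
    StMod.IsGenFam (fam f E (y.obj (Over.mk (𝟙 T)))) :=
  (isEqv_fpToFib h𝒳 h𝒴 f y).isGenFam_of_source (E := fam f E _)
    (fun i => comapIso₂ (fpToFib f y) (fibFst f _) (fpFst f y) rfl (E i).obj) h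

/-- The category over an object of a stack mapped to the base, as that over its image. -/
def fpSndToFib {𝒵 : AlgSt.Cat S} (u : 𝒵 ⥤ᵇ 𝒴) (η : 𝒵.obj) : fibCat (fpSnd f u) η ⥤ᵇ fibCat f (u.obj η) where
  toFunctor :=
    { obj := fun P => CostructuredArrow.mk (P.left.obj.iso.hom ≫ u.map P.hom)
      map := fun {P P'} m => CostructuredArrow.homMk m.left.hom.fst (by
        show f.map m.left.hom.fst ≫ P'.left.obj.iso.hom ≫ u.map P'.hom = P.left.obj.iso.hom ≫ u.map P.hom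
        rw [← Category.assoc]
        refine (congrArg (· ≫ _) m.left.hom.w).trans ?_
        rw [Category.assoc]
        refine congrArg (P.left.obj.iso.hom ≫ ·) ?_
        show u.map m.left.hom.snd ≫ u.map P'.hom = _
        rw [← u.toFunctor.map_comp]
        exact congrArg (fun k => u.map k) (CostructuredArrow.w m))
      map_id := fun P => CostructuredArrow.hom_ext _ _ rfl
      map_comp := fun _ _ => CostructuredArrow.hom_ext _ _ rfl }
  w := rfl

theorem isEqv_fpSndToFib {𝒵 : AlgSt.Cat S} (hX : IsFibGrpd 𝒳.p) (hY : IsFibGrpd 𝒴.p) (hZ : IsFibGrpd 𝒵.p)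
    (u : 𝒵 ⥤ᵇ 𝒴) (η : 𝒵.obj) : IsEqv (fpSndToFib f u η) := by
  have hbase : ∀ (P : (fibCat (fpSnd f u) η).obj),
      StMod.baseOver f P.left.obj.fst (P.left.obj.iso.hom ≫ u.map P.hom) =
        eqToHom (FibProd.snd_obj P.left).symm ≫ 𝒵.p.map P.hom ≫ eqToHom (u.w_obj η).symm := fun P => by
    haveI : 𝒴.p.IsHomLift (𝟙 (𝒳.p.obj P.left.obj.fst)) P.left.obj.iso.hom := P.left.property
    haveI : 𝒴.p.IsHomLift (𝒵.p.map P.hom) (u.map P.hom) := inferInstance
    rw [StMod.baseOver, Functor.map_comp, IsHomLift.fac' 𝒴.p (𝟙 (𝒳.p.obj P.left.obj.fst)) P.left.obj.iso.hom,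
      IsHomLift.fac' 𝒴.p (𝒵.p.map P.hom) (u.map P.hom)]
    simp
  refine ⟨isFibGrpd_fibCat (FibProd.isFibGrpd_fp hX hZ hY) _ _, isFibGrpd_fibCat hX f _,
    ⟨fun {P P'} k => ?_⟩, ⟨fun {P P' m m'} h => ?_⟩, fun o => ?_⟩
  · let k₁ : P.left.obj.fst ⟶ P'.left.obj.fst := k.left
    have w : f.map k₁ ≫ P'.left.obj.iso.hom ≫ u.map P'.hom = P.left.obj.iso.hom ≫ u.map P.hom :=
      CostructuredArrow.w k
    let a : P.left.obj.snd ⟶ η := P.hom
    let a' : P'.left.obj.snd ⟶ η := P'.hom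
    let d : 𝒵.p.obj P.left.obj.snd ⟶ 𝒵.p.obj P'.left.obj.snd :=
      eqToHom (FibProd.snd_obj P.left) ≫ 𝒳.p.map k₁ ≫ eqToHom (FibProd.snd_obj P'.left).symm
    have hd : d ≫ 𝒵.p.map a' = 𝒵.p.map a := by
      have h1 := hbase P
      rw [← w, ← StMod.map_comp_baseOver, hbase P'] at h1
      simp only [← Category.assoc] at h1
      rw [cancel_mono] at h1
      simp only [Category.assoc] at h1
      simp only [d, Category.assoc]
      erw [h1]
      rw [← Category.assoc, eqToHom_trans, eqToHom_refl]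
      exact Category.id_comp _
    haveI : 𝒵.p.IsHomLift (d ≫ 𝒵.p.map a') a := by rw [hd]; exact IsHomLift.map 𝒵.p a
    obtain ⟨b, hb, hba⟩ := BasedBasic.exists_lift_through hZ a' a d
    have hw : f.map k₁ ≫ P'.left.obj.iso.hom = P.left.obj.iso.hom ≫ u.map b := by
      refine BasedBasic.hom_eq_of_comp_eq hY (u.map a') ?_ ?_
      · haveI : 𝒴.p.IsHomLift (𝟙 (𝒳.p.obj P.left.obj.fst)) P.left.obj.iso.hom := P.left.property
        haveI : 𝒴.p.IsHomLift (𝟙 (𝒳.p.obj P'.left.obj.fst)) P'.left.obj.iso.hom := P'.left.property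
        haveI : 𝒴.p.IsHomLift d (u.map b) := inferInstance
        rw [Functor.map_comp, Functor.map_comp, IsHomLift.fac' 𝒴.p (𝟙 (𝒳.p.obj P.left.obj.fst)) P.left.obj.iso.hom,
          IsHomLift.fac' 𝒴.p (𝟙 (𝒳.p.obj P'.left.obj.fst)) P'.left.obj.iso.hom, IsHomLift.fac' 𝒴.p d (u.map b),
          IsHomLift.fac' 𝒴.p (𝒳.p.map k₁) (f.map k₁)]
        simp [d]
      · rw [Category.assoc, Category.assoc]
        refine w.trans ?_
        rw [← u.toFunctor.map_comp, hba]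
    exact ⟨CostructuredArrow.homMk (FibProd.homMk k₁ b hw) hba, CostructuredArrow.hom_ext _ _ rfl⟩
  · let n := m.left
    let n' := m'.left
    have h1 : n.hom.fst = n'.hom.fst := congrArg (fun k => k.left) h
    have h2 : n.hom.snd ≫ P'.hom = n'.hom.snd ≫ P'.hom :=
      (CostructuredArrow.w m).trans (CostructuredArrow.w m').symm
    refine CostructuredArrow.hom_ext _ _ (FibProd.hom_ext h1 (BasedBasic.hom_eq_of_comp_eq hZ P'.hom ?_ h2))
    haveI := FibCat.fp_isHomLift_snd f u n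
    haveI := FibCat.fp_isHomLift_snd f u n'
    rw [IsHomLift.fac' 𝒵.p ((fp f u).p.map n) n.hom.snd, IsHomLift.fac' 𝒵.p ((fp f u).p.map n') n'.hom.snd]
    show _ ≫ 𝒳.p.map n.hom.fst ≫ _ = _ ≫ 𝒳.p.map n'.hom.fst ≫ _
    rw [h1]
  · let e₀ : 𝒳.p.obj o.left ⟶ 𝒵.p.obj η := StMod.baseOver f o.left o.hom ≫ eqToHom (u.w_obj η)
    obtain ⟨z, a, ha⟩ := hZ.exists_lift e₀
    have hz : 𝒵.p.obj z = 𝒳.p.obj o.left := IsHomLift.domain_eq 𝒵.p e₀ a
    have hh : 𝒴.p.obj (f.obj o.left) = 𝒴.p.obj (u.obj z) :=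
      (f.w_obj o.left).trans (hz.symm.trans (u.w_obj z).symm)
    haveI : 𝒴.p.IsHomLift e₀ (u.map a) := inferInstance
    obtain ⟨i, hi, hik⟩ := exists_isoOver hY o.hom (u.map a) hh (by
      rw [IsHomLift.fac' 𝒴.p e₀ (u.map a)]
      simp [e₀, StMod.baseOver])
    have hi' : 𝒴.p.IsHomLift (𝟙 (𝒳.p.obj o.left)) i.hom := by
      rw [← f.w_obj o.left]
      exact hi
    refine ⟨CostructuredArrow.mk (Y := FibProd.objMk o.left z i hi') (S := (fpSnd f u).toFunctor) a,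
      CostructuredArrow.isoMk (Iso.refl _) ?_, ?_⟩
    · show f.map (𝟙 _) ≫ o.hom = i.hom ≫ u.map a
      rw [f.toFunctor.map_id, Category.id_comp, hik]
    · refine IsHomLift.of_fac' _ _ _ rfl rfl ?_
      show 𝒳.p.map (𝟙 o.left) = 𝟙 _ ≫ 𝟙 _ ≫ 𝟙 _
      simp

/-- Relative generation over a stack over the base gives generation over the images of its affine objects. -/
theorem isGenFam_of_relGenFam {𝒵 : AlgSt.Cat S} (hX : IsFibGrpd 𝒳.p) (hY : IsFibGrpd 𝒴.p) (hZ : IsFibGrpd 𝒵.p)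
    (u : 𝒵 ⥤ᵇ 𝒴)
    (h : StMod.IsRelGenFam (fpSnd f u) (fun i => (StMod.comapQ (fpFst f u)).obj (E i))) {η : 𝒵.obj}
    (hη : IsAffine (sch 𝒵 η)) : StMod.IsGenFam (fam f E (u.obj η)) :=
  (isEqv_fpSndToFib f hX hY hZ u η).isGenFam_of_source (E := fam f E _)
    (E' := fun i => (StMod.comapQ (fibFst (fpSnd f u) η)).obj ((StMod.comapQ (fpFst f u)).obj (E i)))
    (fun i => comapIso₂ (fpSndToFib f u η) (fibFst f (u.obj η))
        (BasedFunctor.comp (fibFst (fpSnd f u) η) (fpFst f u)) rfl (E i).obj ≪≫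
      StMod.comapCompIso (fpFst f u) (fibFst (fpSnd f u) η) (E i).obj) (h η hη)

end Groth.Agent.H14.GenFam
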