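import Groth.Agent.H14.GenFam.Chart2FP
import Groth.Agent.H14.GenFam.Local

/-!
Transport of charts along equivalences, and charts of the category over an affine object.
-/

set_option autoImplicit false
set_option backward.isDefEq.respectTransparency false
set_option backward.isDefEq.respectTransparency.types false
set_option linter.style.haveILetI false

universe u

open CategoryTheory CategoryTheory.Limits AlgebraicGeometry
open StMod (sch bmap fibCat fibFst)
open Groth.Agent.Lib Groth.Agent.Lib.AlgStack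
open Groth.Agent.H14.ModDesc
open FibCat (IsFibGrpd IsEquivOver fp fpFst fpSnd overCat)
open AlgSt (IsAlgStack)

namespace Groth.Agent.H14.GenFam

variable {S : Scheme.{u}} {𝒜 ℬ : AlgSt.Cat S} {G : 𝒜 ⥤ᵇ ℬ}

theorem IsEqv.exists_symm (hG : IsEqv G) : ∃ G' : ℬ ⥤ᵇ 𝒜, IsEqv G' := by
  have := hG.full
  have := hG.faithful
  obtain ⟨G', hG', -⟩ := BasedBasic.IsEquivOver.exists_inverse (BasedBasic.isEquivOver_of G hG.obj)
  exact ⟨G', isEqv_of_isEquivOver hG' hG.fibY hG.fibX⟩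

theorem flat_map (G : 𝒜 ⥤ᵇ ℬ) {a b : 𝒜.obj} (φ : a ⟶ b) (h : Flat (bmap 𝒜 φ)) : Flat (bmap ℬ (G.map φ)) := by
  rw [bmap_iso]
  infer_instance

/-- A chart with a double relation is transported by an equivalence. -/
theorem Chart2.transfer (hG : IsEqv G) (C : Chart2 𝒜) : Nonempty (Chart2 ℬ) := by
  have := hG.full
  have := hG.faithful
  refine ⟨{
    x := G.obj C.x
    w := G.obj C.w
    affx := isAffine_map G _ C.affx
    affw := isAffine_map G _ C.affw
    p := G.map C.p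
    q := G.map C.q
    cover := fun o ho => ?_
    overlap := fun o ho a b => ?_
    flat := flat_map G _ C.flat
    w2 := G.obj C.w2
    affw2 := isAffine_map G _ C.affw2
    k := G.map C.k
    k' := G.map C.k'
    hp := by rw [← G.toFunctor.map_comp, C.hp, G.toFunctor.map_comp]
    hq := by rw [← G.toFunctor.map_comp, C.hq, G.toFunctor.map_comp]
    flat2 := by
      rw [← G.toFunctor.map_comp]
      exact flat_map G _ C.flat2
    overlap2 := fun o ho a b hab hab' => ?_ }⟩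
  · obtain ⟨P, hP, e, he⟩ := hG.exists_affPre o ho
    obtain ⟨n, D, hD⟩ := C.cover P hP
    let D' : Cover P (ULift.{u} (Fin n)) := ⟨fun j => D.E j.down, fun j => D.aff _, fun j => D.e _, fun j => D.flat _,
      fun x => by obtain ⟨j, h⟩ := D.surj x; exact ⟨⟨j⟩, h⟩⟩
    obtain ⟨E, hE⟩ := exists_coverImg G e D'
    refine ⟨n, ⟨fun j => E.E ⟨j⟩, fun j => E.aff _, fun j => E.e _, fun j => E.flat _,
      fun x => by obtain ⟨j, h⟩ := E.surj x; exact ⟨j.down, h⟩⟩, fun j => ?_⟩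
    obtain ⟨i, -⟩ := hE ⟨j⟩
    exact ⟨eqToHom i ≫ G.map (hD j).some⟩
  · obtain ⟨P, hP, e, he⟩ := hG.exists_affPre o ho
    obtain ⟨a', ha'⟩ := G.toFunctor.map_surjective (e.hom ≫ a)
    obtain ⟨b', hb'⟩ := G.toFunctor.map_surjective (e.hom ≫ b)
    obtain ⟨J, _, D, hD⟩ := C.overlap P hP a' b'
    obtain ⟨E, hE⟩ := exists_coverImg G e D
    refine ⟨J, inferInstance, E, fun j => ?_⟩
    obtain ⟨i, hi⟩ := hE j
    obtain ⟨c, hc₁, hc₂⟩ := hD j
    refine ⟨eqToHom i ≫ G.map c, ?_, ?_⟩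
    · rw [hi, Category.assoc, Category.assoc, Category.assoc, ← G.toFunctor.map_comp, hc₁, G.toFunctor.map_comp, ha']
    · rw [hi, Category.assoc, Category.assoc, Category.assoc, ← G.toFunctor.map_comp, hc₂, G.toFunctor.map_comp, hb']
  · obtain ⟨P, hP, e, he⟩ := hG.exists_affPre o ho
    obtain ⟨a', ha'⟩ := G.toFunctor.map_surjective (e.hom ≫ a)
    obtain ⟨b', hb'⟩ := G.toFunctor.map_surjective (e.hom ≫ b)
    obtain ⟨J, D, hD⟩ := C.overlap2 P hP a' b'
      (G.toFunctor.map_injective (by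
        rw [G.toFunctor.map_comp, G.toFunctor.map_comp, ha', hb', Category.assoc, Category.assoc, hab]))
      (G.toFunctor.map_injective (by
        rw [G.toFunctor.map_comp, G.toFunctor.map_comp, ha', hb', Category.assoc, Category.assoc, hab']))
    obtain ⟨E, hE⟩ := exists_coverImg G e D
    refine ⟨J, E, fun j => ?_⟩
    obtain ⟨i, hi⟩ := hE j
    obtain ⟨c, hc₁, hc₂⟩ := hD j
    refine ⟨eqToHom i ≫ G.map c, ?_, ?_⟩
    · rw [hi, Category.assoc, Category.assoc, Category.assoc, ← G.toFunctor.map_comp, hc₁, G.toFunctor.map_comp, ha']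
    · rw [hi, Category.assoc, Category.assoc, Category.assoc, ← G.toFunctor.map_comp, hc₂, G.toFunctor.map_comp, hb']

variable {𝒳 𝒴 : AlgSt.Cat S} (f : 𝒳 ⥤ᵇ 𝒴)

/-- The functor between the categories over two objects given by a morphism. -/
def mapFun {ω η : 𝒴.obj} (c : ω ⟶ η) : fibCat f ω ⥤ᵇ fibCat f η where
  toFunctor :=
    { obj := fun P => CostructuredArrow.mk (P.hom ≫ c)
      map := fun {P P'} m => CostructuredArrow.homMk m.left (by
        show f.map m.left ≫ P'.hom ≫ c = P.hom ≫ c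
        rw [← Category.assoc, CostructuredArrow.w m])
      map_id := fun _ => CostructuredArrow.hom_ext _ _ rfl
      map_comp := fun _ _ => CostructuredArrow.hom_ext _ _ rfl }
  w := rfl

theorem isEqv_mapFun (hX : IsFibGrpd 𝒳.p) {ω η : 𝒴.obj} (c : ω ⟶ η) [IsIso c] : IsEqv (mapFun f c) := by
  refine ⟨isFibGrpd_fibCat hX f _, isFibGrpd_fibCat hX f _, ⟨fun {P P'} k => ?_⟩, ⟨fun {P P' m m'} h => ?_⟩,
    fun o => ?_⟩
  · let k₀ : P.left ⟶ P'.left := k.left
    refine ⟨CostructuredArrow.homMk k₀ ?_, CostructuredArrow.hom_ext _ _ rfl⟩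
    rw [← cancel_mono c, Category.assoc]
    exact CostructuredArrow.w k
  · exact CostructuredArrow.hom_ext _ _ (congrArg (fun k => k.left) h)
  · refine ⟨CostructuredArrow.mk (o.hom ≫ inv c), CostructuredArrow.isoMk (Iso.refl _) ?_, ?_⟩
    · show f.map (𝟙 _) ≫ o.hom = (o.hom ≫ inv c) ≫ c
      rw [f.toFunctor.map_id, Category.id_comp, Category.assoc, IsIso.inv_hom_id, Category.comp_id]
    · refine IsHomLift.of_fac' _ _ _ rfl rfl ?_
      show 𝒳.p.map (𝟙 o.left) = 𝟙 _ ≫ 𝟙 _ ≫ 𝟙 _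
      simp

variable (h𝒳 : IsAlgStack Scheme.fppfPrecoverage 𝒳) (h𝒴 : IsAlgStack Scheme.fppfPrecoverage 𝒴)
  (hfqc : AlgSt.IsQuasiCompactMor Scheme.fppfPrecoverage f) (hfqs : AlgSt.IsQuasiSeparatedMor f)

include h𝒳 h𝒴 hfqc hfqs in
/-- The category over an affine object has a chart with a double relation. -/
theorem exists_chart2_at (η : 𝒴.obj) (hη : IsAffine (sch 𝒴 η)) : Nonempty (Chart2 (fibCat f η)) := by
  have hX := h𝒳.isStack.1
  have hY := h𝒴.isStack.1
  obtain ⟨κ, -⟩ := Yoneda.exists_fromObj_iso hY (rfl : 𝒴.p.obj η = 𝒴.p.obj η)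
  haveI : IsAffine (𝒴.p.obj η).left := hη
  let y := Yoneda.fromObj hY (rfl : 𝒴.p.obj η = 𝒴.p.obj η)
  have hVc := H14.Chart.Basic.isAlgStack_overCat (𝒴.p.obj η)
  have hP := H14.Chart.Basic.isAlgStack_fp h𝒴 hVc h𝒳 y f
  obtain ⟨C⟩ := exists_chart2 hP (fpFst y f) (H14.Sep.Rep.diag_fpFst y hfqs)
    (hfqc _ hVc (H14.Chart.QC.isQuasiCompact_overCat (𝒴.p.obj η)) y)
  exact Chart2.transfer (((isEqv_of_isEquivOver (Lib.AlgStack.FibProd.isEquivOver_swap y f) hP.isStack.1
    (Lib.AlgStack.FibProd.isFibGrpd_fp hX (Yoneda.isFibGrpd_overCat _) hY)).comp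
      (isEqv_fpToFib hX hY f y)).comp (isEqv_mapFun f hX κ.hom)) C

include h𝒳 h𝒴 hfqc hfqs in
theorem exists_chart_at (η : 𝒴.obj) (hη : IsAffine (sch 𝒴 η)) : Nonempty (Chart (fibCat f η)) :=
  (exists_chart2_at f h𝒳 h𝒴 hfqc hfqs η hη).map fun C => C.toChart

end Groth.Agent.H14.GenFam
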