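import Groth.Agent.H14.GenFam.Chart

/-!
Functors of modules on affine objects which commute with flat base change, and their extensions along maps
to a chart.
-/

set_option autoImplicit false
set_option backward.isDefEq.respectTransparency false
set_option backward.isDefEq.respectTransparency.types false
set_option linter.style.haveILetI false

universe u

open CategoryTheory CategoryTheory.Limits AlgebraicGeometry Opposite TensorProduct
open StMod (sch bmap)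
open Groth.Agent.Lib.AlgStack
open Groth.Agent.H14.ModDesc

namespace Groth.Agent.H14.GenFam

section Ext

variable {A B C : Type u} [CommRing A] [CommRing B] [CommRing C]

/-- The target ring as an algebra over the source. -/
def AlgB (_ : A →+* B) : Type u := B

noncomputable instance (φ : A →+* B) : CommRing (AlgB φ) := inferInstanceAs (CommRing B)

noncomputable instance (φ : A →+* B) : Algebra A (AlgB φ) := φ.toAlgebra

noncomputable instance (φ : A →+* B) : Module B (AlgB φ) := inferInstanceAs (Module B B)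

instance (φ : A →+* B) : SMulCommClass A B (AlgB φ) :=
  ⟨fun a b (x : B) => show φ a * (b * x) = b * (φ a * x) from mul_left_comm _ _ _⟩

/-- The extension of scalars. -/
abbrev Ext (φ : A →+* B) (M : Type u) [AddCommGroup M] [Module A M] : Type u :=
  AlgB φ ⊗[A] M

variable (φ : A →+* B) (M : Type u) [AddCommGroup M] [Module A M]

/-- The unit. -/
noncomputable def Ext.mk : M →+ Ext φ M :=
  (TensorProduct.mk A (AlgB φ) M 1).toAddMonoidHom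

theorem isBC_mk : IsBC φ (Ext.mk φ M) := by
  let := φ.toAlgebra
  have hs : IsSL (algebraMap A B) (Ext.mk φ M) := fun a m => by
    show (1 : B) ⊗ₜ[A] (a • m) = algebraMap A B a • ((1 : B) ⊗ₜ[A] m)
    rw [tmul_smul, algebraMap_smul]
  refine (isBC_iff rfl).2 ⟨hs, ?_⟩
  have : ∀ z, bcMap A B (Ext.mk φ M) hs z = z := fun z => by
    induction z with
    | zero => exact map_zero _
    | tmul b m =>
      show b • ((1 : B) ⊗ₜ[A] m) = b ⊗ₜ[A] m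
      rw [smul_tmul', smul_eq_mul, mul_one]
    | add x y hx hy =>
      rw [map_add, hx, hy]
  exact ⟨fun a b h => ((this a).symm.trans (h.trans (this b))), fun z => ⟨z, this z⟩⟩

variable {φ M} {N P : Type u} [AddCommGroup N] [Module B N] [AddCommGroup P] [Module C P] {g : M →+ N}
  {ψ : B →+* C}

/-- Semilinear maps agreeing after composition with a base change map agree. -/
theorem sl_ext (hg : IsBC φ g) {F G : N →+ P} (hF : IsSL ψ F) (hG : IsSL ψ G) (h : ∀ m, F (g m) = G (g m)) :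
    F = G :=
  AddMonoidHom.ext fun y => bc_induction hg (P := fun y => F y = G y) (by rw [map_zero, map_zero])
    (fun x y hx hy => by rw [map_add, map_add, hx, hy]) (fun b m => by rw [hF, hG, h]) y

/-- A map semilinear along a composite extends along the base change. -/
theorem sl_extend (hg : IsBC φ g) (f : M →+ P) (hf : IsSL (ψ.comp φ) f) :
    ∃ F : N →+ P, IsSL ψ F ∧ ∀ m, F (g m) = f m := by
  let : Module B P := Module.compHom P ψ
  obtain ⟨F, hF⟩ := bc_extend hg f hf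
  exact ⟨F.toAddMonoidHom, fun b y => F.map_smul b y, hF⟩

end Ext

variable {S : Scheme.{u}}

/-- Modules on the affine objects commuting with flat base change. -/
structure FlatFun (𝒳 : AlgSt.Cat S) where
  /-- the module -/
  obj : ∀ (o : 𝒳.obj) [IsAffine (sch 𝒳 o)], Type u
  [grp : ∀ (o : 𝒳.obj) [IsAffine (sch 𝒳 o)], AddCommGroup (obj o)]
  [mod : ∀ (o : 𝒳.obj) [IsAffine (sch 𝒳 o)], Module Γ(sch 𝒳 o, ⊤) (obj o)]
  /-- restriction -/
  res : ∀ {o' o : 𝒳.obj} [IsAffine (sch 𝒳 o')] [IsAffine (sch 𝒳 o)], (o' ⟶ o) → (obj o →+ obj o')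
  sl : ∀ {o' o : 𝒳.obj} [IsAffine (sch 𝒳 o')] [IsAffine (sch 𝒳 o)] (e : o' ⟶ o),
    IsSL (bmap 𝒳 e).appTop.hom (res e)
  res_id : ∀ (o : 𝒳.obj) [IsAffine (sch 𝒳 o)] (s : obj o), res (𝟙 o) s = s
  res_comp : ∀ {o'' o' o : 𝒳.obj} [IsAffine (sch 𝒳 o'')] [IsAffine (sch 𝒳 o')] [IsAffine (sch 𝒳 o)]
    (e' : o'' ⟶ o') (e : o' ⟶ o) (s : obj o), res (e' ≫ e) s = res e' (res e s)
  bc : ∀ {o' o : 𝒳.obj} [IsAffine (sch 𝒳 o')] [IsAffine (sch 𝒳 o)] (e : o' ⟶ o),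
    Flat (bmap 𝒳 e) → IsBC (bmap 𝒳 e).appTop.hom (res e)

attribute [instance] FlatFun.grp FlatFun.mod

variable {𝒳 : AlgSt.Cat S}

/-- A chart with flat first projection and with objects comparing two maps to the relation. -/
structure Chart2 (𝒳 : AlgSt.Cat S) extends Chart 𝒳 where
  flat : Flat (bmap 𝒳 p)
  /-- the comparison -/
  w2 : 𝒳.obj
  affw2 : IsAffine (sch 𝒳 w2)
  /-- first map -/
  k : w2 ⟶ w
  /-- second map -/
  k' : w2 ⟶ w
  hp : k ≫ p = k' ≫ p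
  hq : k ≫ q = k' ≫ q
  flat2 : Flat (bmap 𝒳 (k ≫ p))
  overlap2 : ∀ o, IsAffine (sch 𝒳 o) → ∀ a b : o ⟶ w, a ≫ p = b ≫ p → a ≫ q = b ≫ q →
    ∃ (J : Type u) (C : Cover o J), ∀ j, ∃ c : C.E j ⟶ w2, c ≫ k = C.e j ≫ a ∧ c ≫ k' = C.e j ≫ b

attribute [instance] Chart2.affw2

variable (Φ : FlatFun 𝒳) (C : Chart2 𝒳)

/-- The extension of the module of the chart along a map to it. -/
abbrev MM {z : 𝒳.obj} (a : z ⟶ C.x) : Type u := Ext (bmap 𝒳 a).appTop.hom (Φ.obj C.x)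

/-- The unit of the extension. -/
noncomputable abbrev unitM {z : 𝒳.obj} (a : z ⟶ C.x) : Φ.obj C.x →+ MM Φ C a := Ext.mk _ _

variable {Φ C}

theorem bmap_hom_comp {z' z y : 𝒳.obj} (g : z' ⟶ z) (a : z ⟶ y) :
    (bmap 𝒳 (g ≫ a)).appTop.hom = (bmap 𝒳 g).appTop.hom.comp (bmap 𝒳 a).appTop.hom := by
  rw [StMod.bmap_comp, appTop_comp_hom]

/-- Restriction of the extensions. -/
theorem exists_resM {z' z : 𝒳.obj} (g : z' ⟶ z) {a : z ⟶ C.x} {a' : z' ⟶ C.x} (h : g ≫ a = a') :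
    ∃ F : MM Φ C a →+ MM Φ C a', IsSL (bmap 𝒳 g).appTop.hom F ∧ ∀ m, F (unitM Φ C a m) = unitM Φ C a' m := by
  subst h
  exact sl_extend (isBC_mk _ _) _ (bmap_hom_comp g a ▸ (isBC_mk _ (Φ.obj C.x)).sl)

/-- Restriction of the extensions. -/
noncomputable def resM {z' z : 𝒳.obj} (g : z' ⟶ z) {a : z ⟶ C.x} {a' : z' ⟶ C.x} (h : g ≫ a = a') :
    MM Φ C a →+ MM Φ C a' :=
  (exists_resM g h).choose

theorem isSL_resM {z' z : 𝒳.obj} (g : z' ⟶ z) {a : z ⟶ C.x} {a' : z' ⟶ C.x} (h : g ≫ a = a') :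
    IsSL (bmap 𝒳 g).appTop.hom (resM (Φ := Φ) g h) :=
  (exists_resM g h).choose_spec.1

theorem resM_unit {z' z : 𝒳.obj} (g : z' ⟶ z) {a : z ⟶ C.x} {a' : z' ⟶ C.x} (h : g ≫ a = a') (m : Φ.obj C.x) :
    resM g h (unitM Φ C a m) = unitM Φ C a' m :=
  (exists_resM g h).choose_spec.2 m

theorem resM_unique {z' z : 𝒳.obj} (g : z' ⟶ z) {a : z ⟶ C.x} {a' : z' ⟶ C.x} (h : g ≫ a = a')
    {F : MM Φ C a →+ MM Φ C a'} (hs : IsSL (bmap 𝒳 g).appTop.hom F)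
    (hu : ∀ m, F (unitM Φ C a m) = unitM Φ C a' m) : F = resM g h :=
  sl_ext (isBC_mk _ _) hs (isSL_resM g h) fun m => (hu m).trans (resM_unit g h m).symm

theorem resM_id {z : 𝒳.obj} {a : z ⟶ C.x} (h : 𝟙 z ≫ a = a) (v : MM Φ C a) : resM (𝟙 z) h v = v := by
  refine (DFunLike.congr_fun (resM_unique (𝟙 z) h (F := AddMonoidHom.id _) (fun r m => ?_) fun m => rfl) v).symm
  show r • m = (bmap 𝒳 (𝟙 z)).appTop.hom r • m
  rw [StMod.bmap_id, Scheme.Hom.id_appTop]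
  rfl

theorem resM_comp {z'' z' z : 𝒳.obj} (g' : z'' ⟶ z') (g : z' ⟶ z) {a : z ⟶ C.x} {a' : z' ⟶ C.x}
    {a'' : z'' ⟶ C.x} (h : g ≫ a = a') (h' : g' ≫ a' = a'') (h'' : (g' ≫ g) ≫ a = a'') (v : MM Φ C a) :
    resM (g' ≫ g) h'' v = resM g' h' (resM g h v) := by
  refine (DFunLike.congr_fun (resM_unique (g' ≫ g) h'' (F := (resM g' h').comp (resM g h)) (fun r m => ?_)
    fun m => ?_) v).symm
  · show resM g' h' (resM g h (r • m)) = (bmap 𝒳 (g' ≫ g)).appTop.hom r • resM g' h' (resM g h m)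
    rw [isSL_resM g h, isSL_resM g' h', bmap_hom_comp]
    rfl
  · show resM g' h' (resM g h (unitM Φ C a m)) = _
    rw [resM_unit, resM_unit]

theorem resM_congr {z' z : 𝒳.obj} {g g' : z' ⟶ z} (e : g = g') {a : z ⟶ C.x} {a' : z' ⟶ C.x} (h : g ≫ a = a')
    (h' : g' ≫ a = a') (v : MM Φ C a) : resM g h v = resM g' h' v := by
  subst e
  rfl

theorem isBC_resM {z' z : 𝒳.obj} (g : z' ⟶ z) {a : z ⟶ C.x} {a' : z' ⟶ C.x} (h : g ≫ a = a') :
    IsBC (bmap 𝒳 g).appTop.hom (resM (Φ := Φ) g h) := by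
  refine IsBC.of_comp (isBC_mk _ _) (isSL_resM g h) ((isBC_mk (bmap 𝒳 a').appTop.hom _).congr ?_ ?_)
  · rw [← bmap_hom_comp, h]
  · exact AddMonoidHom.ext fun m => (resM_unit g h m).symm

/-- Elements agreeing on a cover agree. -/
theorem eqM {z : 𝒳.obj} [IsAffine (sch 𝒳 z)] {J : Type*} (D : Cover z J) {a : z ⟶ C.x} {v v' : MM Φ C a}
    (h : ∀ j, resM (D.e j) rfl v = resM (D.e j) rfl v') : v = v' := by
  let : ∀ j, Algebra Γ(sch 𝒳 z, ⊤) Γ(sch 𝒳 (D.E j), ⊤) := fun j => (bmap 𝒳 (D.e j)).appTop.hom.toAlgebra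
  have : ∀ j, IsAffine (sch 𝒳 (D.E j)) := D.aff
  have : ∀ j, Module.Flat Γ(sch 𝒳 z, ⊤) Γ(sch 𝒳 (D.E j), ⊤) := fun j =>
    have := D.flat j
    flat_appTop (bmap 𝒳 (D.e j))
  rw [← sub_eq_zero]
  refine eq_zero_of_isBC (fun j => Γ(sch 𝒳 (D.E j), ⊤))
    (jointlySurj_appTop (fun j => bmap 𝒳 (D.e j)) (fun j => rfl) D.surj)
    (fun j => resM (D.e j) rfl) (fun j => isBC_resM _ _) _ fun j => ?_
  rw [map_sub, sub_eq_zero]
  exact h j

/-- Elements on a finite cover agreeing on overlaps glue. -/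
theorem exists_glueM (hfib : FibCat.IsFibGrpd 𝒳.p) {z : 𝒳.obj} [IsAffine (sch 𝒳 z)] {J : Type*} [Finite J]
    (D : Cover z J) {a : z ⟶ C.x} (y : ∀ j, MM Φ C (D.e j ≫ a))
    (hy : ∀ i j (d : 𝒳.obj), IsAffine (sch 𝒳 d) → ∀ (s : d ⟶ D.E i) (t : d ⟶ D.E j) (a' : d ⟶ C.x)
      (h₁ : s ≫ D.e i ≫ a = a') (h₂ : t ≫ D.e j ≫ a = a'), s ≫ D.e i = t ≫ D.e j →
        resM s h₁ (y i) = resM t h₂ (y j)) :
    ∃ v, ∀ j, resM (D.e j) rfl v = y j := by
  let : ∀ j, Algebra Γ(sch 𝒳 z, ⊤) Γ(sch 𝒳 (D.E j), ⊤) := fun j => (bmap 𝒳 (D.e j)).appTop.hom.toAlgebra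
  have : ∀ j, IsAffine (sch 𝒳 (D.E j)) := D.aff
  have : ∀ j, Module.Flat Γ(sch 𝒳 z, ⊤) Γ(sch 𝒳 (D.E j), ⊤) := fun j =>
    have := D.flat j
    flat_appTop (bmap 𝒳 (D.e j))
  refine ModDesc.exists_glue (fun j => Γ(sch 𝒳 (D.E j), ⊤))
    (jointlySurj_appTop (fun j => bmap 𝒳 (D.e j)) (fun j => rfl) D.surj)
    (fun j => resM (D.e j) rfl) (fun j => isBC_resM _ _) y fun i j => ?_
  obtain ⟨d, φ, iso, hφ⟩ := exists_obj hfib (D.E i) (pullback.fst (bmap 𝒳 (D.e i)) (bmap 𝒳 (D.e j)))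
  have hd : IsAffine (sch 𝒳 d) := IsAffine.of_isIso iso.hom
  obtain ⟨t, ht, hte⟩ := exists_hom_over hfib (φ ≫ D.e i) (D.e j)
    (iso.hom ≫ pullback.snd (bmap 𝒳 (D.e i)) (bmap 𝒳 (D.e j))) (by
      rw [StMod.bmap_comp, hφ, Category.assoc, Category.assoc, pullback.condition])
  have hP : IsPullback (bmap 𝒳 φ) (bmap 𝒳 t) (bmap 𝒳 (D.e i)) (bmap 𝒳 (D.e j)) := by
    rw [hφ, ht]
    exact (IsPullback.of_hasPullback _ _).of_iso iso.symm (Iso.refl _) (Iso.refl _) (Iso.refl _)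
      (by simp) (by simp) (by simp) (by simp)
  obtain ⟨alg, i₁, i₂, h₁, h₂, hbij⟩ := exists_algHom hP rfl rfl
  have e₂ : t ≫ D.e j ≫ a = φ ≫ D.e i ≫ a := by rw [← Category.assoc, hte, Category.assoc]
  refine ⟨Γ(sch 𝒳 d, ⊤), inferInstance, alg, i₁, i₂, hbij, MM Φ C (φ ≫ D.e i ≫ a), inferInstance, inferInstance,
    resM φ rfl, resM t e₂, (isBC_resM t e₂).congr h₂.symm rfl, fun r x => ?_, fun x => ?_,
    hy i j d hd φ t _ rfl e₂ hte.symm⟩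
  · rw [h₁]
    exact isSL_resM φ _ r x
  · rw [← resM_comp φ (D.e i) rfl rfl (Category.assoc _ _ _), ← resM_comp t (D.e j) rfl e₂ (by rw [Category.assoc, e₂])]
    exact resM_congr hte.symm _ _ x

variable {d₀ : 𝒳.obj} [IsAffine (sch 𝒳 d₀)] {P : d₀ ⟶ C.x}

/-- The map induced by a flat map to the chart and a map to its source. -/
theorem exists_psi (hP : Flat (bmap 𝒳 P)) {d : 𝒳.obj} (f : d ⟶ d₀) {a' : d ⟶ C.x} (h : f ≫ P = a') :
    ∃ F : Φ.obj d₀ →+ MM Φ C a', IsSL (bmap 𝒳 f).appTop.hom F ∧ ∀ m, F (Φ.res P m) = unitM Φ C a' m := by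
  subst h
  exact sl_extend (Φ.bc P hP) _ (bmap_hom_comp f P ▸ (isBC_mk _ (Φ.obj C.x)).sl)

/-- The map induced by a flat map to the chart and a map to its source. -/
noncomputable def psi (hP : Flat (bmap 𝒳 P)) {d : 𝒳.obj} (f : d ⟶ d₀) {a' : d ⟶ C.x} (h : f ≫ P = a') :
    Φ.obj d₀ →+ MM Φ C a' :=
  (exists_psi hP f h).choose

theorem isSL_psi (hP : Flat (bmap 𝒳 P)) {d : 𝒳.obj} (f : d ⟶ d₀) {a' : d ⟶ C.x} (h : f ≫ P = a') :
    IsSL (bmap 𝒳 f).appTop.hom (psi (Φ := Φ) hP f h) :=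
  (exists_psi hP f h).choose_spec.1

theorem psi_res (hP : Flat (bmap 𝒳 P)) {d : 𝒳.obj} (f : d ⟶ d₀) {a' : d ⟶ C.x} (h : f ≫ P = a') (m : Φ.obj C.x) :
    psi hP f h (Φ.res P m) = unitM Φ C a' m :=
  (exists_psi hP f h).choose_spec.2 m

theorem psi_unique (hP : Flat (bmap 𝒳 P)) {d : 𝒳.obj} (f : d ⟶ d₀) {a' : d ⟶ C.x} (h : f ≫ P = a')
    {F : Φ.obj d₀ →+ MM Φ C a'} (hs : IsSL (bmap 𝒳 f).appTop.hom F)
    (hu : ∀ m, F (Φ.res P m) = unitM Φ C a' m) : F = psi hP f h :=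
  sl_ext (Φ.bc P hP) hs (isSL_psi hP f h) fun m => (hu m).trans (psi_res hP f h m).symm

theorem psi_congr (hP : Flat (bmap 𝒳 P)) {d : 𝒳.obj} {f f' : d ⟶ d₀} (e : f = f') {a' : d ⟶ C.x} (h : f ≫ P = a')
    (h' : f' ≫ P = a') (s : Φ.obj d₀) : psi hP f h s = psi hP f' h' s := by
  subst e
  rfl

theorem resM_psi (hP : Flat (bmap 𝒳 P)) {d' d : 𝒳.obj} (g : d' ⟶ d) (f : d ⟶ d₀) {a : d ⟶ C.x} {a' : d' ⟶ C.x}
    (h : f ≫ P = a) (hg : g ≫ a = a') (h' : (g ≫ f) ≫ P = a') (s : Φ.obj d₀) :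
    resM g hg (psi hP f h s) = psi hP (g ≫ f) h' s := by
  refine DFunLike.congr_fun (psi_unique hP (g ≫ f) h' (F := (resM g hg).comp (psi hP f h)) (fun r m => ?_)
    fun m => ?_) s
  · show resM g hg (psi hP f h (r • m)) = (bmap 𝒳 (g ≫ f)).appTop.hom r • resM g hg (psi hP f h m)
    rw [isSL_psi hP f h, isSL_resM g hg, bmap_hom_comp]
    rfl
  · show resM g hg (psi hP f h (Φ.res P m)) = _
    rw [psi_res, resM_unit]

theorem psi_comp (hP : Flat (bmap 𝒳 P)) {d₁ : 𝒳.obj} [IsAffine (sch 𝒳 d₁)] (h' : d₁ ⟶ d₀) {P₁ : d₁ ⟶ C.x}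
    (e : h' ≫ P = P₁) (hP₁ : Flat (bmap 𝒳 P₁)) {d : 𝒳.obj} (f : d ⟶ d₁) {a' : d ⟶ C.x} (h₁ : f ≫ P₁ = a')
    (h : (f ≫ h') ≫ P = a') (s : Φ.obj d₀) :
    psi hP₁ f h₁ (Φ.res h' s) = psi hP (f ≫ h') h s := by
  refine DFunLike.congr_fun (psi_unique hP (f ≫ h') h (F := (psi hP₁ f h₁).comp (Φ.res h')) (fun r m => ?_)
    fun m => ?_) s
  · show psi hP₁ f h₁ (Φ.res h' (r • m)) = (bmap 𝒳 (f ≫ h')).appTop.hom r • psi hP₁ f h₁ (Φ.res h' m)
    rw [Φ.sl h', isSL_psi hP₁ f h₁, bmap_hom_comp]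
    rfl
  · show psi hP₁ f h₁ (Φ.res h' (Φ.res P m)) = _
    subst e
    rw [← Φ.res_comp, psi_res]

end Groth.Agent.H14.GenFam
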