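import Groth.Agent.H14.ModDesc.Scalar
import Groth.Agent.H14.AffPush.Basic

/-!
Flat covers of objects with affine scheme, gluing of sections, and morphisms given on affine objects.
-/

set_option autoImplicit false
set_option backward.isDefEq.respectTransparency false
set_option backward.isDefEq.respectTransparency.types false
set_option linter.style.haveILetI false

universe u v w

open CategoryTheory CategoryTheory.Limits AlgebraicGeometry Opposite TopologicalSpace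
open StMod (sch bmap)
open Groth.Agent.Lib.AlgStack
open Groth.Agent.H14.ModDesc

namespace Groth.Agent.H14.GenFam

variable {S : Scheme.{u}} {𝒳 : AlgSt.Cat S}

/-- An object over any morphism to the scheme under an object. -/
theorem exists_obj (hfib : FibCat.IsFibGrpd 𝒳.p) (o : 𝒳.obj) {P : Scheme.{u}} (p : P ⟶ sch 𝒳 o) :
    ∃ (x : 𝒳.obj) (φ : x ⟶ o) (e : sch 𝒳 x ≅ P), bmap 𝒳 φ = e.hom ≫ p := by
  let f : Over.mk (p ≫ (𝒳.p.obj o).hom) ⟶ 𝒳.p.obj o := Over.homMk p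
  obtain ⟨x, φ, hφ⟩ := hfib.exists_lift f
  have e : 𝒳.p.obj x = Over.mk (p ≫ (𝒳.p.obj o).hom) := IsHomLift.domain_eq 𝒳.p f φ
  have eg : 𝒳.p.map φ = eqToHom e ≫ f := by simpa using IsHomLift.fac' 𝒳.p f φ
  exact ⟨x, φ, (Over.forget S).mapIso (eqToIso e), congrArg CommaMorphism.left eg⟩

/-- A morphism through another one, from the schemes. -/
theorem exists_hom_over (hfib : FibCat.IsFibGrpd 𝒳.p) {d o x : 𝒳.obj} (k : d ⟶ o) (e : x ⟶ o)
    (l : sch 𝒳 d ⟶ sch 𝒳 x) (h : l ≫ bmap 𝒳 e = bmap 𝒳 k) : ∃ f : d ⟶ x, bmap 𝒳 f = l ∧ f ≫ e = k := by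
  have hl : l ≫ (𝒳.p.obj x).hom = (𝒳.p.obj d).hom := by
    rw [← Over.w (𝒳.p.map e), ← Over.w (𝒳.p.map k), ← Category.assoc]
    exact congrArg (· ≫ (𝒳.p.obj o).hom) h
  let h' : 𝒳.p.obj d ⟶ 𝒳.p.obj x := Over.homMk l hl
  have : 𝒳.p.IsHomLift (h' ≫ 𝒳.p.map e) k := by
    rw [show h' ≫ 𝒳.p.map e = 𝒳.p.map k from Over.OverMorphism.ext h]
    exact IsHomLift.map 𝒳.p k
  obtain ⟨f, hf, hfe⟩ := BasedBasic.exists_lift_through hfib e k h'
  refine ⟨f, ?_, hfe⟩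
  have := IsHomLift.fac' 𝒳.p h' f
  simp only [eqToHom_refl, Category.comp_id, Category.id_comp] at this
  exact congrArg CommaMorphism.left this

/-- A flat jointly surjective family of affine objects over an object. -/
structure Cover (o : 𝒳.obj) (J : Type v) where
  /-- the members -/
  E : J → 𝒳.obj
  aff : ∀ j, IsAffine (sch 𝒳 (E j))
  /-- the maps -/
  e : ∀ j, E j ⟶ o
  flat : ∀ j, Flat (bmap 𝒳 (e j))
  surj : ∀ x, ∃ j, x ∈ Set.range (bmap 𝒳 (e j))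

namespace Cover

variable {o : 𝒳.obj} {J : Type v}

/-- Composition of covers. -/
def bind {K : J → Type w} (C : Cover o J) (D : ∀ j, Cover (C.E j) (K j)) : Cover o (Σ j, K j) where
  E a := (D a.1).E a.2
  aff a := (D a.1).aff a.2
  e a := (D a.1).e a.2 ≫ C.e a.1
  flat a := by
    have := (D a.1).flat a.2
    have := C.flat a.1
    rw [StMod.bmap_comp]
    infer_instance
  surj x := by
    obtain ⟨j, y, rfl⟩ := C.surj x
    obtain ⟨k, z, rfl⟩ := (D j).surj y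
    exact ⟨⟨j, k⟩, z, by rw [StMod.bmap_comp]; rfl⟩

theorem eq_of_mapTop [IsAffine (sch 𝒳 o)] (C : Cover o J) (F : StMod.QCoh 𝒳) {s t : Γ(F.obj.obj o, ⊤)}
    (h : ∀ j, F.obj.mapTop (C.e j) s = F.obj.mapTop (C.e j) t) : s = t := by
  let : ∀ j, Algebra Γ(sch 𝒳 o, ⊤) Γ(sch 𝒳 (C.E j), ⊤) := fun j => (bmap 𝒳 (C.e j)).appTop.hom.toAlgebra
  have : ∀ j, IsAffine (sch 𝒳 (C.E j)) := C.aff
  have : ∀ j, Module.Flat Γ(sch 𝒳 o, ⊤) Γ(sch 𝒳 (C.E j), ⊤) := fun j =>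
    have := C.flat j
    flat_appTop (bmap 𝒳 (C.e j))
  rw [← sub_eq_zero]
  refine eq_zero_of_isBC (fun j => Γ(sch 𝒳 (C.E j), ⊤))
    (jointlySurj_appTop (fun j => bmap 𝒳 (C.e j)) (fun j => rfl) C.surj)
    (fun j => (AddMonoidHom.mk' (F.obj.mapTop (C.e j)) (F.obj.mapTop_add _) : Γ(F.obj.obj o, ⊤) →+ Γ(F.obj.obj (C.E j), ⊤)))
    (fun j => isBC_mapTop F (C.e j)) _ fun j => ?_
  rw [map_sub, sub_eq_zero]
  exact h j

/-- The cover pulled back along a morphism. -/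
theorem exists_pullback (hfib : FibCat.IsFibGrpd 𝒳.p) [IsAffine (sch 𝒳 o)] (C : Cover o J) {d : 𝒳.obj}
    [IsAffine (sch 𝒳 d)] (k : d ⟶ o) :
    ∃ (D : Cover d J) (f : ∀ j, D.E j ⟶ C.E j), ∀ j, f j ≫ C.e j = D.e j ≫ k := by
  have := C.aff
  choose x φ e hφ using fun j => exists_obj hfib d (pullback.fst (bmap 𝒳 k) (bmap 𝒳 (C.e j)))
  choose f hf hfe using fun j => exists_hom_over hfib (φ j ≫ k) (C.e j)
    ((e j).hom ≫ pullback.snd (bmap 𝒳 k) (bmap 𝒳 (C.e j))) (by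
      rw [StMod.bmap_comp, hφ, Category.assoc, Category.assoc, pullback.condition])
  refine ⟨⟨x, fun j => IsAffine.of_isIso (e j).hom, φ, fun j => ?_, fun z => ?_⟩, f, hfe⟩
  · have := C.flat j
    rw [hφ]
    infer_instance
  · obtain ⟨j, y, hy⟩ := C.surj (bmap 𝒳 k z)
    obtain ⟨t, ht, -⟩ := Scheme.Pullback.exists_preimage_pullback (f := bmap 𝒳 k) (g := bmap 𝒳 (C.e j)) z y hy.symm
    refine ⟨j, (e j).inv t, ?_⟩
    rw [hφ, ← Scheme.Hom.comp_apply, Iso.inv_hom_id_assoc]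
    exact ht

theorem exists_glue (hfib : FibCat.IsFibGrpd 𝒳.p) [IsAffine (sch 𝒳 o)] [Finite J] (C : Cover o J)
    (F : StMod.QCoh 𝒳) (y : ∀ j, Γ(F.obj.obj (C.E j), ⊤))
    (hy : ∀ i j (d : 𝒳.obj), IsAffine (sch 𝒳 d) → ∀ (a : d ⟶ C.E i) (b : d ⟶ C.E j), a ≫ C.e i = b ≫ C.e j →
      F.obj.mapTop a (y i) = F.obj.mapTop b (y j)) :
    ∃ x, ∀ j, F.obj.mapTop (C.e j) x = y j := by
  let D := datum (BasedFunctor.id 𝒳) o (Hyp.id hfib F)
  let l₀ : D.Obj := ⟨o, 𝟙 o, inferInstance⟩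
  let l : J → D.Obj := fun j => ⟨C.E j, C.e j, C.aff j⟩
  have hrel : ∀ j, D.Rel (l' := l j) (l := l₀) (bmap 𝒳 (C.e j)) := fun j =>
    ⟨C.e j, rfl, Category.comp_id _⟩
  let C' : D.Cov l₀ J := ⟨l, fun j => bmap 𝒳 (C.e j), hrel, C.flat, C.surj⟩
  obtain ⟨x, hx⟩ := C'.exists_glue y fun i j d q q' hq hq' _ =>
    hy i j d.x d.aff hq.choose hq'.choose (hq.choose_spec.2.trans hq'.choose_spec.2.symm)
  refine ⟨x, fun j => ?_⟩
  have e : (hrel j).choose = C.e j := (Category.comp_id _).symm.trans (hrel j).choose_spec.2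
  rw [← e]
  exact hx j

end Cover

theorem liftB_id {y : 𝒳.obj} (l : Lift (BasedFunctor.id 𝒳) y) : liftB (BasedFunctor.id 𝒳) y l = bmap 𝒳 l.u :=
  congrArg CommaMorphism.left (StMod.baseOver_id l.x l.u)

/-- A morphism of quasi-coherent modules from maps on affine objects. -/
theorem exists_hom_of_affine (hfib : FibCat.IsFibGrpd 𝒳.p) (F G : StMod.QCoh 𝒳)
    (τ : ∀ o, IsAffine (sch 𝒳 o) → (Γ(F.obj.obj o, ⊤) →ₗ[Γ(sch 𝒳 o, ⊤)] Γ(G.obj.obj o, ⊤)))
    (nat : ∀ {o' o : 𝒳.obj} (h' : IsAffine (sch 𝒳 o')) (h : IsAffine (sch 𝒳 o)) (e : o' ⟶ o) t,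
      G.obj.mapTop e (τ o h t) = τ o' h' (F.obj.mapTop e t)) :
    ∃ ψ : F.obj ⟶ G.obj, ∀ o (h : IsAffine (sch 𝒳 o)) t, (ψ.app o).app ⊤ t = τ o h t := by
  let p : ∀ y, Datum.Pt (datum (BasedFunctor.id 𝒳) y (Hyp.id hfib G)) (F.obj.obj y) := fun y =>
    { val := fun U l h => (τ l.x l.aff).toAddMonoidHom.comp (mapU F.obj l.u U (liftB_id l ▸ h))
      sl := fun U l h r s => by
        show τ l.x l.aff (mapU F.obj l.u U _ (r • s)) = _
        rw [mapU_smul, map_smul, appLE_congr_hom (liftB_id l).symm _ h]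
        rfl
      res_open := fun {U V} i l h h' s => congrArg (τ l.x l.aff) (mapU_res F.obj l.u i _ _ s)
      res_lift := fun {U l' l g} hg h h' s => by
        show G.obj.mapTop hg.choose (τ l.x l.aff _) = τ l'.x l'.aff _
        rw [nat l'.aff l.aff]
        refine congrArg _ ?_
        have h'' : ⊤ ≤ bmap 𝒳 (hg.choose ≫ l.u) ⁻¹ᵁ U := by
          have h3 : hg.choose ≫ l.u = l'.u := hg.choose_spec.2
          exact h3.symm ▸ (liftB_id l' ▸ h')
        exact (mapU_comp F.obj hg.choose l.u U _ h'' s).trans (mapU_congr F.obj hg.choose_spec.2 U _ _ s) }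
  have hiso : ∀ y, IsIso (selfPt (F := G) hfib y).hom := fun y => isIso_selfPt hfib y
  let app : ∀ y, F.obj.obj y ⟶ G.obj.obj y := fun y =>
    have := hiso y
    (p y).hom ≫ inv (selfPt (F := G) hfib y).hom
  have hinj : ∀ y (U : (sch 𝒳 y).Opens), Function.Injective ((selfPt (F := G) hfib y).toFam U) := fun y U a b e => by
    have := hiso y
    rw [← Datum.Pt.secEquiv_hom, ← Datum.Pt.secEquiv_hom] at e
    exact (ConcreteCategory.bijective_of_isIso ((selfPt (F := G) hfib y).hom.app U)).injective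
      (((datum (BasedFunctor.id 𝒳) y (Hyp.id hfib G)).secEquiv U).injective e)
  have hfam : ∀ y (U : (sch 𝒳 y).Opens) s,
      (selfPt (F := G) hfib y).toFam U ((app y).app U s) = (p y).toFam U s := fun y U s => by
    have := hiso y
    rw [← Datum.Pt.secEquiv_hom, ← Datum.Pt.secEquiv_hom]
    refine congrArg _ ?_
    have e : app y ≫ (selfPt (F := G) hfib y).hom = (p y).hom := by simp [app]
    exact congrArg (fun k : F.obj.obj y ⟶ _ => k.app U s) e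
  refine ⟨⟨app, fun {y' y} k g hg => ?_⟩, fun o h t => ?_⟩
  · subst hg
    apply Scheme.Modules.hom_ext
    intro U
    ext s
    show (app y').app (bmap 𝒳 k ⁻¹ᵁ U) ((F.obj.map k rfl).app U s) = (G.obj.map k rfl).app U ((app y).app U s)
    apply hinj y'
    rw [hfam]
    refine Datum.fam_ext fun l c hc => ?_
    have hW : ⊤ ≤ bmap 𝒳 l.u ⁻¹ᵁ (bmap 𝒳 k ⁻¹ᵁ U) := liftB_id l ▸ Datum.Pt.le_preimage hc
    have hU : ⊤ ≤ bmap 𝒳 ((l.u : l.x ⟶ y') ≫ k) ⁻¹ᵁ U := by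
      rw [StMod.bmap_comp]
      exact hW
    have key : ∀ (K : StMod.Mod 𝒳) (t : Γ(K.obj y, U)),
        mapU K l.u (bmap 𝒳 k ⁻¹ᵁ U) hW ((K.map k rfl).app U t) = mapU K ((l.u : l.x ⟶ y') ≫ k) U hU t := by
      intro K t
      refine Eq.trans ?_ (mapU_of_le K (x'' := l.x) l.u k U (le_refl _) hW hU t)
      show mapU K l.u _ _ _ = mapU K l.u _ _ ((K.obj y').presheaf.map (𝟙 _) _)
      rw [CategoryTheory.Functor.map_id]
      rfl
    show τ l.x l.aff (mapU F.obj l.u (bmap 𝒳 k ⁻¹ᵁ U) _ ((F.obj.map k rfl).app U s)) =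
      mapU G.obj l.u (bmap 𝒳 k ⁻¹ᵁ U) _ ((G.obj.map k rfl).app U ((app y).app U s))
    rw [key, key]
    let l' : Lift (BasedFunctor.id 𝒳) y := ⟨l.x, l.u ≫ k, l.aff⟩
    have hr : Set.range (liftB (BasedFunctor.id 𝒳) y l') ⊆ Set.range U.ι := by
      rintro _ ⟨z, rfl⟩
      rw [Scheme.Opens.range_ι, liftB_id]
      exact hU (x := z) trivial
    exact (congrArg (fun f : (datum (BasedFunctor.id 𝒳) y (Hyp.id hfib G)).Fam U.ι =>
      f.1 l' ⟨IsOpenImmersion.lift U.ι _ hr, IsOpenImmersion.lift_fac _ _ _⟩) (hfam y U s)).symm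
  · let l : Lift (BasedFunctor.id 𝒳) o := ⟨o, 𝟙 o, h⟩
    have hr : Set.range (liftB (BasedFunctor.id 𝒳) o l) ⊆ Set.range (⊤ : (sch 𝒳 o).Opens).ι := by
      rintro _ ⟨z, rfl⟩
      rw [Scheme.Opens.range_ι]
      trivial
    have e := congrArg (fun f : (datum (BasedFunctor.id 𝒳) o (Hyp.id hfib G)).Fam (⊤ : (sch 𝒳 o).Opens).ι =>
      f.1 l ⟨IsOpenImmersion.lift _ _ hr, IsOpenImmersion.lift_fac _ _ _⟩) (hfam o ⊤ t)
    have key : ∀ (K : StMod.Mod 𝒳) hl (s : Γ(K.obj o, ⊤)), mapU K (𝟙 o) ⊤ hl s = s := fun K hl s => by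
      refine Eq.trans ?_ (StMod.Mod.mapTop_id K o s)
      show (K.obj o).presheaf.map (homOfLE _).op _ = _
      rw [show (homOfLE (le_top : (⊤ : (sch 𝒳 o).Opens) ≤ ⊤)).op = 𝟙 _ from
        Quiver.Hom.unop_inj (Subsingleton.elim _ _)]
      erw [CategoryTheory.Functor.map_id]
      rfl
    change mapU G.obj (𝟙 o) ⊤ _ ((app o).app ⊤ t) = τ o h (mapU F.obj (𝟙 o) ⊤ _ t) at e
    rw [key, key] at e
    exact e

end Groth.Agent.H14.GenFam
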