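import Groth.Agent.H14.GenFam.Core

/-!
Generating families stay generating after an affine base change.
-/

set_option autoImplicit false
set_option backward.isDefEq.respectTransparency false
set_option backward.isDefEq.respectTransparency.types false
set_option linter.style.haveILetI false

universe u

open CategoryTheory CategoryTheory.Limits AlgebraicGeometry Opposite TopologicalSpace
open StMod (sch bmap)
open Groth.Agent.Lib.AlgStack
open Groth.Agent.H14.ModDesc
open Groth.Agent.H14.AffPush

namespace Groth.Agent.H14.GenFam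

variable {S : Scheme.{u}}

theorem mapO_app {𝒳 : AlgSt.Cat S} {F G : StMod.Mod 𝒳} (v : F ⟶ G) {x' x : 𝒳.obj} (φ : x' ⟶ x)
    (U : (sch 𝒳 x).Opens) (W : (sch 𝒳 x').Opens) (h : W ≤ bmap 𝒳 φ ⁻¹ᵁ U) (s : Γ(F.obj x, U)) :
    mapO G φ U W h ((v.app x).app U s) = (v.app x').app W (mapO F φ U W h s) := by
  show (G.obj x').presheaf.map _ ((G.map φ rfl).app U ((v.app x).app U s)) =
    (v.app x').app W ((F.obj x').presheaf.map _ ((F.map φ rfl).app U s))
  refine Eq.trans ?_ ((v.app x').mapPresheaf.naturality_apply (homOfLE h).op _).symm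
  refine congrArg _ ?_
  have e := congrArg (fun k => Scheme.Modules.Hom.app k U s) (v.comm φ rfl)
  simp only [Scheme.Modules.Hom.comp_app, Scheme.Modules.pushforward_map_app] at e
  exact e.symm

variable {V W : Over S} {𝒳 : AlgSt.Cat S} {π : 𝒳 ⥤ᵇ AlgSt.ofSch V} {g : W ⟶ V}
  (hfib : FibCat.IsFibGrpd 𝒳.p) [IsAffineHom g.left]

/-- The direct image of a morphism. -/
noncomputable def pushHom {F F' : StMod.Mod (cat π g)} (u : F ⟶ F') : push hfib F ⟶ push hfib F' where
  app x := (Scheme.Modules.pushforward (bmap 𝒳 (eps (π := π) (g := g) hfib x))).map (u.app (up hfib x))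
  comm := fun {x' x} φ k hk => by
    apply Scheme.Modules.hom_ext
    intro U
    ext s
    show (u.app (up hfib x')).app _ ((pushF hfib F φ hk).app U s) =
      (pushF hfib F' φ hk).app U ((u.app (up hfib x)).app _ s)
    rw [pushF_app, pushF_app, mapO_app]
    rfl

theorem mapTop_push (F : StMod.Mod (cat π g)) {x' x : 𝒳.obj} (φ : x' ⟶ x)
    (s : Γ(F.obj (up (π := π) (g := g) hfib x), ⊤)) :
    (push hfib F).mapTop φ s = F.mapTop (upMap hfib φ) s := by
  show (pushF hfib F φ rfl).app ⊤ s = _
  rw [pushF_app]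
  show (F.obj (up (π := π) (g := g) hfib x')).presheaf.map (𝟙 _) _ = _
  rw [CategoryTheory.Functor.map_id]
  rfl

set_option maxHeartbeats 1000000 in
include hfib in
/-- Generating families stay generating after an affine base change. -/
theorem isGenFam_cat {ι : Type u} (E : ι → StMod.QCoh 𝒳) (h : StMod.IsGenFam E) :
    StMod.IsGenFam (fun i => (StMod.comapQ (fst π g)).obj (E i)) := by
  rw [StMod.isGenFam_iff] at h ⊢
  intro M N u hu
  have hpush : (InducedCategory.homMk (pushHom hfib u.hom) : pushQ hfib M ⟶ pushQ hfib N) = 0 := by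
    refine h (M := pushQ hfib M) (N := pushQ hfib N) (InducedCategory.homMk (pushHom hfib u.hom)) fun i φ => ?_
    -- the transpose
    let σ : ∀ o : (cat π g).obj, o ⟶ up hfib o.obj.left := fun o => upLift hfib (𝟙 o.obj.left)
    have hσ : ∀ o, (σ o).hom.left ≫ eps hfib o.obj.left = 𝟙 _ := fun o => upLift_eps hfib _
    let φt : ∀ x : 𝒳.obj, Γ((E i).obj.obj x, ⊤) →+ Γ(M.obj.obj (up (π := π) (g := g) hfib x), ⊤) :=
      fun x => ((φ.app x).app ⊤).hom
    have hφt : ∀ {x' x : 𝒳.obj} (f : x' ⟶ x) (t : Γ((E i).obj.obj x, ⊤)),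
        M.obj.mapTop (upMap hfib f) (φt x t) = φt x' ((E i).obj.mapTop f t) := fun {x' x} f t =>
      (mapTop_push hfib M.obj f (φt x t)).symm.trans (StMod.Mod.mapTop_app φ f t)
    have hφsmul : ∀ (x : 𝒳.obj) (r : Γ(sch 𝒳 x, ⊤)) (t : Γ((E i).obj.obj x, ⊤)),
        φt x (r • t) = (bmap 𝒳 (eps (π := π) (g := g) hfib x)).appTop.hom r • φt x t := fun x r t =>
      Scheme.Modules.Hom.app_smul (φ.app x) r t
    obtain ⟨ψ, hψ⟩ := exists_hom_of_affine (isFibGrpd_cat hfib) ((StMod.comapQ (fst π g)).obj (E i)) M (fun o _ =>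
      { toFun := fun t => M.obj.mapTop (σ o) (φt o.obj.left t)
        map_add' := fun a b => (congrArg _ (map_add (φt o.obj.left) a b)).trans
          (M.obj.mapTop_add (σ o) _ _)
        map_smul' := fun r t => by
          refine (congrArg _ (hφsmul o.obj.left r t)).trans ?_
          refine (M.obj.mapTop_smul (σ o) ((bmap 𝒳 (eps (π := π) (g := g) hfib o.obj.left)).appTop.hom r) _).trans ?_
          refine congrArg (· • _) ?_
          show (bmap 𝒳 (σ o).hom.left).appTop.hom ((bmap 𝒳 (eps hfib o.obj.left)).appTop.hom r) = r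
          rw [← appTop_apply, ← StMod.bmap_comp, hσ, StMod.bmap_id, Scheme.Hom.id_appTop]
          rfl })
      fun {o' o} _ _ e t => by
        show M.obj.mapTop e (M.obj.mapTop (σ o) (φt o.obj.left t)) =
          M.obj.mapTop (σ o') (φt o'.obj.left ((StMod.Mod.comap (fst π g) (E i).obj).mapTop e t))
        rw [← StMod.Mod.mapTop_comp, mapTop_fst, ← hφt, ← StMod.Mod.mapTop_comp]
        congr 1
        refine up_hom_ext hfib ?_
        show (e.hom.left ≫ (σ o).hom.left) ≫ eps hfib o.obj.left =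
          ((σ o').hom.left ≫ (upMap hfib e.hom.left).hom.left) ≫ eps hfib o.obj.left
        rw [Category.assoc, Category.assoc, upMap_eps, hσ, ← Category.assoc, hσ]
        simp
    refine hom_ext_affine hfib (isQCoh_push hfib N.obj N.property) fun x hx t => ?_
    show (u.hom.app (up hfib x)).app ⊤ (φt x t) = 0
    have hux := isAffine_up (π := π) (g := g) hfib x
    have e : (u.hom.app (up hfib x)).app ⊤ ((ψ.app (up hfib x)).app ⊤ ((E i).obj.mapTop (eps hfib x) t)) = 0 :=
      congrArg (fun k : StMod.Mod.comap (fst π g) (E i).obj ⟶ N.obj =>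
        (k.app (up hfib x)).app ⊤ ((E i).obj.mapTop (eps hfib x) t)) (hu i ψ)
    rw [hψ _ hux] at e
    change (u.hom.app (up hfib x)).app ⊤ (M.obj.mapTop (σ (up hfib x))
      (φt (up (π := π) (g := g) hfib x).obj.left ((E i).obj.mapTop (eps hfib x) t))) = 0 at e
    rw [← hφt, ← StMod.Mod.mapTop_comp] at e
    have : σ (up hfib x) ≫ upMap hfib (eps hfib x) = 𝟙 _ := by
      refine up_hom_ext hfib ?_
      show ((σ (up hfib x)).hom.left ≫ (upMap hfib (eps hfib x)).hom.left) ≫ eps hfib x =
        𝟙 (up (π := π) (g := g) hfib x).obj.left ≫ eps hfib x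
      rw [Category.assoc, upMap_eps, ← Category.assoc, hσ]
    rw [this, StMod.Mod.mapTop_id] at e
    exact e
  refine InducedCategory.hom_ext (hom_ext_affine (isFibGrpd_cat hfib) N.property fun o ho t => ?_)
  show (u.hom.app o).app ⊤ t = 0
  have : IsAffine (sch 𝒳 o.obj.left) := ho
  have := isAffine_up (π := π) (g := g) hfib o.obj.left
  refine bc_induction (isBC_mapHom M (upLift hfib (𝟙 o.obj.left)))
    (P := fun s => (u.hom.app o).app ⊤ s = 0) (map_zero _) (fun a b ha hb => ?_) (fun c s => ?_) t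
  · exact (map_add ((u.hom.app o).app ⊤).hom a b).trans ((congrArg₂ (· + ·) ha hb).trans (add_zero _))
  · refine (Scheme.Modules.Hom.app_smul (u.hom.app o) c _).trans ?_
    have e : (u.hom.app (up (π := π) (g := g) hfib o.obj.left)).app ⊤ s = 0 :=
      congrArg (fun k : pushQ hfib M ⟶ pushQ hfib N => (k.hom.app o.obj.left).app ⊤ s) hpush
    have e2 : (u.hom.app o).app ⊤ (M.obj.mapTop (upLift hfib (𝟙 o.obj.left)) s) = 0 := by
      rw [← StMod.Mod.mapTop_app u.hom, e, StMod.Mod.mapTop_zero]
    exact (congrArg (c • ·) e2).trans (smul_zero c)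

end Groth.Agent.H14.GenFam
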