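import Groth.Agent.H14.ModDesc.Alg
import Mathlib.RingTheory.Flat.Equalizer

/-!
Semilinear base change maps: extension of maps, generators, and kernels along flat ring maps.
-/

set_option autoImplicit false
set_option linter.style.haveILetI false

universe u

open TensorProduct
open Groth.Agent.H14.ModDesc

namespace Groth.Agent.H14.GenFam

variable {A B : Type u} [CommRing A] [CommRing B] {M N : Type u} [AddCommGroup M] [Module A M] [AddCommGroup N]
  [Module B N] {φ : A →+* B} {g : M →+ N}

theorem bc_induction (hg : IsBC φ g) {P : N → Prop} (h0 : P 0) (hadd : ∀ x y, P x → P y → P (x + y))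
    (hsm : ∀ (b : B) (m : M), P (b • g m)) (y : N) : P y := by
  let := φ.toAlgebra
  obtain ⟨hs, hb⟩ := (isBC_iff rfl).1 hg
  obtain ⟨z, rfl⟩ := hb.surjective y
  induction z with
  | zero => rw [map_zero]; exact h0
  | tmul b m => exact hsm b m
  | add x y hx hy => rw [map_add]; exact hadd _ _ hx hy

variable {N' : Type u} [AddCommGroup N'] [Module B N']

/-- Linear maps agreeing on the images of generators agree. -/
theorem bc_ext (hg : IsBC φ g) {F G : N →ₗ[B] N'} {s : Set M} (hs : Submodule.span A s = ⊤)
    (h : ∀ m ∈ s, F (g m) = G (g m)) : F = G := by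
  have hm : ∀ m, F (g m) = G (g m) := fun m => by
    have : m ∈ Submodule.span A s := hs ▸ Submodule.mem_top
    induction this using Submodule.span_induction with
    | mem x hx => exact h x hx
    | zero => rw [map_zero, map_zero, map_zero]
    | add x y _ _ hx hy => rw [map_add, map_add, map_add, hx, hy]
    | smul a x _ hx => rw [hg.sl, map_smul, map_smul, hx]
  refine LinearMap.ext fun y => bc_induction hg (P := fun y => F y = G y) (by rw [map_zero, map_zero])
    (fun x y hx hy => by rw [map_add, map_add, hx, hy]) (fun b m => by rw [map_smul, map_smul, hm]) y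

/-- A semilinear map extends to the base change. -/
theorem bc_extend (hg : IsBC φ g) (f : M →+ N') (hf : IsSL φ f) :
    ∃ F : N →ₗ[B] N', ∀ m, F (g m) = f m := by
  let := φ.toAlgebra
  obtain ⟨hs, hb⟩ := (isBC_iff rfl).1 hg
  let e : B ⊗[A] M ≃ₗ[B] N := LinearEquiv.ofBijective { bcMap A B g hs with map_smul' := bcMap_smul g hs } hb
  let f' : B ⊗[A] M →ₗ[B] N' := { bcMap A B f hf with map_smul' := bcMap_smul f hf }
  refine ⟨f' ∘ₗ e.symm.toLinearMap, fun m => ?_⟩
  show f' (e.symm (g m)) = f m
  rw [show g m = e ((1 : B) ⊗ₜ m) from (one_smul B (g m)).symm, LinearEquiv.symm_apply_apply]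
  exact one_smul B (f m)

/-- After a flat base change the common kernel of finitely many maps is generated by the kernel before. -/
theorem mem_span_ker [Algebra A B] [Module.Flat A B] {n : ℕ} (hg : IsBC (algebraMap A B) g) {K : Type}
    [Finite K] {Q Q' : K → Type u} [∀ k, AddCommGroup (Q k)] [∀ k, Module A (Q k)] [∀ k, AddCommGroup (Q' k)]
    [∀ k, Module B (Q' k)] (T : ∀ k, (Fin n → M) →ₗ[A] Q k) (h : ∀ k, Q k →+ Q' k)
    (hh : ∀ k, IsBC (algebraMap A B) (h k)) (T' : ∀ k, (Fin n → N) →ₗ[B] Q' k)
    (comm : ∀ k v, T' k (fun l => g (v l)) = h k (T k v)) (v' : Fin n → N) (hv : ∀ k, T' k v' = 0) :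
    v' ∈ Submodule.span B ((fun (v : Fin n → M) (l : Fin n) => g (v l)) '' {v | ∀ k, T k v = 0}) := by
  classical
  have := Fintype.ofFinite K
  obtain ⟨hs, hb⟩ := (isBC_iff rfl).1 hg
  let e₁ : B ⊗[A] M ≃ₗ[B] N := LinearEquiv.ofBijective { bcMap A B g hs with map_smul' := bcMap_smul g hs } hb
  let e : B ⊗[A] (Fin n → M) ≃ₗ[B] (Fin n → N) :=
    TensorProduct.piRight A B B (fun _ : Fin n => M) ≪≫ₗ LinearEquiv.piCongrRight fun _ => e₁
  have he : ∀ (b : B) (v : Fin n → M), e (b ⊗ₜ v) = b • fun l => g (v l) := fun b v => rfl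
  obtain ⟨z, rfl⟩ := e.surjective v'
  have hzk : ∀ k, (T k).lTensor B z = 0 := fun k => by
    obtain ⟨hsk, hbk⟩ := (isBC_iff rfl).1 (hh k)
    apply hbk.injective
    rw [map_zero]
    refine Eq.trans ?_ (hv k)
    generalize z = z'
    induction z' with
    | zero => simp
    | tmul b v =>
      rw [LinearMap.lTensor_tmul, bcMap_tmul, he, map_smul, comm]
    | add x y hx hy => simp only [map_add, hx, hy]
  have hz : (LinearMap.pi T).lTensor B z = 0 := by
    apply (TensorProduct.piRight A A B Q).injective
    rw [map_zero]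
    funext k
    refine Eq.trans ?_ (hzk k)
    generalize z = z'
    induction z' with
    | zero => simp
    | tmul b v => rfl
    | add x y hx hy => simp only [map_add, Pi.add_apply, hx, hy]
  obtain ⟨w, rfl⟩ := (Module.Flat.lTensor_exact B (LinearMap.exact_subtype_ker_map (LinearMap.pi T)) z).1 hz
  clear hz hzk hv
  induction w with
  | zero => simp
  | tmul b v =>
    rw [LinearMap.lTensor_tmul, he]
    exact Submodule.smul_mem _ b (Submodule.subset_span ⟨v.1, fun k => congrFun v.2 k, rfl⟩)
  | add x y hx hy =>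
    rw [map_add, map_add]
    exact Submodule.add_mem _ hx hy

end Groth.Agent.H14.GenFam
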