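import Groth.Agent.H14.GenFam.Alg
import Groth.Agent.H14.GenFam.Obj
import Mathlib.Algebra.Module.FinitePresentation

/-!
Finite affine charts of a category fibred in groupoids, and morphisms given on a chart.
-/

set_option autoImplicit false
set_option backward.isDefEq.respectTransparency false
set_option backward.isDefEq.respectTransparency.types false
set_option linter.style.haveILetI false

universe u

open CategoryTheory CategoryTheory.Limits AlgebraicGeometry Opposite TopologicalSpace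
open StMod (sch bmap)
open Groth.Agent.Lib.AlgStack
open Groth.Agent.H14.ModDesc

namespace Groth.Agent.H14.GenFam

variable {S : Scheme.{u}} {𝒳 : AlgSt.Cat S}

/-- The restriction map as an additive map. -/
noncomputable abbrev mapHom (F : StMod.Mod 𝒳) {x' x : 𝒳.obj} (φ : x' ⟶ x) :
    Γ(F.obj x, ⊤) →+ Γ(F.obj x', ⊤) :=
  AddMonoidHom.mk' (F.mapTop φ) (F.mapTop_add φ)

theorem isBC_mapHom (F : StMod.QCoh 𝒳) {x' x : 𝒳.obj} (φ : x' ⟶ x) [IsAffine (sch 𝒳 x')] [IsAffine (sch 𝒳 x)] :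
    IsBC (bmap 𝒳 φ).appTop.hom (mapHom F.obj φ) :=
  isBC_mapTop F φ

variable (𝒳) in
/-- An affine object reached, locally, by every affine object, and one reached by every two maps to it. -/
structure Chart where
  /-- the chart -/
  x : 𝒳.obj
  /-- the relation -/
  w : 𝒳.obj
  affx : IsAffine (sch 𝒳 x)
  affw : IsAffine (sch 𝒳 w)
  /-- first projection -/
  p : w ⟶ x
  /-- second projection -/
  q : w ⟶ x
  cover : ∀ o, IsAffine (sch 𝒳 o) → ∃ (n : ℕ) (C : Cover o (Fin n)), ∀ j, Nonempty (C.E j ⟶ x)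
  overlap : ∀ o, IsAffine (sch 𝒳 o) → ∀ a b : o ⟶ x, ∃ (J : Type u) (_ : Finite J) (C : Cover o J),
    ∀ j, ∃ c : C.E j ⟶ w, c ≫ p = C.e j ≫ a ∧ c ≫ q = C.e j ≫ b

attribute [instance] Chart.affx Chart.affw

/-- Values at the chart compatible with relations and with overlaps give a morphism. -/
theorem Chart.exists_hom (hfib : FibCat.IsFibGrpd 𝒳.p) (C : Chart 𝒳) (E M : StMod.QCoh 𝒳) {n : ℕ}
    (e : Fin n → Γ(E.obj.obj C.x, ⊤)) (he : Submodule.span Γ(sch 𝒳 C.x, ⊤) (Set.range e) = ⊤)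
    (v : Fin n → Γ(M.obj.obj C.x, ⊤))
    (hrel : ∀ c : Fin n → Γ(sch 𝒳 C.x, ⊤), ∑ l, c l • e l = 0 → ∑ l, c l • v l = 0)
    (r : Fin n → Fin n → Γ(sch 𝒳 C.w, ⊤)) (hr : ∀ k, E.obj.mapTop C.p (e k) = ∑ l, r k l • E.obj.mapTop C.q (e l))
    (hov : ∀ k, M.obj.mapTop C.p (v k) = ∑ l, r k l • M.obj.mapTop C.q (v l)) :
    ∃ ψ : E.obj ⟶ M.obj, ∀ k, (ψ.app C.x).app ⊤ (e k) = v k := by
  classical
  -- the map at the chart
  let L : (Fin n → Γ(sch 𝒳 C.x, ⊤)) →ₗ[Γ(sch 𝒳 C.x, ⊤)] Γ(E.obj.obj C.x, ⊤) := Fintype.linearCombination _ e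
  have hL : Function.Surjective L := by
    rw [← LinearMap.range_eq_top, Fintype.range_linearCombination, he]
  let L' : (Fin n → Γ(sch 𝒳 C.x, ⊤)) →ₗ[Γ(sch 𝒳 C.x, ⊤)] Γ(M.obj.obj C.x, ⊤) := Fintype.linearCombination _ v
  have hker : LinearMap.ker L ≤ LinearMap.ker L' := fun c hc => by
    rw [LinearMap.mem_ker, Fintype.linearCombination_apply] at hc ⊢
    exact hrel c hc
  let hx : Γ(E.obj.obj C.x, ⊤) →ₗ[Γ(sch 𝒳 C.x, ⊤)] Γ(M.obj.obj C.x, ⊤) :=
    (Submodule.liftQ (LinearMap.ker L) L' hker) ∘ₗ (L.quotKerEquivOfSurjective hL).symm.toLinearMap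
  have hxe : ∀ k, hx (e k) = v k := fun k => by
    have : e k = L (Pi.single k 1) := by
      rw [Fintype.linearCombination_apply_single, one_smul]
    show Submodule.liftQ _ L' hker ((L.quotKerEquivOfSurjective hL).symm (e k)) = v k
    rw [this, LinearMap.quotKerEquivOfSurjective_symm_apply, Submodule.liftQ_apply,
      Fintype.linearCombination_apply_single, one_smul]
  -- the maps at the objects over the chart
  have hH : ∀ (o : 𝒳.obj) (_ : IsAffine (sch 𝒳 o)) (a : o ⟶ C.x),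
      ∃ H : Γ(E.obj.obj o, ⊤) →ₗ[Γ(sch 𝒳 o, ⊤)] Γ(M.obj.obj o, ⊤),
        ∀ s, H (E.obj.mapTop a s) = M.obj.mapTop a (hx s) := fun o _ a =>
    bc_extend (isBC_mapHom E a) ((mapHom M.obj a).comp hx.toAddMonoidHom) (fun c s => by
      show M.obj.mapTop a (hx (c • s)) = _
      rw [map_smul, StMod.Mod.mapTop_smul]
      rfl)
  choose H hH using hH
  have hnat : ∀ (o' o : 𝒳.obj) (h' : IsAffine (sch 𝒳 o')) (h : IsAffine (sch 𝒳 o)) (f : o' ⟶ o) (a : o ⟶ C.x) t,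
      M.obj.mapTop f (H o h a t) = H o' h' (f ≫ a) (E.obj.mapTop f t) := fun o' o h' h f a t => by
    refine bc_induction (isBC_mapHom E a)
      (P := fun t => M.obj.mapTop f (H o h a t) = H o' h' (f ≫ a) (E.obj.mapTop f t)) ?_ (fun x y hx hy => ?_)
      (fun c s => ?_) t
    · rw [map_zero, StMod.Mod.mapTop_zero, StMod.Mod.mapTop_zero, map_zero]
    · rw [map_add, StMod.Mod.mapTop_add, StMod.Mod.mapTop_add, map_add, hx, hy]
    · show M.obj.mapTop f (H o h a (c • E.obj.mapTop a s)) = H o' h' (f ≫ a) (E.obj.mapTop f (c • E.obj.mapTop a s))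
      rw [map_smul, StMod.Mod.mapTop_smul, StMod.Mod.mapTop_smul, map_smul, hH, ← StMod.Mod.mapTop_comp,
        ← StMod.Mod.mapTop_comp, hH]
  have hwd : ∀ (o : 𝒳.obj) (h : IsAffine (sch 𝒳 o)) (a b : o ⟶ C.x) t, H o h a t = H o h b t := fun o h a b t => by
    obtain ⟨J, _, D, hD⟩ := C.overlap o h a b
    refine D.eq_of_mapTop M fun j => ?_
    obtain ⟨c, hcp, hcq⟩ := hD j
    rw [hnat _ _ (D.aff j) h, hnat _ _ (D.aff j) h, ← hcp, ← hcq]
    have := D.aff j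
    have key : H (D.E j) (D.aff j) (c ≫ C.p) = H (D.E j) (D.aff j) (c ≫ C.q) := by
      refine bc_ext (isBC_mapHom E (c ≫ C.p)) he ?_
      rintro _ ⟨k, rfl⟩
      have sum : ∀ (F : StMod.Mod 𝒳) (z : Fin n → Γ(F.obj C.w, ⊤)),
          F.mapTop c (∑ l, z l) = ∑ l, F.mapTop c (z l) := fun F z => map_sum (mapHom F c) z _
      show H _ _ (c ≫ C.p) (E.obj.mapTop (c ≫ C.p) (e k)) = H _ _ (c ≫ C.q) (E.obj.mapTop (c ≫ C.p) (e k))
      rw [hH, StMod.Mod.mapTop_comp E.obj c C.p, hr, sum, map_sum, hxe, StMod.Mod.mapTop_comp M.obj c C.p, hov, sum]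
      refine Finset.sum_congr rfl fun l _ => ?_
      rw [StMod.Mod.mapTop_smul, StMod.Mod.mapTop_smul, map_smul, ← StMod.Mod.mapTop_comp, ← StMod.Mod.mapTop_comp,
        hH, hxe]
    rw [key]
  -- the maps at all affine objects
  have hτ : ∀ (o : 𝒳.obj) (h : IsAffine (sch 𝒳 o)) (t : Γ(E.obj.obj o, ⊤)), ∃ z : Γ(M.obj.obj o, ⊤),
      ∀ (d : 𝒳.obj) (h' : IsAffine (sch 𝒳 d)) (f : d ⟶ o) (a : d ⟶ C.x),
        M.obj.mapTop f z = H d h' a (E.obj.mapTop f t) := fun o h t => by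
    obtain ⟨m, D, hD⟩ := C.cover o h
    have a := fun j => (hD j).some
    obtain ⟨z, hz⟩ := D.exists_glue hfib M (fun j => H _ (D.aff j) (a j) (E.obj.mapTop (D.e j) t))
      fun i j d hd f f' e => by
        rw [hnat _ _ hd, hnat _ _ hd, ← StMod.Mod.mapTop_comp, ← StMod.Mod.mapTop_comp, e]
        exact hwd _ _ _ _ _
    refine ⟨z, fun d h' f b => ?_⟩
    obtain ⟨D', g, hg⟩ := D.exists_pullback hfib f
    refine D'.eq_of_mapTop M fun j => ?_
    rw [← StMod.Mod.mapTop_comp, ← hg, StMod.Mod.mapTop_comp, hz, hnat _ _ (D'.aff j), hnat _ _ (D'.aff j),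
      ← StMod.Mod.mapTop_comp, ← StMod.Mod.mapTop_comp, hg]
    exact hwd _ _ _ _ _
  choose τ hτ using hτ
  have huniq : ∀ (o : 𝒳.obj) (h : IsAffine (sch 𝒳 o)) (t : Γ(E.obj.obj o, ⊤)) (z : Γ(M.obj.obj o, ⊤)),
      (∀ (d : 𝒳.obj) (h' : IsAffine (sch 𝒳 d)) (f : d ⟶ o) (a : d ⟶ C.x),
        M.obj.mapTop f z = H d h' a (E.obj.mapTop f t)) → τ o h t = z := fun o h t z hz => by
    obtain ⟨m, D, hD⟩ := C.cover o h
    refine D.eq_of_mapTop M fun j => ?_
    rw [hτ o h t _ (D.aff j) (D.e j) (hD j).some, hz _ (D.aff j) (D.e j) (hD j).some]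
  obtain ⟨ψ, hψ⟩ := exists_hom_of_affine hfib E M (fun o h =>
    { toFun := τ o h
      map_add' := fun s t => huniq o h _ _ fun d h' f a => by
        rw [StMod.Mod.mapTop_add, StMod.Mod.mapTop_add, map_add, hτ o h s d h' f a, hτ o h t d h' f a]
      map_smul' := fun c s => huniq o h _ _ fun d h' f a => by
        rw [RingHom.id_apply, StMod.Mod.mapTop_smul, StMod.Mod.mapTop_smul, map_smul, hτ o h s d h' f a] })
    fun {o' o} h' h f t => (huniq o' h' _ _ fun d hd g a => by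
      rw [← StMod.Mod.mapTop_comp, ← StMod.Mod.mapTop_comp]
      exact hτ o h t d hd (g ≫ f) a).symm
  refine ⟨ψ, fun k => ?_⟩
  rw [hψ C.x C.affx]
  have := hτ C.x C.affx (e k) C.x C.affx (𝟙 _) (𝟙 _)
  rw [StMod.Mod.mapTop_id] at this
  change τ C.x C.affx (e k) = v k
  rw [this, hH, hxe, StMod.Mod.mapTop_id]

end Groth.Agent.H14.GenFam
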