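import Groth.Agent.H14.GenFam.Lift
import Groth.Agent.H14.GenFam.Funct

/-!
Charts of quasi-compact stacks with quasi-separated map to an affine scheme.
-/

set_option autoImplicit false
set_option backward.isDefEq.respectTransparency false
set_option backward.isDefEq.respectTransparency.types false
set_option linter.style.haveILetI false

universe u

open CategoryTheory CategoryTheory.Limits AlgebraicGeometry
open StMod (sch bmap fibCat)
open Groth.Agent.Lib.AlgStack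
open FibCat (IsFibGrpd IsEquivOver fp fpFst fpSnd overCat)
open AlgSt (overMap RepByAlgSpWith IsAlgStack)
open AlgSp (LocP)

namespace Groth.Agent.H14.GenFam

variable {S : Scheme.{u}}

/-- A functor between affine schemes over the base is quasi-compact. -/
theorem isQuasiCompactMor_overCat {U V : Over S} [IsAffine U.left] [IsAffine V.left] (a : overCat U ⥤ᵇ overCat V) :
    AlgSt.IsQuasiCompactMor Scheme.fppfPrecoverage a := by
  obtain ⟨v, ⟨ε⟩⟩ := H14.Chart.Points.exists_iso_overMap a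
  have hU := H14.Chart.Basic.isAlgStack_overCat U
  have hV := H14.Chart.Basic.isAlgStack_overCat V
  refine H14.Chart.QC2.isQuasiCompactMor_iso hU hV ε.symm ?_
  have hrep : RepByAlgSpWith (AlgSp.RepWith @QuasiCompact) (overMap v) := by
    refine H14.Chart.Basic.rep_overMap v (fun _ _ _ _ _ _ _ _ _ _ _ _ sq ha =>
      Lib.AlgSpace.repWith_baseChange sq ha) ((AlgSp.repWith_yon_map_iff _ _).2 ?_)
    exact inferInstanceAs (QuasiCompact v.left)
  exact (H14.Chart.QC.repByAlgSpWith_qc_iff hU hV (Rep.repByAlgSp1_of_repByAlgSpWith hrep)).1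
    (Rep.repByAlgSpWith_mono hrep fun _ _ _ _ _ h => Lib.AlgSpMor.QC.isQuasiCompactMor_of_repWith h)

/-- A quasi-compact stack, quasi-separated over an affine scheme, has a chart. -/
theorem exists_chart {𝒵 : AlgSt.Cat S} (h𝒵 : IsAlgStack Scheme.fppfPrecoverage 𝒵) {V : Over S} [IsAffine V.left]
    (π : 𝒵 ⥤ᵇ overCat V) (hqs : AlgSt.IsQuasiSeparatedMor π) (hqc : AlgSt.IsQuasiCompact 𝒵) :
    Nonempty (Chart 𝒵) := by
  obtain ⟨U, x₀, hU, hxs, hxe⟩ := hqc
  have hf := h𝒵.isStack.1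
  have hUc := H14.Chart.Basic.isAlgStack_overCat U
  have hq0 : AlgSt.IsQuasiCompactMor Scheme.fppfPrecoverage x₀ :=
    H14.Chart.QC2.isQuasiCompactMor_of_comp hUc h𝒵 (H14.Chart.Basic.isAlgStack_overCat V) x₀ (Iso.refl _)
      (isQuasiCompactMor_overCat (BasedFunctor.comp x₀ π)) hqs
  have : CompactSpace U.left := inferInstance
  obtain ⟨W, z, hW, hzs, hze⟩ := hq0 _ hUc (H14.Chart.QC.isQuasiCompact_overCat U) x₀
  have hR := H14.Chart.Basic.isAlgStack_fp h𝒵 hUc hUc x₀ x₀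
  have hfR := hR.isStack.1
  let Pz := z.obj (Over.mk (𝟙 W))
  have hxo : 𝒵.p.obj (x₀.obj (Over.mk (𝟙 U))) = U := x₀.w_obj _
  have hPz : (fp x₀ x₀).p.obj Pz = W := z.w_obj _
  have affx : IsAffine (sch 𝒵 (x₀.obj (Over.mk (𝟙 U)))) := by
    show IsAffine (𝒵.p.obj _).left
    rw [hxo]
    exact hU
  have affw : IsAffine (sch 𝒵 (x₀.obj Pz.obj.fst)) := by
    show IsAffine (𝒵.p.obj _).left
    rw [show 𝒵.p.obj (x₀.obj Pz.obj.fst) = W from (x₀.w_obj _).trans hPz]
    exact hW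
  refine ⟨{
    x := x₀.obj (Over.mk (𝟙 U))
    w := x₀.obj Pz.obj.fst
    affx := affx
    affw := affw
    p := x₀.map (Yoneda.toId Pz.obj.fst)
    q := Pz.obj.iso.hom ≫ x₀.map (Yoneda.toId Pz.obj.snd)
    cover := fun o ho => exists_cover_chart hf hxs hxe o
    overlap := fun o ho a b => ?_ }⟩
  let ga : Over U := Over.mk (StMod.baseOver (BasedFunctor.id 𝒵) o a ≫ eqToHom hxo)
  let gb : Over U := Over.mk (StMod.baseOver (BasedFunctor.id 𝒵) o b ≫ eqToHom hxo)
  have key : ∀ (k : o ⟶ x₀.obj (Over.mk (𝟙 U))),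
      ∃ i : o ≅ x₀.obj (Over.mk (StMod.baseOver (BasedFunctor.id 𝒵) o k ≫ eqToHom hxo)),
        𝒵.p.IsHomLift (𝟙 (𝒵.p.obj o)) i.hom ∧ i.hom ≫ x₀.map (Yoneda.toId _) = k := fun k => by
    refine exists_isoOver hf k _
      (x₀.w_obj (Over.mk (StMod.baseOver (BasedFunctor.id 𝒵) o k ≫ eqToHom hxo))).symm ?_
    haveI := Yoneda.map_toId_isHomLift x₀ (Over.mk (StMod.baseOver (BasedFunctor.id 𝒵) o k ≫ eqToHom hxo))
    rw [IsHomLift.fac' 𝒵.p (Over.mk (StMod.baseOver (BasedFunctor.id 𝒵) o k ≫ eqToHom hxo)).hom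
      (x₀.map (Yoneda.toId _))]
    simp
  obtain ⟨ia, hia, hia'⟩ := key a
  obtain ⟨ib, hib, hib'⟩ := key b
  haveI := IsHomLift.lift_id_inv 𝒵.p (𝒵.p.obj o) ia
  let P : (fp x₀ x₀).obj := FibProd.objMk ga gb (ia.symm ≪≫ ib) (by
    show 𝒵.p.IsHomLift (𝟙 (𝒵.p.obj o)) (ia.inv ≫ ib.hom)
    infer_instance)
  have hP : (fp x₀ x₀).p.obj P = 𝒵.p.obj o := rfl
  have hPa : IsAffine (sch (fp x₀ x₀) P) := ho
  obtain ⟨n, C, hC⟩ := exists_cover_chart hfR hzs hze P
  let J := ULift.{u} (Fin n)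
  have hb : ∀ j : J, bmap 𝒵 (x₀.map (C.e j.down).hom.fst ≫ ia.inv) =
      (eqToHom (x₀.w_obj (C.E j.down).obj.fst)).left ≫ bmap (fp x₀ x₀) (C.e j.down) := fun j => by
    haveI := Yoneda.map_isHomLift x₀ (C.e j.down).hom.fst
    have h1 := IsHomLift.fac' 𝒵.p (C.e j.down).hom.fst.left (x₀.map (C.e j.down).hom.fst)
    have h2 := IsHomLift.fac' 𝒵.p (𝟙 (𝒵.p.obj o)) ia.inv
    have : 𝒵.p.map (x₀.map (C.e j.down).hom.fst ≫ ia.inv) =
        eqToHom (x₀.w_obj (C.E j.down).obj.fst) ≫ (C.e j.down).hom.fst.left := by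
      rw [Functor.map_comp, h1, h2]
      simp
    exact congrArg CommaMorphism.left this
  refine ⟨J, inferInstance, ⟨fun j => x₀.obj (C.E j.down).obj.fst, fun j => ?_,
    fun j => x₀.map (C.e j.down).hom.fst ≫ ia.inv, fun j => ?_, fun v => ?_⟩, fun j => ?_⟩
  · show IsAffine (𝒵.p.obj (x₀.obj (C.E j.down).obj.fst)).left
    rw [x₀.w_obj]
    exact C.aff j.down
  · have := C.flat j.down
    haveI : IsIso (eqToHom (x₀.w_obj (C.E j.down).obj.fst)).left :=
      inferInstanceAs (IsIso ((Over.forget S).map (eqToHom (x₀.w_obj (C.E j.down).obj.fst))))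
    rw [hb]
    exact MorphismProperty.comp_mem @Flat _ _ inferInstance (C.flat j.down)
  · obtain ⟨j, y, hy⟩ := C.surj v
    refine ⟨⟨j⟩, (eqToHom (x₀.w_obj (C.E j).obj.fst).symm).left y, ?_⟩
    rw [hb]
    refine (Scheme.Hom.comp_apply _ _ _).symm.trans ?_
    rw [← Category.assoc, ← Over.comp_left, eqToHom_trans, eqToHom_refl]
    exact hy
  · obtain ⟨d⟩ := hC j.down
    refine ⟨x₀.map d.hom.fst, ?_, ?_⟩
    · show x₀.map d.hom.fst ≫ x₀.map _ = (x₀.map (C.e j.down).hom.fst ≫ ia.inv) ≫ a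
      refine Eq.trans ?_ (congrArg ((x₀.map (C.e j.down).hom.fst ≫ ia.inv) ≫ ·) hia')
      simp only [Category.assoc, Iso.inv_hom_id_assoc]
      refine (x₀.toFunctor.map_comp _ _).symm.trans (Eq.trans ?_ (x₀.toFunctor.map_comp _ _))
      congr 1
      exact Over.OverMorphism.ext ((Over.w d.hom.fst).trans (Over.w (C.e j.down).hom.fst).symm)
    · show x₀.map d.hom.fst ≫ Pz.obj.iso.hom ≫ x₀.map _ = (x₀.map (C.e j.down).hom.fst ≫ ia.inv) ≫ b
      refine Eq.trans ?_ (congrArg ((x₀.map (C.e j.down).hom.fst ≫ ia.inv) ≫ ·) hib')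
      simp only [Category.assoc]
      rw [← Category.assoc (x₀.map d.hom.fst), show x₀.map d.hom.fst ≫ Pz.obj.iso.hom =
        (C.E j.down).obj.iso.hom ≫ x₀.map d.hom.snd from d.hom.w]
      have e2 : x₀.map (C.e j.down).hom.fst ≫ ia.inv ≫ ib.hom =
          (C.E j.down).obj.iso.hom ≫ x₀.map (C.e j.down).hom.snd := (C.e j.down).hom.w
      rw [reassoc_of% e2, Category.assoc]
      refine congrArg ((C.E j.down).obj.iso.hom ≫ ·) ?_
      refine (x₀.toFunctor.map_comp _ _).symm.trans (Eq.trans ?_ (x₀.toFunctor.map_comp _ _))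
      congr 1
      exact Over.OverMorphism.ext ((Over.w d.hom.snd).trans (Over.w (C.e j.down).hom.snd).symm)

end Groth.Agent.H14.GenFam
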