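import Groth.Agent.H14.GenFam.Chart
import Groth.Agent.Lib.ZeroCyc99.FlatLocalAffine

/-!
A morphism killed by all morphisms from finitely presented modules stays so after a flat affine base change.
-/

set_option autoImplicit false
set_option backward.isDefEq.respectTransparency false
set_option backward.isDefEq.respectTransparency.types false
set_option linter.style.haveILetI false

universe u

open CategoryTheory CategoryTheory.Limits AlgebraicGeometry Opposite TopologicalSpace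
open StMod (sch bmap)
open Groth.Agent.Lib.AlgStack
open Groth.Agent.H14.ModDesc
open Groth.Agent.H14.AffPush

namespace Groth.Agent.H14.GenFam

variable {S : Scheme.{u}} {V W : Over S} {𝒳 : AlgSt.Cat S} {π : 𝒳 ⥤ᵇ AlgSt.ofSch V} {g : W ⟶ V}

theorem mapTop_fst (F : StMod.Mod 𝒳) {o' o : (cat π g).obj} (f : o' ⟶ o) (s : Γ(F.obj o.obj.left, ⊤)) :
    (StMod.Mod.comap (fst π g) F).mapTop f s = F.mapTop f.hom.left s :=
  mapTop_comap (fst π g) F f s

theorem isAffine_up (hfib : FibCat.IsFibGrpd 𝒳.p) [IsAffineHom g.left] (x : 𝒳.obj) [IsAffine (sch 𝒳 x)] :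
    IsAffine (sch (cat π g) (up (π := π) (g := g) hfib x)) :=
  have := isAffineHom_eps (π := π) (g := g) hfib x
  isAffine_of_isAffineHom (bmap 𝒳 (eps (π := π) (g := g) hfib x))

theorem exists_gen {E : StMod.QCoh 𝒳} {x' x : 𝒳.obj} (φ : x' ⟶ x) [IsAffine (sch 𝒳 x')] [IsAffine (sch 𝒳 x)]
    {n : ℕ} {e : Fin n → Γ(E.obj.obj x, ⊤)} (he : Submodule.span Γ(sch 𝒳 x, ⊤) (Set.range e) = ⊤)
    (t : Γ(E.obj.obj x', ⊤)) : ∃ r : Fin n → Γ(sch 𝒳 x', ⊤), ∑ l, r l • E.obj.mapTop φ (e l) = t := by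
  refine (Submodule.mem_span_range_iff_exists_fun _).1 (bc_induction (isBC_mapHom E φ)
    (P := fun t => t ∈ Submodule.span Γ(sch 𝒳 x', ⊤) (Set.range fun l => E.obj.mapTop φ (e l)))
    (Submodule.zero_mem _) (fun _ _ => Submodule.add_mem _) (fun b m => Submodule.smul_mem _ b ?_) t)
  have hm : m ∈ Submodule.span Γ(sch 𝒳 x, ⊤) (Set.range e) := he ▸ Submodule.mem_top
  show E.obj.mapTop φ m ∈ _
  induction hm using Submodule.span_induction with
  | mem y hy => obtain ⟨l, rfl⟩ := hy; exact Submodule.subset_span ⟨l, rfl⟩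
  | zero => rw [StMod.Mod.mapTop_zero]; exact Submodule.zero_mem _
  | add y z _ _ hy hz => rw [StMod.Mod.mapTop_add]; exact Submodule.add_mem _ hy hz
  | smul a y _ hy => rw [StMod.Mod.mapTop_smul]; exact Submodule.smul_mem _ _ hy

/-- The relation and overlap maps of the chart, before and after base change, at the level of values. -/
theorem mem_span_sol (hfib : FibCat.IsFibGrpd 𝒳.p) [IsAffine V.left] [IsAffine W.left] [Flat g.left]
    (C : Chart 𝒳) (M : StMod.QCoh 𝒳) {n m : ℕ} (cs : Fin m → Fin n → Γ(sch 𝒳 C.x, ⊤))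
    (r : Fin n → Fin n → Γ(sch 𝒳 C.w, ⊤))
    (v' : Fin n → Γ(M.obj.obj (up (π := π) (g := g) hfib C.x).obj.left, ⊤))
    (h₁ : ∀ j, ∑ l, (bmap 𝒳 (eps (π := π) (g := g) hfib C.x)).appTop.hom (cs j l) • v' l = 0)
    (h₂ : ∀ k, M.obj.mapTop (upMap (π := π) (g := g) hfib C.p).hom.left (v' k) =
      ∑ l, (bmap 𝒳 (eps (π := π) (g := g) hfib C.w)).appTop.hom (r k l) •
        M.obj.mapTop (upMap (π := π) (g := g) hfib C.q).hom.left (v' l))
    (P : (Fin n → Γ(M.obj.obj (up (π := π) (g := g) hfib C.x).obj.left, ⊤)) → Prop) (hP0 : P 0)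
    (hPadd : ∀ a b, P a → P b → P (a + b))
    (hPsmul : ∀ (b : Γ(W.left, ⊤)) a, P a →
      P (fun l => (up (π := π) (g := g) hfib C.x).obj.hom.left.appTop.hom b • a l))
    (hPgen : ∀ v : Fin n → Γ(M.obj.obj C.x, ⊤), (∀ j, ∑ l, cs j l • v l = 0) →
      (∀ k, M.obj.mapTop C.p (v k) = ∑ l, r k l • M.obj.mapTop C.q (v l)) →
      P (fun l => M.obj.mapTop (eps (π := π) (g := g) hfib C.x) (v l))) :
    P v' := by
  classical
  let A := Γ(V.left, ⊤)
  let B := Γ(W.left, ⊤)
  let : Algebra A B := g.left.appTop.hom.toAlgebra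
  have : Module.Flat A B := flat_appTop g.left
  let mA : ∀ o : 𝒳.obj, Module A Γ(M.obj.obj o, ⊤) := fun o => Module.compHom _ (str π o).left.appTop.hom
  let mB : ∀ o : (cat π g).obj, Module B Γ(M.obj.obj o.obj.left, ⊤) := fun o =>
    Module.compHom _ o.obj.hom.left.appTop.hom
  have hAsmul : ∀ (o : 𝒳.obj) (a : A) (z : Γ(M.obj.obj o, ⊤)), a • z = (str π o).left.appTop.hom a • z :=
    fun _ _ _ => rfl
  have hBsmul : ∀ (o : (cat π g).obj) (b : B) (z : Γ(M.obj.obj o.obj.left, ⊤)),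
      b • z = o.obj.hom.left.appTop.hom b • z := fun _ _ _ => rfl
  have hbc : ∀ (o : 𝒳.obj) [IsAffine (sch 𝒳 o)],
      @IsBC A B _ _ _ _ _ (mA o) _ (mB (up hfib o)) (algebraMap A B)
        (mapHom M.obj (eps (π := π) (g := g) hfib o)) := fun o _ => by
    have : IsAffine (sch 𝒳 (up (π := π) (g := g) hfib o).obj.left) := isAffine_up (π := π) (g := g) hfib o
    exact isBC_of_isPushout (Lib.ZeroCyc99.FlatLocalAffine.isPushout_appTop (isPullback_eps hfib o)).flip
      (mA := mA o) (mB := mB (up hfib o)) (hAsmul o) (hBsmul (up hfib o))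
      (isBC_mapHom M (eps (π := π) (g := g) hfib o))
  let K := Fin m ⊕ Fin n
  let obK : K → 𝒳.obj := Sum.elim (fun _ => C.x) (fun _ => C.w)
  have affK : ∀ k, IsAffine (sch 𝒳 (obK k)) := by
    rintro (j | k)
    exacts [C.affx, C.affw]
  -- linear maps
  let sA : ∀ o : 𝒳.obj, Γ(sch 𝒳 o, ⊤) → Γ(M.obj.obj o, ⊤) →ₗ[A] Γ(M.obj.obj o, ⊤) := fun o c =>
    { toFun := fun z => c • z, map_add' := smul_add c, map_smul' := fun a z => by
        rw [RingHom.id_apply, hAsmul, hAsmul, smul_smul, smul_smul, mul_comm] }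
  let sB : ∀ o : (cat π g).obj, Γ(sch 𝒳 o.obj.left, ⊤) →
      Γ(M.obj.obj o.obj.left, ⊤) →ₗ[B] Γ(M.obj.obj o.obj.left, ⊤) := fun o c =>
    { toFun := fun z => c • z, map_add' := smul_add c, map_smul' := fun a z => by
        rw [RingHom.id_apply, hBsmul, hBsmul, smul_smul, smul_smul, mul_comm] }
  let mapA : ∀ {o' o : 𝒳.obj}, (o' ⟶ o) → Γ(M.obj.obj o, ⊤) →ₗ[A] Γ(M.obj.obj o', ⊤) := fun {o' o} f =>
    { toFun := M.obj.mapTop f, map_add' := M.obj.mapTop_add f, map_smul' := fun a z => by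
        rw [RingHom.id_apply, hAsmul, hAsmul, StMod.Mod.mapTop_smul, ← map_str π f]
        congr 1 }
  let mapB : ∀ {o' o : (cat π g).obj}, (o' ⟶ o) → Γ(M.obj.obj o.obj.left, ⊤) →ₗ[B] Γ(M.obj.obj o'.obj.left, ⊤) :=
    fun {o' o} f =>
    { toFun := M.obj.mapTop f.hom.left, map_add' := M.obj.mapTop_add _, map_smul' := fun b z => by
        rw [RingHom.id_apply, hBsmul, hBsmul, StMod.Mod.mapTop_smul, ← CostructuredArrow.w f.hom]
        congr 1 }
  let T : ∀ k : K, (Fin n → Γ(M.obj.obj C.x, ⊤)) →ₗ[A] Γ(M.obj.obj (obK k), ⊤) := fun k => match k with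
    | .inl j => ∑ l, (sA C.x (cs j l)).comp (LinearMap.proj l)
    | .inr k => (mapA C.p).comp (LinearMap.proj k) -
        ∑ l, ((sA C.w (r k l)).comp (mapA C.q)).comp (LinearMap.proj l)
  let ux := up (π := π) (g := g) hfib C.x
  let uw := up (π := π) (g := g) hfib C.w
  let T' : ∀ k : K, (Fin n → Γ(M.obj.obj ux.obj.left, ⊤)) →ₗ[B]
      Γ(M.obj.obj (up (π := π) (g := g) hfib (obK k)).obj.left, ⊤) := fun k => match k with
    | .inl j => ∑ l, (sB ux ((bmap 𝒳 (eps hfib C.x)).appTop.hom (cs j l))).comp (LinearMap.proj l)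
    | .inr k => (mapB (upMap (π := π) (g := g) hfib C.p)).comp (LinearMap.proj k) -
        ∑ l, ((sB uw ((bmap 𝒳 (eps hfib C.w)).appTop.hom (r k l))).comp
          (mapB (upMap (π := π) (g := g) hfib C.q))).comp (LinearMap.proj l)
  have hup : ∀ (f : C.w ⟶ C.x) (s : Γ(M.obj.obj C.x, ⊤)),
      M.obj.mapTop (upMap (π := π) (g := g) hfib f).hom.left (M.obj.mapTop (eps hfib C.x) s) =
        M.obj.mapTop (eps (π := π) (g := g) hfib C.w) (M.obj.mapTop f s) := fun f s => by
    rw [← StMod.Mod.mapTop_comp, upMap_eps, StMod.Mod.mapTop_comp]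
  have key := mem_span_ker (hbc C.x) T (fun k => mapHom M.obj (eps (π := π) (g := g) hfib (obK k)))
    (fun k => have := affK k; hbc (obK k)) T' (fun k v => by
      rcases k with j | k
      · show (∑ l, (sB ux _).comp (LinearMap.proj l) : _ →ₗ[B] _) _ = mapHom M.obj _ ((∑ l, (sA C.x _).comp _ : _ →ₗ[A] _) v)
        rw [LinearMap.sum_apply, LinearMap.sum_apply, map_sum]
        exact Finset.sum_congr rfl fun l _ => (StMod.Mod.mapTop_smul M.obj _ _ _).symm
      · show ((mapB _).comp _ - ∑ l, ((sB uw _).comp (mapB _)).comp _ : _ →ₗ[B] _) _ =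
          mapHom M.obj _ (((mapA C.p).comp _ - ∑ l, ((sA C.w _).comp (mapA C.q)).comp _ : _ →ₗ[A] _) v)
        erw [LinearMap.sub_apply, LinearMap.sum_apply, LinearMap.sub_apply, LinearMap.sum_apply, map_sub, map_sum]
        refine congrArg₂ (· - ·) (hup C.p _) (Finset.sum_congr rfl fun l _ => ?_)
        refine Eq.trans ?_ (StMod.Mod.mapTop_smul M.obj _ _ _).symm
        exact congrArg (fun z : Γ(M.obj.obj (up (π := π) (g := g) hfib C.w).obj.left, ⊤) =>
          (bmap 𝒳 (eps (π := π) (g := g) hfib C.w)).appTop.hom (r k l) • z) (hup C.q _))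
    v' (fun k => by
      rcases k with j | k
      · show (∑ l, (sB ux _).comp (LinearMap.proj l) : _ →ₗ[B] _) v' = 0
        rw [LinearMap.sum_apply]
        exact h₁ j
      · show ((mapB _).comp _ - ∑ l, ((sB uw _).comp (mapB _)).comp _ : _ →ₗ[B] _) v' = 0
        erw [LinearMap.sub_apply, LinearMap.sum_apply, sub_eq_zero]
        exact h₂ k)
  clear h₁ h₂
  induction key using Submodule.span_induction with
  | mem a ha =>
    obtain ⟨v, hv, rfl⟩ := ha
    refine hPgen v (fun j => ?_) (fun k => ?_)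
    · have := hv (.inl j)
      change (∑ l, (sA C.x _).comp (LinearMap.proj l) : _ →ₗ[A] _) v = 0 at this
      rw [LinearMap.sum_apply] at this
      exact this
    · have := hv (.inr k)
      change ((mapA C.p).comp _ - ∑ l, ((sA C.w _).comp (mapA C.q)).comp _ : _ →ₗ[A] _) v = 0 at this
      erw [LinearMap.sub_apply, LinearMap.sum_apply, sub_eq_zero] at this
      exact this
  | zero => exact hP0
  | add a b _ _ ha hb => exact hPadd a b ha hb
  | smul b a _ ha => exact hPsmul b a ha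

variable [IsAffine V.left] [IsAffine W.left] [Flat g.left]

/-- Being killed by all morphisms from finitely presented modules is stable under flat affine base change. -/
theorem killed_baseChange (hfib : FibCat.IsFibGrpd 𝒳.p) (C : Chart 𝒳) {ι : Type u} (E : ι → StMod.QCoh 𝒳)
    (hE : ∀ i, Module.FinitePresentation Γ(sch 𝒳 C.x, ⊤) Γ((E i).obj.obj C.x, ⊤)) {M N : StMod.QCoh 𝒳}
    (u : M ⟶ N) (hu : ∀ (i : ι) (φ : (E i).obj ⟶ M.obj), φ ≫ u.hom = 0) (i : ι)
    (φ : StMod.Mod.comap (fst π g) (E i).obj ⟶ StMod.Mod.comap (fst π g) M.obj) :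
    φ ≫ StMod.Mod.comapMap (fst π g) u.hom = 0 := by
  classical
  have := hE i
  let x' := up (π := π) (g := g) hfib C.x
  let w' := up (π := π) (g := g) hfib C.w
  have hx' : IsAffine (sch (cat π g) x') := isAffine_up hfib C.x
  have hw' : IsAffine (sch (cat π g) w') := isAffine_up hfib C.w
  have : IsAffine (sch 𝒳 x'.obj.left) := hx'
  obtain ⟨n, e, he⟩ := Module.Finite.exists_fin (R := Γ(sch 𝒳 C.x, ⊤)) (M := Γ((E i).obj.obj C.x, ⊤))
  obtain ⟨m, cs, hcs⟩ : ∃ (m : ℕ) (cs : Fin m → Fin n → Γ(sch 𝒳 C.x, ⊤)),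
      Submodule.span _ (Set.range cs) = LinearMap.ker (Fintype.linearCombination Γ(sch 𝒳 C.x, ⊤) e) :=
    Submodule.fg_iff_exists_fin_generating_family.1 (Module.FinitePresentation.fg_ker _ (by
      rw [← LinearMap.range_eq_top, Fintype.range_linearCombination, he]))
  choose r hr using fun k => exists_gen C.q he ((E i).obj.mapTop C.p (e k))
  -- the values
  let φx : Γ((E i).obj.obj x'.obj.left, ⊤) →+ Γ(M.obj.obj x'.obj.left, ⊤) := ((φ.app x').app ⊤).hom
  have hφs : ∀ (c : Γ(sch 𝒳 x'.obj.left, ⊤)) z, φx (c • z) = c • φx z := fun c z =>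
    Scheme.Modules.Hom.app_smul (φ.app x') c z
  let ux : Γ(M.obj.obj x'.obj.left, ⊤) →+ Γ(N.obj.obj x'.obj.left, ⊤) := ((u.hom.app x'.obj.left).app ⊤).hom
  have hus : ∀ (c : Γ(sch 𝒳 x'.obj.left, ⊤)) z, ux (c • z) = c • ux z := fun c z =>
    Scheme.Modules.Hom.app_smul (u.hom.app x'.obj.left) c z
  have hnat : ∀ {o' o : (cat π g).obj} (f : o' ⟶ o) (t : Γ((E i).obj.obj o.obj.left, ⊤)),
      M.obj.mapTop f.hom.left ((φ.app o).app ⊤ t) = (φ.app o').app ⊤ ((E i).obj.mapTop f.hom.left t) := by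
    intro o' o f t
    have := StMod.Mod.mapTop_app φ f t
    exact (mapTop_fst M.obj f _).symm.trans (this.trans (congrArg _ (mapTop_fst (E i).obj f t)))
  have hsum : ∀ (F : StMod.Mod 𝒳) {o' o : 𝒳.obj} (f : o' ⟶ o) (z : Fin n → Γ(F.obj o, ⊤)),
      F.mapTop f (∑ l, z l) = ∑ l, F.mapTop f (z l) := fun F o' o f z => map_sum (mapHom F f) z _
  have hzero : ∀ k, ux (φx ((E i).obj.mapTop (eps hfib C.x) (e k))) = 0 := by
    refine mem_span_sol (π := π) (g := g) hfib C M cs r (fun k => φx ((E i).obj.mapTop (eps hfib C.x) (e k))) ?_ ?_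
      (fun a => ∀ k, ux (a k) = 0) (fun k => map_zero ux) (fun a b ha hb k => ?_) (fun b a ha k => ?_)
      (fun v hv₁ hv₂ k => ?_)
    · intro j
      have hj : ∑ l, cs j l • e l = 0 := by
        have : cs j ∈ LinearMap.ker (Fintype.linearCombination Γ(sch 𝒳 C.x, ⊤) e) :=
          hcs ▸ Submodule.subset_span ⟨j, rfl⟩
        rwa [LinearMap.mem_ker, Fintype.linearCombination_apply] at this
      have := congrArg (fun z => φx ((E i).obj.mapTop (eps (π := π) (g := g) hfib C.x) z)) hj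
      simp only [hsum, StMod.Mod.mapTop_zero, map_sum, map_zero, StMod.Mod.mapTop_smul, hφs] at this
      exact this
    · intro k
      have e₁ : ∀ (f : C.w ⟶ C.x) (l : Fin n),
          M.obj.mapTop (upMap (π := π) (g := g) hfib f).hom.left (φx ((E i).obj.mapTop (eps hfib C.x) (e l))) =
            (φ.app w').app ⊤ ((E i).obj.mapTop (eps (π := π) (g := g) hfib C.w) ((E i).obj.mapTop f (e l))) :=
        fun f l => by
          refine (hnat (upMap hfib f) _).trans (congrArg _ ?_)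
          rw [← StMod.Mod.mapTop_comp, upMap_eps, StMod.Mod.mapTop_comp]
      simp only [e₁]
      rw [← hr k, hsum]
      refine (map_sum ((φ.app w').app ⊤).hom _ _).trans (Finset.sum_congr rfl fun l _ => ?_)
      rw [StMod.Mod.mapTop_smul]
      exact Scheme.Modules.Hom.app_smul (φ.app w') _ _
    · show ux (a k + b k) = 0
      rw [map_add, ha, hb, add_zero]
    · exact ((hus _ _).trans (by rw [ha k, smul_zero]))
    · obtain ⟨ψ, hψ⟩ := C.exists_hom hfib (E i) M e he v (fun c hc => by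
        have hmem : c ∈ Submodule.span Γ(sch 𝒳 C.x, ⊤) (Set.range cs) := by
          rw [hcs, LinearMap.mem_ker, Fintype.linearCombination_apply]
          exact hc
        obtain ⟨d, rfl⟩ := (Submodule.mem_span_range_iff_exists_fun _).1 hmem
        simp only [Finset.sum_apply, Pi.smul_apply, smul_eq_mul, Finset.sum_smul, mul_smul]
        rw [Finset.sum_comm]
        simp [← Finset.smul_sum, hv₁]) r (fun k => (hr k).symm) hv₂
      show (u.hom.app x'.obj.left).app ⊤ (M.obj.mapTop (eps hfib C.x) (v k)) = 0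
      rw [← StMod.Mod.mapTop_app u.hom, ← hψ k]
      have : (u.hom.app C.x).app ⊤ ((ψ.app C.x).app ⊤ (e k)) = 0 :=
        (congrArg (fun q : (E i).obj ⟶ N.obj => (q.app C.x).app ⊤ (e k)) (hu i ψ)).trans rfl
      rw [this, StMod.Mod.mapTop_zero]
  have hx0 : ∀ t, ux (φx t) = 0 := fun t => by
    obtain ⟨c, hc⟩ := exists_gen (eps (π := π) (g := g) hfib C.x) he t
    rw [← hc, map_sum, map_sum]
    exact Finset.sum_eq_zero fun l _ => by rw [hφs, hus, hzero, smul_zero]
  refine hom_ext_affine (isFibGrpd_cat hfib) (StMod.isQCoh_comap N.property) fun o ho t => ?_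
  show (u.hom.app o.obj.left).app ⊤ ((φ.app o).app ⊤ t) = 0
  have : IsAffine (sch 𝒳 o.obj.left) := ho
  obtain ⟨k, D, hD⟩ := C.cover o.obj.left ho
  refine D.eq_of_mapTop N fun j => ?_
  let oj : (cat π g).obj := mkObj (D.E j) (𝒳.p.map (D.e j) ≫ o.obj.hom) (by
    rw [Category.assoc, o.property]
    exact map_str π (D.e j))
  let kj : oj ⟶ o := mkHom (D.e j) rfl
  let fj : oj ⟶ x' := upLift hfib (hD j).some
  have hj : IsAffine (sch 𝒳 oj.obj.left) := D.aff j
  rw [StMod.Mod.mapTop_zero, StMod.Mod.mapTop_app]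
  show (u.hom.app oj.obj.left).app ⊤ (M.obj.mapTop kj.hom.left ((φ.app o).app ⊤ t)) = 0
  rw [hnat kj]
  refine bc_induction (isBC_mapHom (E i) fj.hom.left)
    (P := fun s => (u.hom.app oj.obj.left).app ⊤ ((φ.app oj).app ⊤ s) = 0) ?_ ?_ ?_ _
  · exact (congrArg _ (map_zero ((φ.app oj).app ⊤).hom)).trans (map_zero ((u.hom.app oj.obj.left).app ⊤).hom)
  · intro a b ha hb
    refine (congrArg _ (map_add ((φ.app oj).app ⊤).hom a b)).trans
      ((map_add ((u.hom.app oj.obj.left).app ⊤).hom _ _).trans ?_)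
    exact (congrArg₂ (· + ·) ha hb).trans (add_zero _)
  · intro c s
    refine (congrArg _ (Scheme.Modules.Hom.app_smul (φ.app oj) c _)).trans
      ((Scheme.Modules.Hom.app_smul (u.hom.app oj.obj.left) c _).trans ?_)
    have : (u.hom.app oj.obj.left).app ⊤ ((φ.app oj).app ⊤ ((E i).obj.mapTop fj.hom.left s)) = 0 := by
      rw [← hnat fj, ← StMod.Mod.mapTop_app u.hom, show (u.hom.app x'.obj.left).app ⊤ ((φ.app x').app ⊤ s) = 0 from hx0 s,
        StMod.Mod.mapTop_zero]
    exact (congrArg (c • ·) this).trans (smul_zero c)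

end Groth.Agent.H14.GenFam
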