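import Groth.Agent.H14.GenFam.Main
import Groth.Agent.H14.GenFam.Glue
import Mathlib.Logic.Small.Defs
import Mathlib.Algebra.Module.Shrink

/-!
Morphisms over the objects of the target, and their behaviour under flat base change.
-/

set_option autoImplicit false
set_option backward.isDefEq.respectTransparency false
set_option backward.isDefEq.respectTransparency.types false
set_option linter.style.haveILetI false

universe u

open CategoryTheory CategoryTheory.Limits AlgebraicGeometry Opposite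
open StMod (sch bmap fibCat fibFst baseOver)
open Groth.Agent.Lib Groth.Agent.Lib.AlgStack
open Groth.Agent.H14.ModDesc
open Groth.Agent.H14.AffPush
open TensorProduct

namespace Groth.Agent.H14.GenFam

variable {S : Scheme.{u}} {𝒳 𝒴 : AlgSt.Cat S} (f : 𝒳 ⥤ᵇ 𝒴) (E M : StMod.QCoh 𝒳)

/-- An affine object over an object of the target. -/
structure AObj (y : 𝒴.obj) where
  /-- the object -/
  ξ : 𝒳.obj
  /-- the map -/
  α : f.obj ξ ⟶ y
  aff : IsAffine (sch 𝒳 ξ)

attribute [instance] AObj.aff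

variable {f} in
/-- Reindexing along a morphism of the target. -/
def AObj.map {y' y : 𝒴.obj} (e : y' ⟶ y) (l : AObj f y') : AObj f y := ⟨l.ξ, l.α ≫ e, l.aff⟩

variable {f} in
/-- The map to the scheme of the target. -/
def AObj.str {y : 𝒴.obj} (l : AObj f y) : sch 𝒳 l.ξ ⟶ sch 𝒴 y := (baseOver f l.ξ l.α).left

/-- The natural families of linear maps over an object. -/
noncomputable def homFam (y : 𝒴.obj) :
    AddSubgroup (∀ l : AObj f y, Γ(E.obj.obj l.ξ, ⊤) →ₗ[Γ(sch 𝒳 l.ξ, ⊤)] Γ(M.obj.obj l.ξ, ⊤)) where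
  carrier := {τ | ∀ ⦃l' l : AObj f y⦄ (φ : l'.ξ ⟶ l.ξ), f.map φ ≫ l.α = l'.α → ∀ s,
    M.obj.mapTop φ (τ l s) = τ l' (E.obj.mapTop φ s)}
  zero_mem' := fun l' l φ _ s => by
    simp only [Pi.zero_apply, LinearMap.zero_apply]
    exact M.obj.mapTop_zero φ
  add_mem' := fun {a b} ha hb l' l φ h s => by
    simp only [Pi.add_apply, LinearMap.add_apply]
    rw [StMod.Mod.mapTop_add, ha φ h, hb φ h]
  neg_mem' := fun {a} ha l' l φ h s => by
    simp only [Pi.neg_apply, LinearMap.neg_apply]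
    rw [← ha φ h]
    exact map_neg (mapHom M.obj φ) _

variable {f E M}

noncomputable instance homFamModule (y : 𝒴.obj) : Module Γ(sch 𝒴 y, ⊤) (homFam f E M y) where
  smul r τ := ⟨fun l => l.str.appTop.hom r • τ.1 l, fun l' l φ h s => by
    show M.obj.mapTop φ (l.str.appTop.hom r • τ.1 l s) = l'.str.appTop.hom r • τ.1 l' (E.obj.mapTop φ s)
    rw [StMod.Mod.mapTop_smul, τ.2 φ h]
    refine congrArg (· • _) ?_
    have e : bmap 𝒳 φ ≫ l.str = l'.str := by
      rw [AObj.str, StMod.bmap_comp_baseOver_left, h]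
      rfl
    rw [← e]
    rfl⟩
  one_smul τ := Subtype.ext (funext fun l => by
    show l.str.appTop.hom 1 • τ.1 l = τ.1 l
    rw [map_one, one_smul])
  mul_smul r r' τ := Subtype.ext (funext fun l => by
    show l.str.appTop.hom (r * r') • τ.1 l = l.str.appTop.hom r • l.str.appTop.hom r' • τ.1 l
    rw [map_mul, mul_smul])
  smul_zero r := Subtype.ext (funext fun l => smul_zero _)
  smul_add r a b := Subtype.ext (funext fun l => smul_add _ _ _)
  add_smul r r' τ := Subtype.ext (funext fun l => by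
    show l.str.appTop.hom (r + r') • τ.1 l = l.str.appTop.hom r • τ.1 l + l.str.appTop.hom r' • τ.1 l
    rw [map_add, add_smul])
  zero_smul τ := Subtype.ext (funext fun l => by
    show l.str.appTop.hom 0 • τ.1 l = 0
    rw [map_zero, zero_smul])

theorem homFam_smul_apply {y : 𝒴.obj} (r : Γ(sch 𝒴 y, ⊤)) (τ : homFam f E M y) (l : AObj f y) (s) :
    (r • τ).1 l s = l.str.appTop.hom r • τ.1 l s := rfl

theorem AObj.str_map {y' y : 𝒴.obj} (e : y' ⟶ y) (l : AObj f y') : (l.map e).str = l.str ≫ bmap 𝒴 e :=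
  congrArg CommaMorphism.left (StMod.baseOver_comp f l.ξ l.α e)

/-- Restriction of families. -/
noncomputable def homRes {y' y : 𝒴.obj} (e : y' ⟶ y) : homFam f E M y →+ homFam f E M y' where
  toFun τ := ⟨fun l => τ.1 (l.map e), fun l' l φ h s => τ.2 (l' := l'.map e) (l := l.map e) φ (by
    show f.map φ ≫ l.α ≫ e = l'.α ≫ e
    rw [← Category.assoc, h]) s⟩
  map_zero' := rfl
  map_add' _ _ := rfl

theorem isSL_homRes {y' y : 𝒴.obj} (e : y' ⟶ y) : IsSL (bmap 𝒴 e).appTop.hom (homRes (f := f) (E := E) (M := M) e) :=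
  fun r τ => Subtype.ext (funext fun l => LinearMap.ext fun s => by
    show (l.map e).str.appTop.hom r • τ.1 (l.map e) s = l.str.appTop.hom ((bmap 𝒴 e).appTop.hom r) • τ.1 (l.map e) s
    rw [AObj.str_map]
    rfl)

theorem homRes_id (y : 𝒴.obj) (τ : homFam f E M y) : homRes (𝟙 y) τ = τ := by
  refine Subtype.ext (funext fun l => ?_)
  obtain ⟨ξ, α, h⟩ := l
  refine LinearMap.ext fun s => ?_
  show τ.1 ⟨ξ, α ≫ 𝟙 y, h⟩ s = τ.1 ⟨ξ, α, h⟩ s
  have key : ∀ β (_ : β = α), τ.1 ⟨ξ, β, h⟩ s = τ.1 ⟨ξ, α, h⟩ s := fun β hβ => by subst hβ; rfl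
  exact key _ (Category.comp_id α)

theorem homFam_congr {y : 𝒴.obj} (τ : homFam f E M y) {ξ : 𝒳.obj} {α β : f.obj ξ ⟶ y} (e : α = β)
    (h : IsAffine (sch 𝒳 ξ)) (s : Γ(E.obj.obj ξ, ⊤)) : τ.1 ⟨ξ, α, h⟩ s = τ.1 ⟨ξ, β, h⟩ s := by
  subst e
  rfl

theorem homRes_comp {y'' y' y : 𝒴.obj} (e' : y'' ⟶ y') (e : y' ⟶ y) (τ : homFam f E M y) :
    homRes (e' ≫ e) τ = homRes e' (homRes e τ) := by
  refine Subtype.ext (funext fun l => LinearMap.ext fun s => ?_)
  exact (homFam_congr τ (Category.assoc l.α e' e) l.aff s).symm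

/-- Composition with a morphism. -/
noncomputable def homPost {N : StMod.QCoh 𝒳} (u : M ⟶ N) (y : 𝒴.obj) :
    homFam f E M y →ₗ[Γ(sch 𝒴 y, ⊤)] homFam f E N y where
  toFun τ := ⟨fun l =>
    { toFun := fun s => (u.hom.app l.ξ).app ⊤ (τ.1 l s)
      map_add' := fun a b => (congrArg _ (map_add (τ.1 l) a b)).trans (map_add ((u.hom.app l.ξ).app ⊤).hom _ _)
      map_smul' := fun r a => (congrArg _ (map_smul (τ.1 l) r a)).trans (Scheme.Modules.Hom.app_smul (u.hom.app l.ξ) r _) },
    fun l' l φ h s => by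
      show N.obj.mapTop φ ((u.hom.app l.ξ).app ⊤ (τ.1 l s)) = (u.hom.app l'.ξ).app ⊤ (τ.1 l' (E.obj.mapTop φ s))
      rw [StMod.Mod.mapTop_app, τ.2 φ h]⟩
  map_add' a b := Subtype.ext (funext fun l => LinearMap.ext fun s => map_add ((u.hom.app l.ξ).app ⊤).hom _ _)
  map_smul' r a := Subtype.ext (funext fun l => LinearMap.ext fun s => Scheme.Modules.Hom.app_smul (u.hom.app l.ξ) _ _)

theorem homRes_homPost {N : StMod.QCoh 𝒳} (u : M ⟶ N) {y' y : 𝒴.obj} (e : y' ⟶ y) (τ : homFam f E M y) :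
    homRes e (homPost u y τ) = homPost u y' (homRes e τ) := rfl

/-- The family of a morphism over an object. -/
noncomputable def ofHom {y : 𝒴.obj}
    (ψ : ((StMod.comapQ (fibFst f y)).obj E).obj ⟶ ((StMod.comapQ (fibFst f y)).obj M).obj) : homFam f E M y :=
  ⟨fun l =>
    let o : (fibCat f y).obj := CostructuredArrow.mk l.α
    { toFun := fun s => (ψ.app o).app ⊤ s
      map_add' := fun a b => map_add ((ψ.app o).app ⊤).hom a b
      map_smul' := fun r a => Scheme.Modules.Hom.app_smul (ψ.app o) r a },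
    fun l' l φ h s => by
      let k : (CostructuredArrow.mk l'.α : (fibCat f y).obj) ⟶ CostructuredArrow.mk l.α := CostructuredArrow.homMk φ h
      exact (mapTop_comap (fibFst f y) M.obj k _).symm.trans
        ((StMod.Mod.mapTop_app ψ k s).trans (congrArg _ (mapTop_comap (fibFst f y) E.obj k s)))⟩

/-- The morphism of a family. -/
theorem exists_ofHom (hX : FibCat.IsFibGrpd 𝒳.p) {y : 𝒴.obj} (τ : homFam f E M y) :
    ∃ ψ : ((StMod.comapQ (fibFst f y)).obj E).obj ⟶ ((StMod.comapQ (fibFst f y)).obj M).obj, ofHom ψ = τ := by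
  obtain ⟨ψ, hψ⟩ := exists_hom_of_affine (isFibGrpd_fibCat hX f y) ((StMod.comapQ (fibFst f y)).obj E)
    ((StMod.comapQ (fibFst f y)).obj M) (fun o h => τ.1 ⟨o.left, o.hom, h⟩)
    (fun {o' o} h' h e t => (mapTop_comap (fibFst f y) M.obj e _).trans
      ((τ.2 (l' := ⟨o'.left, o'.hom, h'⟩) (l := ⟨o.left, o.hom, h⟩) e.left (CostructuredArrow.w e) t).trans
        (congrArg _ (mapTop_comap (fibFst f y) E.obj e t).symm)))
  refine ⟨ψ, Subtype.ext (funext fun l => LinearMap.ext fun s => ?_)⟩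
  exact hψ (CostructuredArrow.mk l.α) l.aff s

/-- Generators of the first module at the chart. -/
structure Pres {y : 𝒴.obj} (C : Chart (fibCat f y)) (E : StMod.QCoh 𝒳) where
  /-- number -/
  n : ℕ
  /-- generators -/
  e : Fin n → Γ(E.obj.obj C.x.left, ⊤)
  span : Submodule.span Γ(sch 𝒳 C.x.left, ⊤) (Set.range e) = ⊤

/-- The values of a family at the generators. -/
noncomputable def evGen {y : 𝒴.obj} {C : Chart (fibCat f y)} (P : Pres C E) :
    homFam f E M y →+ (Fin P.n → Γ(M.obj.obj C.x.left, ⊤)) where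
  toFun τ k := τ.1 ⟨C.x.left, C.x.hom, C.affx⟩ (P.e k)
  map_zero' := rfl
  map_add' _ _ := rfl

theorem evGen_injective (hX : FibCat.IsFibGrpd 𝒳.p) {y : 𝒴.obj} {C : Chart (fibCat f y)} (P : Pres C E) :
    Function.Injective (evGen (M := M) P) := by
  rw [injective_iff_map_eq_zero]
  intro τ h
  obtain ⟨ψ, rfl⟩ := exists_ofHom hX τ
  have : ψ = 0 := C.hom_eq_zero (isFibGrpd_fibCat hX f y) ψ fun s => by
    have hs : s ∈ Submodule.span Γ(sch 𝒳 C.x.left, ⊤) (Set.range P.e) := P.span ▸ Submodule.mem_top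
    induction hs using Submodule.span_induction with
    | mem z hz => obtain ⟨k, rfl⟩ := hz; exact congrFun h k
    | zero => exact map_zero ((ψ.app C.x).app ⊤).hom
    | add a b _ _ ha hb => exact (map_add ((ψ.app C.x).app ⊤).hom a b).trans ((congrArg₂ (· + ·) ha hb).trans (add_zero _))
    | smul r a _ ha => exact (Scheme.Modules.Hom.app_smul (ψ.app C.x) r a).trans ((congrArg (r • ·) ha).trans (smul_zero r))
  subst this
  rfl

theorem small_homFam (hX : FibCat.IsFibGrpd 𝒳.p) {y : 𝒴.obj} {C : Chart (fibCat f y)} (P : Pres C E) :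
    Small.{u} (homFam f E M y) :=
  small_of_injective (evGen_injective hX P)

end Groth.Agent.H14.GenFam
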