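import Groth.Agent.H14.GenFam.Psi

/-!
The comparison of the extensions along two maps to the chart.
-/

set_option autoImplicit false
set_option backward.isDefEq.respectTransparency false
set_option backward.isDefEq.respectTransparency.types false
set_option linter.style.haveILetI false

universe u

open CategoryTheory CategoryTheory.Limits AlgebraicGeometry Opposite TensorProduct
open StMod (sch bmap)
open Groth.Agent.Lib.AlgStack
open Groth.Agent.H14.ModDesc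

namespace Groth.Agent.H14.GenFam

variable {S : Scheme.{u}} {𝒳 : AlgSt.Cat S} {Φ : FlatFun 𝒳} {C : Chart2 𝒳}

variable (Φ) in
/-- The value through a map to the relation. -/
noncomputable def kv {d : 𝒳.obj} (c : d ⟶ C.w) {a' : d ⟶ C.x} (h : c ≫ C.p = a') (s : Φ.obj C.x) : MM Φ C a' :=
  psi C.flat c h (Φ.res C.q s)

theorem resM_kv {d' d : 𝒳.obj} (g : d' ⟶ d) (c : d ⟶ C.w) {a : d ⟶ C.x} {a' : d' ⟶ C.x} (h : c ≫ C.p = a)
    (hg : g ≫ a = a') (h' : (g ≫ c) ≫ C.p = a') (s : Φ.obj C.x) :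
    resM g hg (kv Φ c h s) = kv Φ (g ≫ c) h' s :=
  resM_psi _ g c h hg h' _

theorem kv_congr {d : 𝒳.obj} {c c' : d ⟶ C.w} (e : c = c') {a' : d ⟶ C.x} (h : c ≫ C.p = a')
    (h' : c' ≫ C.p = a') (s : Φ.obj C.x) : kv Φ c h s = kv Φ c' h' s := by
  subst e
  rfl

/-- The value does not depend on the map to the relation. -/
theorem kv_eq {d : 𝒳.obj} [hd : IsAffine (sch 𝒳 d)] (c c' : d ⟶ C.w) {a' : d ⟶ C.x} (h : c ≫ C.p = a')
    (h' : c' ≫ C.p = a') (hq : c ≫ C.q = c' ≫ C.q) (s : Φ.obj C.x) : kv Φ c h s = kv Φ c' h' s := by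
  obtain ⟨J, D, hD⟩ := C.overlap2 d hd c c' (h.trans h'.symm) hq
  refine eqM D fun j => ?_
  obtain ⟨c₂, hk, hk'⟩ := hD j
  rw [resM_kv (D.e j) c h rfl (by rw [Category.assoc, h]), resM_kv (D.e j) c' h' rfl (by rw [Category.assoc, h'])]
  have e₁ : (c₂ ≫ C.k) ≫ C.p = D.e j ≫ a' := by rw [hk, Category.assoc, h]
  have e₂ : (c₂ ≫ C.k') ≫ C.p = D.e j ≫ a' := by rw [hk', Category.assoc, h']
  rw [kv_congr hk.symm _ e₁, kv_congr hk'.symm _ e₂]
  have e₃ : c₂ ≫ (C.k ≫ C.p) = D.e j ≫ a' := by rw [← Category.assoc, e₁]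
  have k₁ := psi_comp (Φ := Φ) C.flat C.k (P₁ := C.k ≫ C.p) rfl C.flat2 c₂ e₃ e₁ (Φ.res C.q s)
  have k₂ := psi_comp (Φ := Φ) C.flat C.k' (P₁ := C.k ≫ C.p) C.hp.symm C.flat2 c₂ e₃ e₂ (Φ.res C.q s)
  refine k₁.symm.trans (Eq.trans ?_ k₂)
  rw [← Φ.res_comp, ← Φ.res_comp, C.hq]

variable (hfib : FibCat.IsFibGrpd 𝒳.p)

include hfib in
theorem exists_kappaVal {z : 𝒳.obj} [hz : IsAffine (sch 𝒳 z)] (a b : z ⟶ C.x) (s : Φ.obj C.x) :
    ∃ v : MM Φ C a, ∀ (d : 𝒳.obj) [IsAffine (sch 𝒳 d)] (e : d ⟶ z) (c : d ⟶ C.w) (hp : c ≫ C.p = e ≫ a),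
      c ≫ C.q = e ≫ b → resM e rfl v = kv Φ c hp s := by
  obtain ⟨J, _, D, hD⟩ := C.overlap z hz a b
  choose c hcp hcq using hD
  obtain ⟨v, hv⟩ := exists_glueM hfib D (fun j => kv Φ (c j) (hcp j) s) fun i j d hd σ τ a' h₁ h₂ e => by
    rw [resM_kv σ (c i) (hcp i) h₁ (by rw [Category.assoc, hcp, h₁]),
      resM_kv τ (c j) (hcp j) h₂ (by rw [Category.assoc, hcp, h₂])]
    exact kv_eq _ _ _ _ (by rw [Category.assoc, Category.assoc, hcq, hcq, ← Category.assoc, e, Category.assoc]) s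
  refine ⟨v, fun d _ e c' hp hq => ?_⟩
  obtain ⟨D', f, hf⟩ := D.exists_pullback hfib e
  refine eqM D' fun j => ?_
  have := D'.aff j
  have he : (D'.e j ≫ e) ≫ a = D'.e j ≫ e ≫ a := Category.assoc _ _ _
  have hfj : f j ≫ D.e j ≫ a = D'.e j ≫ e ≫ a := by rw [← Category.assoc, hf, Category.assoc]
  rw [← resM_comp (D'.e j) e rfl rfl he, resM_congr (hf j).symm he (by rw [Category.assoc, hfj]),
    resM_comp (f j) (D.e j) rfl hfj, hv, resM_kv (f j) (c j) (hcp j) hfj (by rw [Category.assoc, hcp, hfj]),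
    resM_kv (D'.e j) c' hp rfl (by rw [Category.assoc, hp])]
  exact kv_eq _ _ _ _ (by
    rw [Category.assoc, Category.assoc, hcq, hq, ← Category.assoc, hf, Category.assoc]) s

/-- The comparison value. -/
noncomputable def kappaVal {z : 𝒳.obj} [IsAffine (sch 𝒳 z)] (a b : z ⟶ C.x) (s : Φ.obj C.x) : MM Φ C a :=
  (exists_kappaVal hfib a b s).choose

theorem resM_kappaVal {z : 𝒳.obj} [IsAffine (sch 𝒳 z)] (a b : z ⟶ C.x) (s : Φ.obj C.x) {d : 𝒳.obj}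
    [IsAffine (sch 𝒳 d)] (e : d ⟶ z) (c : d ⟶ C.w) (hp : c ≫ C.p = e ≫ a) (hq : c ≫ C.q = e ≫ b) :
    resM e rfl (kappaVal hfib a b s) = kv Φ c hp s :=
  (exists_kappaVal hfib a b s).choose_spec d e c hp hq

theorem resM_kappaVal' {z : 𝒳.obj} [IsAffine (sch 𝒳 z)] (a b : z ⟶ C.x) (s : Φ.obj C.x) {d : 𝒳.obj}
    [IsAffine (sch 𝒳 d)] (e : d ⟶ z) {a' : d ⟶ C.x} (h : e ≫ a = a') (c : d ⟶ C.w) (hp : c ≫ C.p = a')
    (hq : c ≫ C.q = e ≫ b) : resM e h (kappaVal hfib a b s) = kv Φ c hp s := by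
  subst h
  exact resM_kappaVal hfib a b s e c hp hq

theorem kappaVal_unique {z : 𝒳.obj} [hz : IsAffine (sch 𝒳 z)] (a b : z ⟶ C.x) (s : Φ.obj C.x) {v : MM Φ C a}
    (hv : ∀ (d : 𝒳.obj) [IsAffine (sch 𝒳 d)] (e : d ⟶ z) (c : d ⟶ C.w) (hp : c ≫ C.p = e ≫ a),
      c ≫ C.q = e ≫ b → resM e rfl v = kv Φ c hp s) : v = kappaVal hfib a b s := by
  obtain ⟨J, _, D, hD⟩ := C.overlap z hz a b
  refine eqM D fun j => ?_
  have := D.aff j
  obtain ⟨c, hp, hq⟩ := hD j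
  rw [hv _ _ c hp hq, resM_kappaVal hfib a b s _ c hp hq]

theorem kappaVal_sl {z : 𝒳.obj} [IsAffine (sch 𝒳 z)] (a b : z ⟶ C.x) (r : Γ(sch 𝒳 C.x, ⊤)) (s : Φ.obj C.x) :
    kappaVal hfib a b (r • s) = (bmap 𝒳 b).appTop.hom r • kappaVal hfib a b s := by
  refine (kappaVal_unique hfib a b _ fun d _ e c hp hq => ?_).symm
  rw [isSL_resM e rfl, resM_kappaVal hfib a b s e c hp hq, kv, kv, Φ.sl, isSL_psi]
  refine congrArg (· • _) ?_
  rw [← RingHom.comp_apply, ← bmap_hom_comp, ← hq, bmap_hom_comp]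
  rfl

theorem exists_kappa {z : 𝒳.obj} [IsAffine (sch 𝒳 z)] (a b : z ⟶ C.x) :
    ∃ K : MM Φ C b →ₗ[Γ(sch 𝒳 z, ⊤)] MM Φ C a, ∀ s, K (unitM Φ C b s) = kappaVal hfib a b s :=
  bc_extend (isBC_mk (bmap 𝒳 b).appTop.hom (Φ.obj C.x))
    (AddMonoidHom.mk' (kappaVal hfib a b) fun s t => (kappaVal_unique hfib a b _ fun d _ e c hp hq => by
      rw [map_add, resM_kappaVal hfib a b s e c hp hq, resM_kappaVal hfib a b t e c hp hq, kv, kv, kv, map_add,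
        map_add]).symm)
    fun r s => kappaVal_sl hfib a b r s

/-- The comparison. -/
noncomputable def kappa {z : 𝒳.obj} [IsAffine (sch 𝒳 z)] (a b : z ⟶ C.x) :
    MM Φ C b →ₗ[Γ(sch 𝒳 z, ⊤)] MM Φ C a :=
  (exists_kappa hfib a b).choose

theorem kappa_unit {z : 𝒳.obj} [IsAffine (sch 𝒳 z)] (a b : z ⟶ C.x) (s : Φ.obj C.x) :
    kappa hfib a b (unitM Φ C b s) = kappaVal hfib a b s :=
  (exists_kappa hfib a b).choose_spec s

theorem resM_kappa {z' z : 𝒳.obj} [IsAffine (sch 𝒳 z')] [IsAffine (sch 𝒳 z)] (g : z' ⟶ z) {a b : z ⟶ C.x}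
    {a' b' : z' ⟶ C.x} (ha : g ≫ a = a') (hb : g ≫ b = b') (v : MM Φ C b) :
    resM g ha (kappa hfib a b v) = kappa hfib a' b' (resM g hb v) := by
  refine DFunLike.congr_fun (sl_ext (isBC_mk (bmap 𝒳 b).appTop.hom (Φ.obj C.x)) (ψ := (bmap 𝒳 g).appTop.hom)
    (F := (resM g ha).comp (kappa hfib a b).toAddMonoidHom) (G := (kappa hfib a' b').toAddMonoidHom.comp (resM g hb))
    (fun r m => ?_) (fun r m => ?_) fun s => ?_) v
  · show resM g ha (kappa hfib a b (r • m)) = _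
    rw [map_smul, isSL_resM g ha]
    rfl
  · show kappa hfib a' b' (resM g hb (r • m)) = _
    rw [isSL_resM g hb, map_smul]
    rfl
  · show resM g ha (kappa hfib a b (unitM Φ C b s)) = kappa hfib a' b' (resM g hb (unitM Φ C b s))
    rw [resM_unit, kappa_unit, kappa_unit]
    refine kappaVal_unique hfib a' b' s fun d _ e c hp hq => ?_
    have h₃ : (e ≫ g) ≫ a = e ≫ a' := by rw [Category.assoc, ha]
    rw [← resM_comp e g ha rfl h₃]
    exact resM_kappaVal' hfib a b s (e ≫ g) h₃ c hp (by rw [hq, Category.assoc, hb])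

/-- The comparison through an object over the chart with flat first map. -/
theorem kappa_spec {d₀ : 𝒳.obj} [hd₀ : IsAffine (sch 𝒳 d₀)] {P Q : d₀ ⟶ C.x} (hP : Flat (bmap 𝒳 P)) {d : 𝒳.obj}
    [IsAffine (sch 𝒳 d)] (f : d ⟶ d₀) {a b : d ⟶ C.x} (ha : f ≫ P = a) (hb : f ≫ Q = b) (s : Φ.obj C.x) :
    kappa hfib a b (unitM Φ C b s) = psi hP f ha (Φ.res Q s) := by
  obtain ⟨J, _, D, hD⟩ := C.overlap d₀ hd₀ P Q
  obtain ⟨D', f', hf'⟩ := D.exists_pullback hfib f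
  rw [kappa_unit]
  refine eqM D' fun j => ?_
  have := D.aff j
  have := D'.aff j
  obtain ⟨c, hcp, hcq⟩ := hD j
  have hP₁ : Flat (bmap 𝒳 (D.e j ≫ P)) := by
    have := D.flat j
    rw [StMod.bmap_comp]
    exact MorphismProperty.comp_mem @Flat _ _ inferInstance hP
  have h₁ : f' j ≫ D.e j ≫ P = D'.e j ≫ a := by rw [← Category.assoc, hf', Category.assoc, ha]
  have h₂ : (f' j ≫ c) ≫ C.p = D'.e j ≫ a := by rw [Category.assoc, hcp, h₁]
  rw [resM_kappaVal hfib a b s (D'.e j) (f' j ≫ c) h₂ (by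
      rw [Category.assoc, hcq, ← Category.assoc, hf', Category.assoc, hb]),
    resM_psi hP (D'.e j) f ha rfl (by rw [Category.assoc, ha])]
  have k₁ := psi_comp (Φ := Φ) C.flat c hcp hP₁ (f' j) h₁ h₂ (Φ.res C.q s)
  have k₂ := psi_comp (Φ := Φ) hP (D.e j) rfl hP₁ (f' j) h₁ (by rw [Category.assoc, h₁]) (Φ.res Q s)
  refine k₁.symm.trans (Eq.trans ?_ (k₂.trans (psi_congr hP (hf' j) _ _ _)))
  rw [← Φ.res_comp, ← Φ.res_comp, hcq]

theorem kappa_self {z : 𝒳.obj} [IsAffine (sch 𝒳 z)] (a : z ⟶ C.x) (v : MM Φ C a) : kappa hfib a a v = v := by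
  refine LinearMap.congr_fun (bc_ext (isBC_mk (bmap 𝒳 a).appTop.hom (Φ.obj C.x)) (G := LinearMap.id) (s := Set.univ)
    Submodule.span_univ fun s _ => ?_) v
  have hid : Flat (bmap 𝒳 (𝟙 C.x)) := by
    rw [StMod.bmap_id]
    infer_instance
  show kappa hfib a a (unitM Φ C a s) = unitM Φ C a s
  rw [kappa_spec hfib hid a (Category.comp_id a) (Category.comp_id a), psi_res]

theorem kappa_trans {z : 𝒳.obj} [hz : IsAffine (sch 𝒳 z)] (a b c : z ⟶ C.x) (v : MM Φ C c) :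
    kappa hfib a b (kappa hfib b c v) = kappa hfib a c v := by
  refine LinearMap.congr_fun (bc_ext (isBC_mk (bmap 𝒳 c).appTop.hom (Φ.obj C.x))
    (F := (kappa hfib a b).comp (kappa hfib b c)) (s := Set.univ) Submodule.span_univ fun s _ => ?_) v
  show kappa hfib a b (kappa hfib b c (unitM Φ C c s)) = kappa hfib a c (unitM Φ C c s)
  obtain ⟨J, _, D, hD⟩ := C.overlap z hz a b
  choose c₁ hp₁ hq₁ using hD
  have hE : ∀ j, ∃ (K : Type u) (_ : Finite K) (E : Cover (D.E j) K), ∀ i, ∃ c' : E.E i ⟶ C.w,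
      c' ≫ C.p = E.e i ≫ D.e j ≫ b ∧ c' ≫ C.q = E.e i ≫ D.e j ≫ c := fun j => C.overlap _ (D.aff j) _ _
  choose K _ E hE using hE
  choose c₂ hp₂ hq₂ using hE
  refine eqM (D.bind E) fun ji => ?_
  obtain ⟨j, i⟩ := ji
  have := (E j).aff i
  show resM ((E j).e i ≫ D.e j) rfl _ = resM ((E j).e i ≫ D.e j) rfl _
  let d := (E j).E i
  let e : d ⟶ z := (E j).e i ≫ D.e j
  let f₁ : d ⟶ C.w := (E j).e i ≫ c₁ j
  let f₂ : d ⟶ C.w := c₂ j i
  -- the composite of the two relations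
  obtain ⟨d3, π₁, iso, hπ₁⟩ := exists_obj hfib C.w (pullback.fst (bmap 𝒳 C.q) (bmap 𝒳 C.p))
  have : IsAffine (sch 𝒳 d3) := IsAffine.of_isIso iso.hom
  obtain ⟨π₂, hπ₂b, hπ₂⟩ := exists_hom_over hfib (π₁ ≫ C.q) C.p
    (iso.hom ≫ pullback.snd (bmap 𝒳 C.q) (bmap 𝒳 C.p)) (by
      rw [StMod.bmap_comp, hπ₁, Category.assoc, Category.assoc, pullback.condition])
  have hP3 : Flat (bmap 𝒳 (π₁ ≫ C.p)) := by
    have := C.flat
    rw [StMod.bmap_comp, hπ₁]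
    infer_instance
  have h12 : f₁ ≫ C.q = f₂ ≫ C.p := by
    show ((E j).e i ≫ c₁ j) ≫ C.q = c₂ j i ≫ C.p
    rw [Category.assoc, hq₁, hp₂]
  obtain ⟨f, hfb, hf₁⟩ := exists_hom_over hfib f₁ π₁
    (pullback.lift (bmap 𝒳 f₁) (bmap 𝒳 f₂) (by rw [← StMod.bmap_comp, ← StMod.bmap_comp, h12]) ≫ iso.inv) (by
      rw [hπ₁, Category.assoc, Iso.inv_hom_id_assoc, pullback.lift_fst])
  have hf₂ : f ≫ π₂ = f₂ := by
    refine BasedBasic.hom_eq_of_comp_eq hfib C.p (Over.OverMorphism.ext ?_) ?_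
    · show bmap 𝒳 (f ≫ π₂) = bmap 𝒳 f₂
      rw [StMod.bmap_comp, hfb, hπ₂b, Category.assoc, Iso.inv_hom_id_assoc, pullback.lift_snd]
    · rw [Category.assoc, hπ₂, ← Category.assoc, hf₁, h12]
  have ha : f ≫ (π₁ ≫ C.p) = e ≫ a := by
    rw [← Category.assoc, hf₁]
    show ((E j).e i ≫ c₁ j) ≫ C.p = ((E j).e i ≫ D.e j) ≫ a
    rw [Category.assoc, hp₁, Category.assoc]
  have hb : f₂ ≫ C.p = e ≫ b := by
    show c₂ j i ≫ C.p = ((E j).e i ≫ D.e j) ≫ b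
    rw [hp₂, Category.assoc]
  have hc : f₂ ≫ C.q = e ≫ c := by
    show c₂ j i ≫ C.q = ((E j).e i ≫ D.e j) ≫ c
    rw [hq₂, Category.assoc]
  rw [resM_kappa hfib e rfl rfl, resM_kappa hfib e rfl rfl, resM_kappa hfib e rfl rfl, resM_unit,
    kappa_spec hfib hP3 (Q := π₂ ≫ C.q) f ha (by rw [← Category.assoc, hf₂, hc]),
    kappa_spec hfib C.flat f₂ hb hc, Φ.res_comp]
  generalize Φ.res C.q s = t
  refine DFunLike.congr_fun (sl_ext (Φ.bc C.p C.flat)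
    (F := (kappa hfib (e ≫ a) (e ≫ b)).toAddMonoidHom.comp (psi C.flat f₂ hb))
    (G := (psi hP3 f ha).comp (Φ.res π₂)) (ψ := (bmap 𝒳 f₂).appTop.hom) (fun r m => ?_) (fun r m => ?_) fun m => ?_) t
  · show kappa hfib _ _ (psi C.flat f₂ hb (r • m)) = _
    rw [isSL_psi C.flat f₂ hb, map_smul]
    rfl
  · show psi hP3 f ha (Φ.res π₂ (r • m)) = _
    rw [Φ.sl π₂, isSL_psi hP3 f ha, ← RingHom.comp_apply, ← bmap_hom_comp, hf₂]
    rfl
  · show kappa hfib _ _ (psi C.flat f₂ hb (Φ.res C.p m)) = psi hP3 f ha (Φ.res π₂ (Φ.res C.p m))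
    rw [psi_res, ← Φ.res_comp, hπ₂, kappa_spec hfib hP3 (Q := π₁ ≫ C.q) f ha (by
      rw [← Category.assoc, hf₁, h12, hb])]

theorem bijective_kappa {z : 𝒳.obj} [IsAffine (sch 𝒳 z)] (a b : z ⟶ C.x) :
    Function.Bijective (kappa (Φ := Φ) hfib a b) :=
  Function.bijective_iff_has_inverse.2 ⟨kappa hfib b a, fun v => (kappa_trans hfib b a b v).trans (kappa_self hfib b v),
    fun v => (kappa_trans hfib a b a v).trans (kappa_self hfib a v)⟩

end Groth.Agent.H14.GenFam
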