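import Groth.Agent.H14.Chart.QC2
import Groth.Agent.H14.GenFam.Obj

/-!
Local lifts of objects to charts.
-/

set_option autoImplicit false
set_option backward.isDefEq.respectTransparency false
set_option backward.isDefEq.respectTransparency.types false
set_option linter.style.haveILetI false

universe u

open CategoryTheory CategoryTheory.Limits AlgebraicGeometry
open StMod (sch bmap)
open Groth.Agent.Lib.AlgStack
open FibCat (IsFibGrpd fp fpFst fpSnd overCat)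
open AlgSt (overMap RepByAlgSpWith)
open AlgSp (LocP)

namespace Groth.Agent.H14.GenFam

variable {S : Scheme.{u}} {𝒳 : AlgSt.Cat S}

theorem flat_lfp_of_smooth {X Y : Scheme.{u}} (f : X ⟶ Y) (h : Smooth f) :
    (@Flat ⊓ @LocallyOfFinitePresentation : MorphismProperty Scheme.{u}) f :=
  have := h
  ⟨inferInstance, inferInstance⟩

theorem rep_mono_flat {U : Over S} {x : overCat U ⥤ᵇ 𝒳} (h : RepByAlgSpWith (LocP @Smooth) x) :
    RepByAlgSpWith (LocP (@Flat ⊓ @LocallyOfFinitePresentation)) x :=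
  Rep.repByAlgSpWith_mono h fun _ _ _ _ _ hh _ _ a b r ha hb e => flat_lfp_of_smooth _ (hh a b r ha hb e)

/-- The point of an object at a point of its scheme. -/
noncomputable abbrev ptOf (hfib : IsFibGrpd 𝒳.p) (η : 𝒳.obj) (v : sch 𝒳 η) : AlgSt.Points 𝒳 :=
  AlgSt.Points.ofChart (Yoneda.fromObj hfib (rfl : 𝒳.p.obj η = 𝒳.p.obj η)) v

/-- An object near a point lifts, after a base change with the given property, to a chart through that point. -/
theorem exists_lift_at (hfib : IsFibGrpd 𝒳.p) {Q : MorphismProperty Scheme.{u}} [Q.IsStableUnderComposition]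
    (hQ : ∀ {X Y : Scheme.{u}} (f : X ⟶ Y), IsOpenImmersion f → Q f) {V : Over S} {y : overCat V ⥤ᵇ 𝒳}
    (hy : RepByAlgSpWith (LocP Q) y) (η : 𝒳.obj) (v : sch 𝒳 η) (t : V.left)
    (e : ptOf hfib η v = AlgSt.Points.ofChart y t) :
    ∃ (ω : 𝒳.obj) (c : ω ⟶ η) (_ : ω ⟶ y.obj (Over.mk (𝟙 V))),
      IsAffine (sch 𝒳 ω) ∧ Q (bmap 𝒳 c) ∧ v ∈ Set.range (bmap 𝒳 c) := by
  obtain ⟨T, s, a, hs, ⟨β⟩, hT⟩ := H14.Chart.Points.exists_chart_square y (Yoneda.fromObj hfib rfl) hfib hy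
  obtain ⟨τ, hτ, -⟩ := hT v t e
  obtain ⟨ι, hι⟩ := Yoneda.exists_fromObj_iso hfib (rfl : 𝒳.p.obj η = 𝒳.p.obj η)
  let os : Over (𝒳.p.obj η) := Over.mk (𝟙 T ≫ s)
  let oa : Over V := Over.mk (𝟙 T ≫ a)
  let i : y.obj oa ⟶ (Yoneda.fromObj hfib (rfl : 𝒳.p.obj η = 𝒳.p.obj η)).obj os :=
    (BasedBasic.appIso β (Over.mk (𝟙 T))).inv
  let c₀ : y.obj oa ⟶ η := i ≫ (Yoneda.fromObj hfib rfl).map (Yoneda.toId os) ≫ ι.hom
  have hd : 𝒳.p.obj (y.obj oa) = T := y.w_obj oa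
  have hi : 𝒳.p.IsHomLift (𝟙 T) i := by
    haveI : 𝒳.p.IsHomLift (𝟙 T) (BasedBasic.appIso β (Over.mk (𝟙 T))).hom :=
      BasedBasic.appIso_isHomLift β (Over.mk (𝟙 T))
    exact IsHomLift.lift_id_inv 𝒳.p T (BasedBasic.appIso β (Over.mk (𝟙 T)))
  haveI : 𝒳.p.IsHomLift os.hom ((Yoneda.fromObj hfib (rfl : 𝒳.p.obj η = 𝒳.p.obj η)).map (Yoneda.toId os)) :=
    Yoneda.map_toId_isHomLift _ os
  have hc₀ : bmap 𝒳 c₀ = (eqToHom hd).left ≫ s.left := by
    have h1 := IsHomLift.fac' 𝒳.p (𝟙 T) i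
    have h2 := IsHomLift.fac' 𝒳.p os.hom ((Yoneda.fromObj hfib (rfl : 𝒳.p.obj η = 𝒳.p.obj η)).map (Yoneda.toId os))
    have h3 := IsHomLift.fac' 𝒳.p (𝟙 (𝒳.p.obj η)) ι.hom
    have : 𝒳.p.map c₀ = eqToHom hd ≫ s := by
      simp only [c₀, Functor.map_comp, h1, h2, h3]
      simp [os]
    exact congrArg CommaMorphism.left this
  obtain ⟨O, hO, hτO, -⟩ := exists_isAffineOpen_mem_and_subset (X := sch 𝒳 (y.obj oa))
    (x := (eqToHom hd.symm).left τ) (U := ⊤) trivial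
  obtain ⟨ω, φ, κ, hφ⟩ := exists_obj hfib (y.obj oa) O.ι
  have : IsAffine O.toScheme := hO
  refine ⟨ω, φ ≫ c₀, φ ≫ y.map (Yoneda.toId oa), IsAffine.of_isIso κ.hom, ?_, ?_⟩
  · rw [StMod.bmap_comp, hc₀, hφ]
    haveI : IsIso (eqToHom hd).left := inferInstanceAs (IsIso ((Over.forget S).map (eqToHom hd)))
    rw [Category.assoc]
    exact Q.comp_mem _ _ (hQ _ inferInstance) (Q.comp_mem _ _ (hQ _ inferInstance)
      (Q.comp_mem _ _ (hQ _ inferInstance) hs))
  · refine ⟨κ.inv ⟨_, hτO⟩, ?_⟩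
    rw [StMod.bmap_comp, hc₀, hφ, ← Scheme.Hom.comp_apply]
    simp only [Category.assoc, Iso.inv_hom_id_assoc]
    show s.left ((eqToHom hd).left ((eqToHom hd.symm).left τ)) = v
    rw [← Scheme.Hom.comp_apply (eqToHom hd.symm).left, ← Over.comp_left, eqToHom_trans, eqToHom_refl]
    exact hτ

/-- An affine object has a finite flat cover by objects mapping to a smooth surjective chart. -/
theorem exists_cover_chart (hfib : IsFibGrpd 𝒳.p) {U : Over S} {x : overCat U ⥤ᵇ 𝒳}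
    (hx : RepByAlgSpWith (LocP @Smooth) x) (hxs : RepByAlgSpWith AlgSp.IsSurjectiveMor x) (o : 𝒳.obj)
    [IsAffine (sch 𝒳 o)] :
    ∃ (n : ℕ) (C : Cover o (Fin n)), ∀ j, Nonempty (C.E j ⟶ x.obj (Over.mk (𝟙 U))) := by
  choose t ht using fun v => H14.Chart.Points.surjective_ofChart hfib hxs (ptOf hfib o v)
  have hQ : ∀ {X Y : Scheme.{u}} (f : X ⟶ Y), IsOpenImmersion f →
      (@Flat ⊓ @LocallyOfFinitePresentation : MorphismProperty Scheme.{u}) f := fun f h => by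
    have := h
    exact ⟨inferInstance, inferInstance⟩
  choose ω c c' hω hc hr using fun v => exists_lift_at hfib hQ (rep_mono_flat hx) o v (t v) (ht v).symm
  obtain ⟨F, hF⟩ := isCompact_univ.elim_finite_subcover (fun v : sch 𝒳 o => Set.range (bmap 𝒳 (c v)))
    (fun v => by
      have : Flat (bmap 𝒳 (c v)) := (hc v).1
      have : LocallyOfFinitePresentation (bmap 𝒳 (c v)) := (hc v).2
      exact (bmap 𝒳 (c v)).isOpenMap.isOpen_range)
    (fun v _ => Set.mem_iUnion.2 ⟨v, hr v⟩)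
  refine ⟨Fintype.card F,
    { E := fun j => ω ((Fintype.equivFin F).symm j).1
      aff := fun j => hω _
      e := fun j => c _
      flat := fun j => (hc _).1
      surj := fun v => by
        obtain ⟨i, hi, hv⟩ := Set.mem_iUnion₂.1 (hF (Set.mem_univ v))
        refine ⟨Fintype.equivFin F ⟨i, hi⟩, ?_⟩
        rw [Equiv.symm_apply_apply]
        exact hv }, fun j => ⟨c' _⟩⟩

end Groth.Agent.H14.GenFam
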