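import Groth.Agent.H14.GenFam.LocQLift
import Groth.Agent.H14.GerbeDesc.Stack

/-!
Finite local freeness descends along flat finitely presented coverings of the target.
-/

set_option autoImplicit false
set_option backward.isDefEq.respectTransparency false
set_option backward.isDefEq.respectTransparency.types false
set_option linter.style.haveILetI false

universe u

open CategoryTheory CategoryTheory.Limits AlgebraicGeometry Opposite
open StMod (sch bmap)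
open Groth.Agent.Lib Groth.Agent.Lib.AlgStack
open FibCat (IsFibGrpd fp fpFst overCat)
open AlgSt (IsAlgStack)
open AlgSp (LocP)

namespace Groth.Agent.H14.GenFam

variable {S : Scheme.{u}} {𝒳 𝒴 : AlgSt.Cat S}

theorem isFinLocFree_of_fppf_target (hX : IsFibGrpd 𝒳.p) (hY : IsFibGrpd 𝒴.p) (f : 𝒳 ⥤ᵇ 𝒴) {A : Type u}
    (𝒵 : A → AlgSt.Cat S) (h𝒵 : ∀ a, IsAlgStack Scheme.fppfPrecoverage (𝒵 a)) (u : ∀ a, 𝒵 a ⥤ᵇ 𝒴)
    (hfl : ∀ a, AlgSt.LocQ (LocP (@Flat ⊓ @LocallyOfFinitePresentation)) (u a))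
    (hsurj : ∀ p : AlgSt.Points 𝒴, ∃ (a : A) (q : AlgSt.Points (𝒵 a)), AlgSt.Points.map (u a) q = p)
    (E : StMod.QCoh 𝒳)
    (h : ∀ a, ((StMod.comapQ (fpFst f (u a))).obj E).obj.IsLocFree ∧ ((StMod.comapQ (fpFst f (u a))).obj E).obj.IsFinType)
    (ξ : 𝒳.obj) : FlatMod.IsFinLocFree (E.obj.obj ξ) := by
  haveI : (E.obj.obj ξ).IsQuasicoherent := E.property.2 ξ
  refine GerbeDesc.isFinLocFree_of_fppfWhere fun z => ?_
  obtain ⟨a, q, hq⟩ := hsurj (ptOf hY (f.obj ξ) (eqToHom (StMod.sch_obj_eq f ξ).symm z))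
  have hQ : ∀ {X Y : Scheme.{u}} (g : X ⟶ Y), IsOpenImmersion g →
      (@Flat ⊓ @LocallyOfFinitePresentation : MorphismProperty Scheme.{u}) g := fun g hg => by
    have := hg
    exact ⟨inferInstance, inferInstance⟩
  obtain ⟨ω, c, η', c', -, -, ⟨hcf, hcp⟩, hiso, hv⟩ := exists_lift_locQ hY (h𝒵 a) (u a) flat_lfp_etaleLocalST hQ
    flat_lfp_of_smooth (hfl a) (f.obj ξ) _ q hq.symm
  haveI := hiso
  obtain ⟨w, hw⟩ := hv
  let g : sch (𝒵 a) η' ⟶ sch 𝒳 ξ :=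
    eqToHom (StMod.sch_obj_eq (u a) η').symm ≫ inv (bmap 𝒴 c') ≫ bmap 𝒴 c ≫ eqToHom (StMod.sch_obj_eq f ξ)
  haveI : IsIso (𝒴.p.map c') :=
    haveI : IsIso ((Over.forget S).map (𝒴.p.map c')) := hiso
    isIso_of_reflects_iso (𝒴.p.map c') (Over.forget S)
  haveI : IsIso c' := BasedBasic.isIso_of_base_isIso hY c'
  let k : (u a).obj η' ⟶ f.obj ξ := inv c' ≫ c
  have hk : bmap 𝒴 k = inv (bmap 𝒴 c') ≫ bmap 𝒴 c := by
    have e0 : bmap 𝒴 (inv c') = inv (bmap 𝒴 c') := by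
      apply IsIso.eq_inv_of_hom_inv_id
      rw [← StMod.bmap_comp, IsIso.hom_inv_id, StMod.bmap_id]
    rw [StMod.bmap_comp, e0]
  obtain ⟨ξ', φ, κ, hφ⟩ := exists_obj hX ξ g
  -- the object of the fibre product
  let e₀ : 𝒳.p.obj ξ' ⟶ (𝒵 a).p.obj η' := Over.homMk κ.hom (by
    have h1 : bmap 𝒳 φ ≫ (𝒳.p.obj ξ).hom = (𝒳.p.obj ξ').hom := Over.w (𝒳.p.map φ)
    rw [← h1, hφ, Category.assoc]
    refine congrArg (κ.hom ≫ ·) ?_
    have hgS : g ≫ (𝒳.p.obj ξ).hom = ((𝒵 a).p.obj η').hom := by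
      let G : (𝒵 a).p.obj η' ⟶ 𝒳.p.obj ξ := eqToHom ((u a).w_obj η').symm ≫ 𝒴.p.map k ≫ eqToHom (f.w_obj ξ)
      have hG : G.left = g := by
        simp only [G, Over.comp_left, Over.eqToHom_left]
        rw [show (𝒴.p.map k).left = bmap 𝒴 k from rfl, hk]
        simp [g]

      rw [← hG]
      exact Over.w G
    exact hgS.symm)
  obtain ⟨η'', a'', ha''⟩ := (h𝒵 a).isStack.1.exists_lift e₀
  have hz : (𝒵 a).p.obj η'' = 𝒳.p.obj ξ' := IsHomLift.domain_eq (𝒵 a).p e₀ a''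
  haveI : 𝒴.p.IsHomLift e₀ ((u a).map a'') := inferInstance
  obtain ⟨i, hi, -⟩ := exists_isoOver hY (f.map φ) ((u a).map a'' ≫ k)
    ((f.w_obj ξ').trans (hz.symm.trans ((u a).w_obj η'').symm)) (by
      apply Over.OverMorphism.ext
      have h1 : (𝒴.p.map ((u a).map a'')).left =
          (eqToHom (((u a).w_obj η'').trans hz)).left ≫ κ.hom ≫ (eqToHom ((u a).w_obj η').symm).left :=
        congrArg CommaMorphism.left (IsHomLift.fac' 𝒴.p e₀ ((u a).map a''))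
      show _ = bmap 𝒴 (f.map φ)
      rw [bmap_iso, hφ]
      simp only [Functor.map_comp, Over.comp_left, h1, Over.eqToHom_left]
      rw [show (𝒴.p.map k).left = bmap 𝒴 k from rfl, hk]
      simp [g])
  have hi' : 𝒴.p.IsHomLift (𝟙 (𝒳.p.obj ξ')) i.hom := by
    rw [← f.w_obj ξ']
    exact hi
  let P : (fp f (u a)).obj := FibProd.objMk ξ' η'' i hi'
  have hP : FlatMod.IsFinLocFree (E.obj.obj ξ') :=
    @GerbeDesc.isFinLocFree_of_isLocallyFree _ _ ((h a).1 P) ((h a).2 P)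
  refine ⟨_, bmap 𝒳 φ, ?_, ?_, ?_, ?_⟩
  · rw [hφ]
    infer_instance
  · rw [hφ]
    infer_instance
  · refine ⟨κ.inv ((bmap 𝒴 c' ≫ eqToHom (StMod.sch_obj_eq (u a) η')) w), ?_⟩
    rw [hφ, ← Scheme.Hom.comp_apply, Iso.inv_hom_id_assoc, ← Scheme.Hom.comp_apply]
    simp only [g, Category.assoc, eqToHom_trans_assoc, eqToHom_refl, Category.id_comp, IsIso.hom_inv_id_assoc]
    rw [Scheme.Hom.comp_apply, hw, ← Scheme.Hom.comp_apply, eqToHom_trans, eqToHom_refl]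
    rfl
  · have := E.property.1 φ (g := bmap 𝒳 φ) rfl
    exact GerbeDesc.isFinLocFree_of_iso (asIso (((Scheme.Modules.pullbackPushforwardAdjunction (bmap 𝒳 φ)).homEquiv
      (E.obj.obj ξ) (E.obj.obj ξ')).symm (E.obj.map φ rfl))).symm hP

end Groth.Agent.H14.GenFam
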