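import Groth.Agent.H14.GenFam.Local

/-!
Local lifts of objects along morphisms of stacks with a property read on charts.
-/

set_option autoImplicit false
set_option backward.isDefEq.respectTransparency false
set_option backward.isDefEq.respectTransparency.types false
set_option linter.style.haveILetI false

universe u

open CategoryTheory CategoryTheory.Limits AlgebraicGeometry Opposite
open StMod (sch bmap)
open Groth.Agent.Lib Groth.Agent.Lib.AlgStack
open FibCat (IsFibGrpd overCat)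
open AlgSt (overMap RepByAlgSpWith IsAlgStack)
open AlgSp (LocP)

namespace Groth.Agent.H14.GenFam

variable {S : Scheme.{u}} {𝒴 𝒵 : AlgSt.Cat S}

/-- An object near a point in the image lifts to an affine object after a base change with the property. -/
theorem exists_lift_locQ (hY : IsFibGrpd 𝒴.p) (h𝒵 : IsAlgStack Scheme.fppfPrecoverage 𝒵) (u : 𝒵 ⥤ᵇ 𝒴)
    {Q : MorphismProperty Scheme.{u}} [Q.IsStableUnderComposition] (hQst : SourceDescent.Scheme.EtaleLocalST Q)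
    (hQ : ∀ {X Y : Scheme.{u}} (f : X ⟶ Y), IsOpenImmersion f → Q f)
    (hQsm : ∀ {X Y : Scheme.{u}} (f : X ⟶ Y), Smooth f → Q f) (hu : AlgSt.LocQ (LocP Q) u) (η : 𝒴.obj)
    (v : sch 𝒴 η) (q : AlgSt.Points 𝒵) (e : ptOf hY η v = AlgSt.Points.map u q) :
    ∃ (ω : 𝒴.obj) (c : ω ⟶ η) (η' : 𝒵.obj) (c' : ω ⟶ u.obj η'),
      IsAffine (sch 𝒴 ω) ∧ IsAffine (sch 𝒵 η') ∧ Q (bmap 𝒴 c) ∧ IsIso (bmap 𝒴 c') ∧
        v ∈ Set.range (bmap 𝒴 c) := by
  obtain ⟨U, V, x, y, h, α, -, hxs, hy, hh⟩ := hu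
  have hy' : RepByAlgSpWith (LocP Q) y :=
    Rep.repByAlgSpWith_mono hy fun _ _ _ _ _ hh' _ _ a b r ha hb e => hQsm _ (hh' a b r ha hb e)
  have hcomp : RepByAlgSpWith (LocP Q) (BasedFunctor.comp (overMap h) y) :=
    IsAlgFp.comp_locP hQst (Yoneda.isFibGrpd_overCat _) (Yoneda.isFibGrpd_overCat _)
      (H14.Chart.Basic.rep_overMap_locP h hQst (AlgSp.locP_yon_map hh)) hy'
  obtain ⟨t, rfl⟩ := H14.Chart.Points.surjective_ofChart h𝒵.isStack.1 hxs q
  rw [H14.Chart.Points.map_ofChart, H14.Chart.Points.ofChart_iso α] at e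
  obtain ⟨ω, c, d, hω, hc, hv⟩ := exists_lift_at hY hQ hcomp η v t e
  let x₁ := x.obj (Over.mk (𝟙 U))
  let m : ω ⟶ u.obj x₁ := d ≫ (BasedBasic.appIso α (Over.mk (𝟙 U))).inv
  obtain ⟨x₂, φ, κ, hφ⟩ := exists_obj h𝒵.isStack.1 x₁ (bmap 𝒴 m ≫ eqToHom (StMod.sch_obj_eq u x₁))
  obtain ⟨c', hc', -⟩ := exists_hom_over hY m (u.map φ) (κ.inv ≫ eqToHom (StMod.sch_obj_eq u x₂).symm) (by
    rw [bmap_iso, hφ]
    simp)
  refine ⟨ω, c, x₂, c', hω, IsAffine.of_isIso κ.hom, hc, ?_, hv⟩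
  rw [hc']
  infer_instance

theorem flat_lfp_etaleLocalST :
    SourceDescent.Scheme.EtaleLocalST (@Flat ⊓ @LocallyOfFinitePresentation : MorphismProperty Scheme.{u}) :=
  SourceDescent.Scheme.inf SourceDescent.Scheme.flat SourceDescent.Scheme.locallyOfFinitePresentation

end Groth.Agent.H14.GenFam
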