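import Groth.Agent.H14.GenFam.ChartFP
import Groth.Agent.H14.GerbeDesc.Sheaf

/-!
Generating families are local for flat families on the target.
-/

set_option autoImplicit false
set_option backward.isDefEq.respectTransparency false
set_option backward.isDefEq.respectTransparency.types false
set_option linter.style.haveILetI false

universe u v

open CategoryTheory CategoryTheory.Limits AlgebraicGeometry Opposite
open StMod (sch bmap fibCat fibFst)
open Groth.Agent.Lib Groth.Agent.Lib.AlgStack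
open Groth.Agent.H14.ModDesc
open Groth.Agent.H14.AffPush
open FibCat (IsFibGrpd IsEquivOver fp fpFst fpSnd overCat)
open AlgSt (overMap RepByAlgSpWith IsAlgStack)
open AlgSp (LocP)

namespace Groth.Agent.H14.GenFam

variable {S : Scheme.{u}}

theorem IsEqv.comp {𝒜 ℬ 𝒞 : AlgSt.Cat S} {F : 𝒜 ⥤ᵇ ℬ} {G : ℬ ⥤ᵇ 𝒞} (hF : IsEqv F) (hG : IsEqv G) :
    IsEqv (BasedFunctor.comp F G) where
  fibX := hF.fibX
  fibY := hG.fibY
  full := by
    have := hF.full
    have := hG.full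
    exact inferInstanceAs (F.toFunctor ⋙ G.toFunctor).Full
  faithful := by
    have := hF.faithful
    have := hG.faithful
    exact inferInstanceAs (F.toFunctor ⋙ G.toFunctor).Faithful
  obj z := by
    obtain ⟨y, e, he⟩ := hG.obj z
    obtain ⟨x, e', he'⟩ := hF.obj y
    have hy : ℬ.p.obj y = 𝒞.p.obj z :=
      (G.w_obj y).symm.trans (IsHomLift.domain_eq 𝒞.p (𝟙 (𝒞.p.obj z)) e.hom)
    refine ⟨x, G.toFunctor.mapIso e' ≪≫ e, ?_⟩
    have := BasedFunctor.preserves_isHomLift G (𝟙 (ℬ.p.obj y)) e'.hom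
    rw [hy] at this
    show 𝒞.p.IsHomLift _ (G.map e'.hom ≫ e.hom)
    infer_instance

theorem isEqv_of_isEquivOver {𝒜 ℬ : AlgSt.Cat S} {F : 𝒜 ⥤ᵇ ℬ} (h : IsEquivOver F) (hA : IsFibGrpd 𝒜.p)
    (hB : IsFibGrpd ℬ.p) : IsEqv F :=
  ⟨hA, hB, BasedBasic.IsEquivOver.full h, BasedBasic.IsEquivOver.faithful h, BasedBasic.IsEquivOver.exists_iso h⟩

theorem bmap_iso {𝒜 ℬ : AlgSt.Cat S} (G : 𝒜 ⥤ᵇ ℬ) {a b : 𝒜.obj} (φ : a ⟶ b) :
    bmap ℬ (G.map φ) = eqToHom (StMod.sch_obj_eq G a) ≫ bmap 𝒜 φ ≫ eqToHom (StMod.sch_obj_eq G b).symm := by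
  have h := StMod.bmap_map_comm G φ rfl
  rw [← Category.assoc, ← h, Category.assoc, eqToHom_trans, eqToHom_refl, Category.comp_id]

theorem IsEqv.exists_affPre {𝒜 ℬ : AlgSt.Cat S} {G : 𝒜 ⥤ᵇ ℬ} (hG : IsEqv G) (o : ℬ.obj)
    (h : IsAffine (sch ℬ o)) :
    ∃ (P : 𝒜.obj) (_ : IsAffine (sch 𝒜 P)) (e : G.obj P ≅ o), IsIso (bmap ℬ e.hom) := by
  obtain ⟨P, e, he⟩ := hG.obj o
  have e0 : ℬ.p.obj (G.obj P) = ℬ.p.obj o := IsHomLift.domain_eq ℬ.p (𝟙 (ℬ.p.obj o)) e.hom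
  have e1 : sch 𝒜 P = sch ℬ o := (StMod.sch_obj_eq G P).symm.trans (congrArg Comma.left e0)
  exact ⟨P, e1.symm ▸ h, e, inferInstanceAs (IsIso ((Over.forget S).map (ℬ.p.map e.hom)))⟩

theorem exists_coverImg {𝒜 ℬ : AlgSt.Cat S} (G : 𝒜 ⥤ᵇ ℬ) {o : ℬ.obj} {P : 𝒜.obj} (e : G.obj P ≅ o)
    [IsIso (bmap ℬ e.hom)] {J : Type u} (D : Cover P J) :
    ∃ D' : Cover o J, ∀ j, ∃ i : D'.E j = G.obj (D.E j), D'.e j = eqToHom i ≫ G.map (D.e j) ≫ e.hom := by
  refine ⟨⟨fun j => G.obj (D.E j), fun j => (StMod.sch_obj_eq G (D.E j)).symm ▸ D.aff j,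
    fun j => G.map (D.e j) ≫ e.hom, fun j => ?_,
    fun x => ?_⟩, fun j => ⟨rfl, by rw [eqToHom_refl, Category.id_comp]⟩⟩
  · have := D.flat j
    rw [StMod.bmap_comp, bmap_iso]
    infer_instance
  · obtain ⟨j, y, hy⟩ := D.surj ((inv (bmap ℬ e.hom) ≫ eqToHom (StMod.sch_obj_eq G P)) x)
    refine ⟨j, (eqToHom (StMod.sch_obj_eq G (D.E j)).symm) y, ?_⟩
    rw [StMod.bmap_comp, bmap_iso, ← Scheme.Hom.comp_apply]
    simp only [Category.assoc, eqToHom_trans_assoc, eqToHom_refl, Category.id_comp]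
    rw [Scheme.Hom.comp_apply, hy, ← Scheme.Hom.comp_apply]
    simp

theorem isAffine_map {𝒜 ℬ : AlgSt.Cat S} (G : 𝒜 ⥤ᵇ ℬ) (a : 𝒜.obj) (h : IsAffine (sch 𝒜 a)) :
    IsAffine (sch ℬ (G.obj a)) :=
  (StMod.sch_obj_eq G a).symm ▸ h

/-- A chart is transported by an equivalence. -/
theorem Chart.transfer {𝒜 ℬ : AlgSt.Cat S} {G : 𝒜 ⥤ᵇ ℬ} (hG : IsEqv G) (C : Chart 𝒜) : Nonempty (Chart ℬ) := by
  have := hG.full
  have haff := isAffine_map G
  have key := hG.exists_affPre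
  have mkCover : ∀ {o : ℬ.obj} {P : 𝒜.obj} (e : G.obj P ≅ o) (_ : IsIso (bmap ℬ e.hom)) {J : Type u} (D : Cover P J),
      ∃ D' : Cover o J, ∀ j, ∃ i : D'.E j = G.obj (D.E j), D'.e j = eqToHom i ≫ G.map (D.e j) ≫ e.hom :=
    fun {o P} e he {J} D => exists_coverImg G e D
  refine ⟨{
    x := G.obj C.x
    w := G.obj C.w
    affx := haff _ C.affx
    affw := haff _ C.affw
    p := G.map C.p
    q := G.map C.q
    cover := fun o ho => ?_
    overlap := fun o ho a b => ?_ }⟩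
  · obtain ⟨P, hP, e, he⟩ := key o ho
    obtain ⟨n, D, hD⟩ := C.cover P hP
    let D' : Cover P (ULift.{u} (Fin n)) := ⟨fun j => D.E j.down, fun j => D.aff _, fun j => D.e _, fun j => D.flat _,
      fun x => by obtain ⟨j, h⟩ := D.surj x; exact ⟨⟨j⟩, h⟩⟩
    obtain ⟨E, hE⟩ := mkCover e he D'
    refine ⟨n, ⟨fun j => E.E ⟨j⟩, fun j => E.aff _, fun j => E.e _, fun j => E.flat _,
      fun x => by obtain ⟨j, h⟩ := E.surj x; exact ⟨j.down, h⟩⟩, fun j => ?_⟩
    obtain ⟨i, -⟩ := hE ⟨j⟩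
    exact ⟨eqToHom i ≫ G.map (hD j).some⟩
  · obtain ⟨P, hP, e, he⟩ := key o ho
    obtain ⟨a', ha'⟩ := G.toFunctor.map_surjective (e.hom ≫ a)
    obtain ⟨b', hb'⟩ := G.toFunctor.map_surjective (e.hom ≫ b)
    obtain ⟨J, _, D, hD⟩ := C.overlap P hP a' b'
    obtain ⟨E, hE⟩ := mkCover e he D
    refine ⟨J, inferInstance, E, fun j => ?_⟩
    obtain ⟨i, hi⟩ := hE j
    obtain ⟨c, hc₁, hc₂⟩ := hD j
    refine ⟨eqToHom i ≫ G.map c, ?_, ?_⟩
    · rw [hi, Category.assoc, Category.assoc, Category.assoc, ← G.toFunctor.map_comp, hc₁, G.toFunctor.map_comp, ha']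
    · rw [hi, Category.assoc, Category.assoc, Category.assoc, ← G.toFunctor.map_comp, hc₂, G.toFunctor.map_comp, hb']

variable {𝒳 𝒴 : AlgSt.Cat S}

/-- The inverse image along a composite, as iterated inverse images. -/
noncomputable def comapIso₂ {𝒜 ℬ : AlgSt.Cat S} (G : 𝒜 ⥤ᵇ ℬ) (p : ℬ ⥤ᵇ 𝒳) (q : 𝒜 ⥤ᵇ 𝒳)
    (h : BasedFunctor.comp G p = q) (F : StMod.Mod 𝒳) :
    StMod.Mod.comap G (StMod.Mod.comap p F) ≅ StMod.Mod.comap q F :=
  (StMod.comapCompIso p G F).symm ≪≫ eqToIso (by rw [h])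

variable (f : 𝒳 ⥤ᵇ 𝒴) {ι : Type u} (E : ι → StMod.QCoh 𝒳)

/-- The family restricted over an object. -/
noncomputable abbrev fam (η : 𝒴.obj) : ι → StMod.QCoh (fibCat f η) :=
  fun i => (StMod.comapQ (fibFst f η)).obj (E i)

noncomputable def resIso {ω η : 𝒴.obj} (c : ω ⟶ η) (i : ι) :
    StMod.Mod.comap (resFun f c) ((StMod.comapQ (fst (baseFun f η) (𝒴.p.map c))).obj (fam f E η i)).obj ≅
      (fam f E ω i).obj :=
  (StMod.comapFunctor (resFun f c)).mapIso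
      (comapIso₂ (fst (baseFun f η) (𝒴.p.map c)) (fibFst f η) _ rfl (E i).obj) ≪≫
    comapIso₂ (resFun f c) (BasedFunctor.comp (fst (baseFun f η) (𝒴.p.map c)) (fibFst f η)) (fibFst f ω) rfl (E i).obj

variable (hX : IsFibGrpd 𝒳.p) (hY : IsFibGrpd 𝒴.p)

include hX hY in
/-- Generation passes to objects over an affine object. -/
theorem isGenFam_of_hom {ω η : 𝒴.obj} (c : ω ⟶ η) (hω : IsAffine (sch 𝒴 ω)) (hη : IsAffine (sch 𝒴 η))
    (h : StMod.IsGenFam (fam f E η)) : StMod.IsGenFam (fam f E ω) := by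
  haveI : IsAffine (𝒴.p.obj ω).left := hω
  haveI : IsAffine (𝒴.p.obj η).left := hη
  haveI : IsAffineHom (𝒴.p.map c).left := inferInstance
  exact (isEqv_resFun hX hY f c).isGenFam_of_target (resIso f E c)
    (isGenFam_cat (isFibGrpd_fibCat hX f η) _ h)

include hX hY in
/-- Generation is detected on a flat jointly surjective family over an object. -/
theorem isGenFam_of_flat (hE : ∀ i, (E i).obj.IsFinPres) {η : 𝒴.obj} (hη : IsAffine (sch 𝒴 η))
    (C : Chart (fibCat f η)) {J : Type v} (ω : J → 𝒴.obj) (c : ∀ j, ω j ⟶ η) (hω : ∀ j, IsAffine (sch 𝒴 (ω j)))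
    (hfl : ∀ j, Flat (bmap 𝒴 (c j))) (hsurj : ∀ v, ∃ j, v ∈ Set.range (bmap 𝒴 (c j)))
    (h : ∀ j, StMod.IsGenFam (fam f E (ω j))) : StMod.IsGenFam (fam f E η) := by
  have hF := isFibGrpd_fibCat hX f η
  haveI : IsAffine (𝒴.p.obj η).left := hη
  haveI : ∀ j, IsAffine (𝒴.p.obj (ω j)).left := hω
  haveI : ∀ j, Flat (𝒴.p.map (c j)).left := hfl
  have hfp : ∀ i, Module.FinitePresentation Γ(sch (fibCat f η) C.x, ⊤) Γ((fam f E η i).obj.obj C.x, ⊤) := fun i => by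
    haveI : ((fam f E η i).obj.obj C.x).IsQuasicoherent := (fam f E η i).property.2 C.x
    exact DescAlg.FPPush.finitePresentation_sections (isAffineOpen_top _) _ (hE i C.x.left)
  have hgen := fun j => (StMod.isGenFam_iff _).1
    ((isEqv_resFun hX hY f (c j)).isGenFam_of_source (resIso f E (c j)) (h j))
  rw [StMod.isGenFam_iff]
  intro M N u hu
  have hz : ∀ j, (StMod.comapQ (fst (baseFun f η) (𝒴.p.map (c j)))).map u = 0 := fun j =>
    hgen j _ fun i φ => killed_baseChange hF C (fam f E η) hfp u hu i φ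
  refine InducedCategory.hom_ext (hom_ext_affine hF N.property fun x hx t => ?_)
  let g := fun j => 𝒴.p.map (c j)
  let D : Cover x J :=
    { E := fun j => (up (π := baseFun f η) (g := g j) hF x).obj.left
      aff := fun j => isAffine_up (π := baseFun f η) (g := g j) hF x
      e := fun j => eps (π := baseFun f η) (g := g j) hF x
      flat := fun j => MorphismProperty.of_isPullback (P := @Flat) (isPullback_eps hF x).flip (hfl j)
      surj := fun v => by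
        obtain ⟨j, w, hw⟩ := hsurj ((str (baseFun f η) x).left v)
        have H := isPullback_eps (π := baseFun f η) (g := g j) hF x
        obtain ⟨z, hz, -⟩ := Scheme.Pullback.exists_preimage_pullback (f := (str (baseFun f η) x).left)
          (g := (g j).left) v w hw.symm
        refine ⟨j, H.isoPullback.inv z, ?_⟩
        rw [← Scheme.Hom.comp_apply, H.isoPullback_inv_fst]
        exact hz }
  refine D.eq_of_mapTop N fun j => ?_
  show N.obj.mapTop (eps hF x) ((u.hom.app x).app ⊤ t) = N.obj.mapTop _ 0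
  rw [StMod.Mod.mapTop_zero, StMod.Mod.mapTop_app]
  exact congrArg (fun k : (StMod.comapQ (fst (baseFun f η) (g j))).obj M ⟶ (StMod.comapQ (fst (baseFun f η) (g j))).obj N =>
    (k.hom.app (up hF x)).app ⊤ (M.obj.mapTop (eps hF x) t)) (hz j)

end Groth.Agent.H14.GenFam
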