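import Groth.Agent.H14.GenFam.Transport
import Groth.Agent.H14.GenFam.PushApp

/-!
The functors between categories over objects given by a triangle and by a composite, and their fibres.
-/

set_option autoImplicit false
set_option backward.isDefEq.respectTransparency false
set_option backward.isDefEq.respectTransparency.types false
set_option linter.style.haveILetI false

universe u

open CategoryTheory CategoryTheory.Limits AlgebraicGeometry
open StMod (sch bmap fibCat fibFst baseOver)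
open Groth.Agent.Lib Groth.Agent.Lib.AlgStack
open Groth.Agent.H14.ModDesc
open FibCat (IsFibGrpd fp fpFst fpSnd diag)
open BasedBasic (appIso appIso_isHomLift)

namespace Groth.Agent.H14.GenFam

variable {S : Scheme.{u}} {𝒰 𝒳 𝒴 : AlgSt.Cat S}

section OverFun

variable (r : 𝒰 ⥤ᵇ 𝒳) (f : 𝒳 ⥤ᵇ 𝒴) (h : 𝒰 ⥤ᵇ 𝒴) (e : BasedFunctor.comp r f ≅ h)

theorem appIso_natural {z z' : 𝒰.obj} (m : z ⟶ z') :
    f.map (r.map m) ≫ (appIso e z').hom = (appIso e z).hom ≫ h.map m :=
  e.hom.toNatTrans.naturality m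

/-- The functor induced by a triangle between the categories over an object. -/
def overFun (η : 𝒴.obj) : fibCat h η ⥤ᵇ fibCat f η where
  toFunctor :=
    { obj := fun P => CostructuredArrow.mk (Y := r.obj P.left) ((appIso e P.left).hom ≫ P.hom)
      map := fun {P P'} m => CostructuredArrow.homMk (r.map m.left) (by
        show f.map (r.map m.left) ≫ (appIso e P'.left).hom ≫ P'.hom = (appIso e P.left).hom ≫ P.hom
        rw [← Category.assoc, appIso_natural, Category.assoc, CostructuredArrow.w m])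
      map_id := fun _ => CostructuredArrow.hom_ext _ _ (r.toFunctor.map_id _)
      map_comp := fun _ _ => CostructuredArrow.hom_ext _ _ (r.toFunctor.map_comp _ _) }
  w := CategoryTheory.Functor.ext (fun P => r.w_obj (CostructuredArrow.left P))
    (fun P P' m => Functor.congr_hom r.w m.left)

theorem overFun_comp (η : 𝒴.obj) :
    BasedFunctor.comp (overFun r f h e η) (fibFst f η) = BasedFunctor.comp (fibFst h η) r := rfl

/-- The fibre of the induced functor as a fibre of the first side of the triangle. -/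
def overFib (η : 𝒴.obj) (P : (fibCat f η).obj) : fibCat (overFun r f h e η) P ⥤ᵇ fibCat r P.left where
  toFunctor :=
    { obj := fun Q => CostructuredArrow.mk (Y := Q.left.left) Q.hom.left
      map := fun {Q Q'} m => CostructuredArrow.homMk m.left.left (by
        show r.map m.left.left ≫ Q'.hom.left = Q.hom.left
        exact congrArg (fun k => k.left) (CostructuredArrow.w m))
      map_id := fun _ => CostructuredArrow.hom_ext _ _ rfl
      map_comp := fun _ _ => CostructuredArrow.hom_ext _ _ rfl }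
  w := rfl

theorem isEqv_overFib (hU : IsFibGrpd 𝒰.p) (η : 𝒴.obj) (P : (fibCat f η).obj) :
    IsEqv (overFib r f h e η P) := by
  refine ⟨isFibGrpd_fibCat (isFibGrpd_fibCat hU h η) _ _, isFibGrpd_fibCat hU r _, ⟨fun {Q Q'} k => ?_⟩,
    ⟨fun {Q Q' m m'} hm => ?_⟩, fun o => ?_⟩
  · let k₀ : Q.left.left ⟶ Q'.left.left := k.left
    have hk : r.map k₀ ≫ Q'.hom.left = Q.hom.left := CostructuredArrow.w k
    have hQ : ∀ R : (fibCat (overFun r f h e η) P).obj,
        f.map R.hom.left ≫ P.hom = (appIso e R.left.left).hom ≫ R.left.hom := fun R => CostructuredArrow.w R.hom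
    have w : h.map k₀ ≫ Q'.left.hom = Q.left.hom := by
      rw [← cancel_epi (appIso e Q.left.left).hom, ← Category.assoc, ← appIso_natural, Category.assoc, ← hQ, ← hQ,
        ← hk, f.toFunctor.map_comp, Category.assoc]
    exact ⟨CostructuredArrow.homMk (CostructuredArrow.homMk k₀ w) (CostructuredArrow.hom_ext _ _ hk),
      CostructuredArrow.hom_ext _ _ rfl⟩
  · exact CostructuredArrow.hom_ext _ _ (CostructuredArrow.hom_ext _ _ (congrArg (fun k => k.left) hm))
  · let z : 𝒰.obj := o.left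
    let Pz : (fibCat h η).obj := CostructuredArrow.mk (Y := z) ((appIso e z).inv ≫ f.map o.hom ≫ P.hom)
    refine ⟨CostructuredArrow.mk (Y := Pz) (CostructuredArrow.homMk o.hom ?_), CostructuredArrow.isoMk (Iso.refl _) ?_, ?_⟩
    · show f.map o.hom ≫ P.hom = (appIso e z).hom ≫ (appIso e z).inv ≫ f.map o.hom ≫ P.hom
      rw [Iso.hom_inv_id_assoc]
    · show r.map (𝟙 _) ≫ o.hom = o.hom
      rw [r.toFunctor.map_id, Category.id_comp]
    · refine IsHomLift.of_fac' _ _ _ rfl rfl ?_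
      show 𝒰.p.map (𝟙 o.left) = 𝟙 _ ≫ 𝟙 _ ≫ 𝟙 _
      simp

end OverFun

section GraphFun

variable {𝒵 : AlgSt.Cat S} (f : 𝒳 ⥤ᵇ 𝒴) (g : 𝒴 ⥤ᵇ 𝒵)

/-- The functor to the category over the image of an object. -/
def graphFun (η : 𝒴.obj) : fibCat f η ⥤ᵇ fibCat (BasedFunctor.comp f g) (g.obj η) where
  toFunctor :=
    { obj := fun P => CostructuredArrow.mk (Y := P.left) (g.map P.hom)
      map := fun {P P'} m => CostructuredArrow.homMk m.left (by
        show g.map (f.map m.left) ≫ g.map P'.hom = g.map P.hom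
        rw [← g.toFunctor.map_comp, CostructuredArrow.w m])
      map_id := fun _ => CostructuredArrow.hom_ext _ _ rfl
      map_comp := fun _ _ => CostructuredArrow.hom_ext _ _ rfl }
  w := rfl

theorem graphFun_comp (η : 𝒴.obj) :
    BasedFunctor.comp (graphFun f g η) (fibFst (BasedFunctor.comp f g) (g.obj η)) = fibFst f η := rfl

/-- A pair of objects identified in the base, representing an object over the image. -/
structure GraphData (η : 𝒴.obj) (P : (fibCat (BasedFunctor.comp f g) (g.obj η)).obj) where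
  /-- the second object -/
  y : 𝒴.obj
  hy : 𝒴.p.obj y = 𝒳.p.obj P.left
  /-- its map -/
  a : y ⟶ η
  ha : 𝒴.p.map a = eqToHom hy ≫ baseOver (BasedFunctor.comp f g) P.left P.hom ≫ eqToHom (g.w_obj η)
  /-- the identification -/
  i : g.obj (f.obj P.left) ≅ g.obj y
  hi : 𝒵.p.IsHomLift (𝟙 (𝒴.p.obj (f.obj P.left))) i.hom
  hia : i.hom ≫ g.map a = P.hom

variable {f g}

theorem exists_graphData (hY : IsFibGrpd 𝒴.p) (hZ : IsFibGrpd 𝒵.p) (η : 𝒴.obj)
    (P : (fibCat (BasedFunctor.comp f g) (g.obj η)).obj) : Nonempty (GraphData f g η P) := by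
  let e₀ : 𝒳.p.obj P.left ⟶ 𝒴.p.obj η :=
    baseOver (BasedFunctor.comp f g) P.left P.hom ≫ eqToHom (g.w_obj η)
  obtain ⟨y, a, ha⟩ := hY.exists_lift e₀
  have hy : 𝒴.p.obj y = 𝒳.p.obj P.left := IsHomLift.domain_eq 𝒴.p e₀ a
  have hh : 𝒵.p.obj (g.obj (f.obj P.left)) = 𝒵.p.obj (g.obj y) :=
    (g.w_obj _).trans ((f.w_obj _).trans (hy.symm.trans (g.w_obj y).symm))
  haveI : 𝒵.p.IsHomLift e₀ (g.map a) := inferInstance
  obtain ⟨i, hi, hia⟩ := exists_isoOver hZ P.hom (g.map a) hh (by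
    rw [IsHomLift.fac' 𝒵.p e₀ (g.map a)]
    simp [e₀, StMod.baseOver])
  refine ⟨⟨y, hy, a, ?_, i, ?_, hia⟩⟩
  · rw [IsHomLift.fac' 𝒴.p e₀ a]
    simp [e₀]
  · rw [← g.w_obj (f.obj P.left)]
    exact hi

variable {η : 𝒴.obj} {P : (fibCat (BasedFunctor.comp f g) (g.obj η)).obj} (D : GraphData f g η P)

/-- The object of the fibre product. -/
def GraphData.W : (fp g g).obj :=
  FibProd.objMk (f.obj P.left) D.y D.i D.hi

variable (Q : (fibCat (graphFun f g η) P).obj)

/-- The base map of the second component. -/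
def GraphData.base : 𝒴.p.obj (f.obj Q.left.left) ⟶ 𝒴.p.obj D.y :=
  eqToHom (f.w_obj _) ≫ 𝒳.p.map Q.hom.left ≫ eqToHom D.hy.symm

theorem GraphData.w_hom : g.map (f.map Q.hom.left) ≫ P.hom = g.map Q.left.hom :=
  CostructuredArrow.w Q.hom

theorem GraphData.base_map : D.base Q ≫ 𝒴.p.map D.a = 𝒴.p.map Q.left.hom := by
  have h1 : 𝒳.p.map Q.hom.left ≫ baseOver (BasedFunctor.comp f g) P.left P.hom =
      baseOver (BasedFunctor.comp f g) Q.left.left (g.map Q.left.hom) := by
    refine (StMod.map_comp_baseOver (BasedFunctor.comp f g) Q.hom.left P.hom).trans ?_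
    exact congrArg _ (GraphData.w_hom Q)
  rw [GraphData.base, D.ha]
  simp only [Category.assoc, eqToHom_trans_assoc, eqToHom_refl, Category.id_comp]
  rw [reassoc_of% h1, StMod.baseOver, IsHomLift.fac' 𝒵.p (𝒴.p.map Q.left.hom) (g.map Q.left.hom)]
  simp

theorem GraphData.exists_snd (hY : IsFibGrpd 𝒴.p) :
    ∃ d : f.obj Q.left.left ⟶ D.y, 𝒴.p.map d = D.base Q ∧ d ≫ D.a = Q.left.hom := by
  haveI : 𝒴.p.IsHomLift (D.base Q ≫ 𝒴.p.map D.a) Q.left.hom := by
    rw [D.base_map]
    exact IsHomLift.map 𝒴.p _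
  obtain ⟨d, hd, hda⟩ := BasedBasic.exists_lift_through hY D.a Q.left.hom (D.base Q)
  refine ⟨d, ?_, hda⟩
  rw [IsHomLift.fac' 𝒴.p (D.base Q) d]
  simp

variable (hY : IsFibGrpd 𝒴.p) (hZ : IsFibGrpd 𝒵.p)

/-- The second component. -/
noncomputable def GraphData.snd : f.obj Q.left.left ⟶ D.y := (D.exists_snd Q hY).choose

theorem GraphData.snd_base : 𝒴.p.map (D.snd Q hY) = D.base Q := (D.exists_snd Q hY).choose_spec.1

theorem GraphData.snd_comp : D.snd Q hY ≫ D.a = Q.left.hom := (D.exists_snd Q hY).choose_spec.2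

theorem GraphData.snd_eq (d : f.obj Q.left.left ⟶ D.y) (h1 : 𝒴.p.map d = D.base Q)
    (h2 : d ≫ D.a = Q.left.hom) : d = D.snd Q hY :=
  BasedBasic.hom_eq_of_comp_eq hY D.a (h1.trans (D.snd_base Q hY).symm) (h2.trans (D.snd_comp Q hY).symm)

theorem GraphData.w_snd (hY : IsFibGrpd 𝒴.p) (hZ : IsFibGrpd 𝒵.p) :
    g.map (f.map Q.hom.left) ≫ D.i.hom = g.map (D.snd Q hY) := by
  refine BasedBasic.hom_eq_of_comp_eq hZ (g.map D.a) ?_ ?_
  · haveI := D.hi
    rw [Functor.map_comp, IsHomLift.fac' 𝒵.p (𝟙 (𝒴.p.obj (f.obj P.left))) D.i.hom,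
      IsHomLift.fac' 𝒵.p (𝒴.p.map (f.map Q.hom.left)) (g.map (f.map Q.hom.left)),
      IsHomLift.fac' 𝒵.p (𝒴.p.map (D.snd Q hY)) (g.map (D.snd Q hY))]
    simp [D.snd_base, GraphData.base, IsHomLift.fac' 𝒴.p (𝒳.p.map Q.hom.left) (f.map Q.hom.left)]
  · rw [Category.assoc, D.hia, GraphData.w_hom, ← g.toFunctor.map_comp, D.snd_comp]

/-- The fibre as a fibre of the diagonal. -/
noncomputable def GraphData.fib : fibCat (graphFun f g η) P ⥤ᵇ fibCat (diag g) D.W where
  toFunctor :=
    { obj := fun Q => CostructuredArrow.mk (Y := f.obj Q.left.left)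
        (FibProd.homMk (x := (diag g).obj (f.obj Q.left.left)) (y := D.W) (f.map Q.hom.left) (D.snd Q hY) (by
          show g.map (f.map Q.hom.left) ≫ D.i.hom = 𝟙 _ ≫ g.map (D.snd Q hY)
          rw [Category.id_comp]
          exact D.w_snd Q hY hZ))
      map := fun {Q Q'} m => CostructuredArrow.homMk (f.map m.left.left) (by
        have hm : m.left.left ≫ Q'.hom.left = Q.hom.left :=
          congrArg (fun k => k.left) (CostructuredArrow.w m)
        refine FibProd.hom_ext ?_ ?_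
        · show f.map m.left.left ≫ f.map Q'.hom.left = f.map Q.hom.left
          rw [← f.toFunctor.map_comp, hm]
        · show f.map m.left.left ≫ D.snd Q' hY = D.snd Q hY
          refine D.snd_eq Q hY _ ?_ ?_
          · rw [Functor.map_comp, D.snd_base, GraphData.base, GraphData.base,
              IsHomLift.fac' 𝒴.p (𝒳.p.map m.left.left) (f.map m.left.left), ← hm]
            simp
          · rw [Category.assoc, D.snd_comp]
            exact CostructuredArrow.w m.left)
      map_id := fun Q => CostructuredArrow.hom_ext _ _ (f.toFunctor.map_id _)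
      map_comp := fun _ _ => CostructuredArrow.hom_ext _ _ (f.toFunctor.map_comp _ _) }
  w := CategoryTheory.Functor.ext (fun Q => f.w_obj (CostructuredArrow.left (CostructuredArrow.left Q)))
    (fun Q Q' m => Functor.congr_hom f.w m.left.left)

theorem GraphData.isEqv_fib (hX : IsFibGrpd 𝒳.p) : IsEqv (D.fib hY hZ) := by
  refine ⟨isFibGrpd_fibCat (isFibGrpd_fibCat hX f η) _ _, isFibGrpd_fibCat hY _ _, ⟨fun {Q Q'} k => ?_⟩,
    ⟨fun {Q Q' m m'} hm => ?_⟩, fun o => ?_⟩
  · let n : f.obj Q.left.left ⟶ f.obj Q'.left.left := k.left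
    have hk := CostructuredArrow.w k
    have hn : n ≫ f.map Q'.hom.left = f.map Q.hom.left := congrArg (fun m => m.hom.fst) hk
    have hn' : n ≫ D.snd Q' hY = D.snd Q hY := congrArg (fun m => m.hom.snd) hk
    let d : 𝒳.p.obj Q.left.left ⟶ 𝒳.p.obj Q'.left.left :=
      eqToHom (f.w_obj _).symm ≫ 𝒴.p.map n ≫ eqToHom (f.w_obj _)
    have hd : d ≫ 𝒳.p.map Q'.hom.left = 𝒳.p.map Q.hom.left := by
      have h1 := congrArg (fun q => 𝒴.p.map q) hn
      simp only [Functor.map_comp] at h1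
      rw [IsHomLift.fac' 𝒴.p (𝒳.p.map Q'.hom.left) (f.map Q'.hom.left),
        IsHomLift.fac' 𝒴.p (𝒳.p.map Q.hom.left) (f.map Q.hom.left)] at h1
      simp only [← Category.assoc] at h1
      rw [cancel_mono] at h1
      simp only [d, Category.assoc] at h1 ⊢
      rw [h1]
      simp
    haveI : 𝒳.p.IsHomLift (d ≫ 𝒳.p.map Q'.hom.left) Q.hom.left := by rw [hd]; exact IsHomLift.map 𝒳.p _
    obtain ⟨m, hm, hmc⟩ := BasedBasic.exists_lift_through hX Q'.hom.left Q.hom.left d
    have hfm : f.map m = n := by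
      refine BasedBasic.hom_eq_of_comp_eq hY (f.map Q'.hom.left) ?_ ?_
      · rw [IsHomLift.fac' 𝒴.p d (f.map m)]
        simp [d]
      · rw [← f.toFunctor.map_comp, hmc, hn]
    have w : f.map m ≫ Q'.left.hom = Q.left.hom := by
      rw [hfm, ← D.snd_comp Q' hY, ← Category.assoc, hn', D.snd_comp]
    exact ⟨CostructuredArrow.homMk (CostructuredArrow.homMk m w) (CostructuredArrow.hom_ext _ _ hmc),
      CostructuredArrow.hom_ext _ _ hfm⟩
  · have h1 : f.map m.left.left = f.map m'.left.left := congrArg (fun k => k.left) hm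
    have h2 : m.left.left ≫ Q'.hom.left = m'.left.left ≫ Q'.hom.left :=
      (congrArg (fun k => k.left) (CostructuredArrow.w m)).trans
        (congrArg (fun k => k.left) (CostructuredArrow.w m')).symm
    refine CostructuredArrow.hom_ext _ _ (CostructuredArrow.hom_ext _ _
      (BasedBasic.hom_eq_of_comp_eq hX Q'.hom.left ?_ h2))
    have h3 := congrArg (fun q => 𝒴.p.map q) h1
    rw [IsHomLift.fac' 𝒴.p (𝒳.p.map m.left.left) (f.map m.left.left),
      IsHomLift.fac' 𝒴.p (𝒳.p.map m'.left.left) (f.map m'.left.left)] at h3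
    exact (cancel_mono _).1 ((cancel_epi _).1 h3)
  · let z : 𝒴.obj := o.left
    let d₁ : z ⟶ f.obj P.left := o.hom.hom.fst
    let d₂ : z ⟶ D.y := o.hom.hom.snd
    have hd : g.map d₁ ≫ D.i.hom = g.map d₂ := by
      have h1 : g.map d₁ ≫ D.i.hom = 𝟙 _ ≫ g.map d₂ := o.hom.hom.w
      rwa [Category.id_comp] at h1
    have hd₂ : 𝒴.p.map d₂ = 𝒴.p.map d₁ ≫ eqToHom ((f.w_obj P.left).trans D.hy.symm) := by
      haveI := FibCat.fp_isHomLift_snd g g o.hom
      exact (IsHomLift.fac' 𝒴.p ((fp g g).p.map o.hom) o.hom.hom.snd).trans (by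
        show eqToHom _ ≫ 𝒴.p.map d₁ ≫ eqToHom _ = _
        simp)
    let e₁ : 𝒴.p.obj z ⟶ 𝒳.p.obj P.left := 𝒴.p.map d₁ ≫ eqToHom (f.w_obj P.left)
    obtain ⟨x', c, hc⟩ := hX.exists_lift e₁
    have hx : 𝒳.p.obj x' = 𝒴.p.obj z := IsHomLift.domain_eq 𝒳.p e₁ c
    haveI : 𝒴.p.IsHomLift e₁ (f.map c) := inferInstance
    obtain ⟨j, hj, hjd⟩ := exists_isoOver hY (f.map c) d₁ ((f.w_obj x').trans hx) (by
      rw [IsHomLift.fac' 𝒴.p e₁ (f.map c)]
      simp [e₁])
    have w : g.map (f.map c) ≫ P.hom = g.map (j.hom ≫ d₂ ≫ D.a) := by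
      rw [← hjd, ← D.hia]
      simp only [Functor.map_comp, Category.assoc]
      rw [reassoc_of% hd]
    let Q : (fibCat (graphFun f g η) P).obj :=
      CostructuredArrow.mk (Y := CostructuredArrow.mk (Y := x') (j.hom ≫ d₂ ≫ D.a))
        (CostructuredArrow.homMk c w)
    have hs : j.hom ≫ d₂ = D.snd Q hY := by
      refine D.snd_eq Q hY _ ?_ (Category.assoc _ _ _)
      haveI := hj
      rw [Functor.map_comp, IsHomLift.fac' 𝒴.p (𝟙 (𝒴.p.obj (f.obj x'))) j.hom, hd₂, GraphData.base]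
      show _ = eqToHom _ ≫ 𝒳.p.map c ≫ eqToHom _
      rw [IsHomLift.fac' 𝒳.p e₁ c]
      simp [e₁]
    refine ⟨Q, CostructuredArrow.isoMk j (FibProd.hom_ext ?_ ?_), ?_⟩
    · show j.hom ≫ d₁ = f.map c
      exact hjd
    · show j.hom ≫ d₂ = D.snd Q hY
      exact hs
    · haveI := hj
      refine IsHomLift.of_fac' _ _ _ ((f.w_obj x').trans hx) rfl ?_
      show 𝒴.p.map j.hom = _
      rw [IsHomLift.fac' 𝒴.p (𝟙 (𝒴.p.obj (f.obj x'))) j.hom]
      simp

end GraphFun

end Groth.Agent.H14.GenFam
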