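import Groth.Agent.H14.GenFam.Transport

/-!
The structure sheaf of a quasi-affine scheme generates.
-/

set_option autoImplicit false
set_option backward.isDefEq.respectTransparency false
set_option backward.isDefEq.respectTransparency.types false
set_option linter.style.haveILetI false

universe u

open CategoryTheory CategoryTheory.Limits AlgebraicGeometry Opposite
open StMod (sch bmap)
open Groth.Agent.Lib Groth.Agent.Lib.AlgStack
open Groth.Agent.H14.ModDesc
open Groth.Agent.H14.AffPush
open FibCat (IsFibGrpd overCat)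
open AlgSt (RepByAlgSpWith overMap)

namespace Groth.Agent.H14.GenFam

variable {S : Scheme.{u}} {W : Over S}

theorem fp_OQ' {𝒳 : AlgSt.Cat S} (x : 𝒳.obj) :
    Module.FinitePresentation Γ(sch 𝒳 x, ⊤) Γ((StMod.OQ 𝒳).obj.obj x, ⊤) := by
  let e : Γ(sch 𝒳 x, ⊤) ≃ₗ[Γ(sch 𝒳 x, ⊤)] Γ((StMod.OQ 𝒳).obj.obj x, ⊤) :=
    { toFun := fun r => (show Γ((StMod.OQ 𝒳).obj.obj x, ⊤) from r)
      invFun := fun r => (show Γ(sch 𝒳 x, ⊤) from r)
      map_add' := fun _ _ => rfl
      map_smul' := fun _ _ => rfl
      left_inv := fun _ => rfl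
      right_inv := fun _ => rfl }
  exact Module.FinitePresentation.of_equiv e

/-- On an open subscheme given by an affine base change, every section comes from a morphism from the
structure sheaf. -/
theorem killed_obj {V V' : Over S} {π : overCat W ⥤ᵇ AlgSt.ofSch V} {g : V' ⟶ V} [IsAffine V.left]
    [IsAffine V'.left] [Flat g.left] (C : Chart (overCat W)) {M N : StMod.QCoh (overCat W)} (u : M ⟶ N)
    (hu : ∀ φ : (StMod.OQ (overCat W)).obj ⟶ M.obj, φ ≫ u.hom = 0)
    (hfp : Module.FinitePresentation Γ(sch (overCat W) C.x, ⊤) Γ((StMod.OQ (overCat W)).obj.obj C.x, ⊤))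
    (top : (cat π g).obj) (htop : IsAffine (sch (cat π g) top))
    (hlift : ∀ o : (cat π g).obj, Nonempty (o ⟶ top))
    (huniq : ∀ (o : (cat π g).obj) (a b : o ⟶ top), a = b) :
    (StMod.comapQ (fst π g)).map u = 0 := by
  have hfib : IsFibGrpd (overCat W).p := Yoneda.isFibGrpd_overCat W
  have hc := isFibGrpd_cat (π := π) (g := g) hfib
  let M' := (StMod.comapQ (fst π g)).obj M
  let k : ∀ o : (cat π g).obj, o ⟶ top := fun o => (hlift o).some
  have hkill : ∀ φ : StMod.Mod.comap (fst π g) (StMod.OQ (overCat W)).obj ⟶ M'.obj,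
      φ ≫ StMod.Mod.comapMap (fst π g) u.hom = 0 := fun φ =>
    killed_baseChange hfib C (fun _ : PUnit.{u + 1} => StMod.OQ (overCat W)) (fun _ => hfp) u (fun _ => hu)
      PUnit.unit φ
  refine InducedCategory.hom_ext (hom_ext_affine hc ((StMod.comapQ (fst π g)).obj N).property fun o ho t => ?_)
  show ((StMod.Mod.comapMap (fst π g) u.hom).app o).app ⊤ t = 0
  refine bc_induction (isBC_mapHom M' (k o))
    (P := fun s => ((StMod.Mod.comapMap (fst π g) u.hom).app o).app ⊤ s = 0) (map_zero _) (fun a b ha hb => ?_)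
    (fun c s => ?_) t
  · exact (map_add (((StMod.Mod.comapMap (fst π g) u.hom).app o).app ⊤).hom a b).trans
      ((congrArg₂ (· + ·) ha hb).trans (add_zero _))
  · refine (Scheme.Modules.Hom.app_smul ((StMod.Mod.comapMap (fst π g) u.hom).app o) c _).trans ?_
    let ψ₀ : ∀ o' : (cat π g).obj, Γ(M'.obj.obj o', ⊤) := fun o' => M'.obj.mapTop (k o') s
    obtain ⟨ψ, hψ⟩ := exists_hom_of_affine hc (StMod.OQ (cat π g)) M' (fun o' _ =>
      { toFun := fun r => (show Γ(sch (cat π g) o', ⊤) from r) • ψ₀ o'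
        map_add' := fun r r' => add_smul _ _ _
        map_smul' := fun r r' => mul_smul _ _ _ }) (fun {o'' o'} _ _ e r => by
        show M'.obj.mapTop e ((show Γ(sch (cat π g) o', ⊤) from r) • ψ₀ o') =
          (show Γ(sch (cat π g) o'', ⊤) from (StMod.O (cat π g)).mapTop e r) • ψ₀ o''
        rw [StMod.Mod.mapTop_smul, StMod.O_mapTop]
        refine congrArg (_ • ·) ?_
        show M'.obj.mapTop e (M'.obj.mapTop (k o') s) = M'.obj.mapTop (k o'') s
        rw [← StMod.Mod.mapTop_comp, huniq o'' (e ≫ k o') (k o'')])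
    have h3 : (ψ.app o).app ⊤ (show Γ((StMod.O (cat π g)).obj o, ⊤) from (1 : Γ(sch (cat π g) o, ⊤))) =
        M'.obj.mapTop (k o) s := (hψ o ho _).trans (one_smul _ _)
    have h4 : ψ ≫ StMod.Mod.comapMap (fst π g) u.hom = 0 := by
      rw [← cancel_epi (StMod.comapOIso (fst π g)).hom, ← Category.assoc, comp_zero]
      exact hkill _
    have h5 := congrArg (fun q => (q.app o).app ⊤ (show Γ((StMod.O (cat π g)).obj o, ⊤) from (1 : Γ(sch (cat π g) o, ⊤)))) h4
    refine (congrArg (c • ·) ?_).trans (smul_zero c)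
    exact (congrArg _ h3.symm).trans h5

theorem isGenFam_of_flat_overCat {V : Over S} {π : overCat W ⥤ᵇ AlgSt.ofSch V} [IsAffine V.left]
    {M N : StMod.QCoh (overCat W)} (u : M ⟶ N) {J : Type u} (V' : J → Over S) (g : ∀ j, V' j ⟶ V)
    [∀ j, IsAffine (V' j).left] [∀ j, Flat (g j).left]
    (hsurj : ∀ v : W.left, ∃ j, (str π (Over.mk (𝟙 W))).left v ∈ Set.range (g j).left)
    (hkill : ∀ j, (StMod.comapQ (fst π (g j))).map u = 0) : u = 0 := by
  have hfib : IsFibGrpd (overCat W).p := Yoneda.isFibGrpd_overCat W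
  refine InducedCategory.hom_ext (hom_ext_affine hfib N.property fun x hx t => ?_)
  let D : Cover x J :=
    { E := fun j => (up (π := π) (g := g j) hfib x).obj.left
      aff := fun j => isAffine_up (π := π) (g := g j) hfib x
      e := fun j => eps (π := π) (g := g j) hfib x
      flat := fun j => MorphismProperty.of_isPullback (P := @Flat) (isPullback_eps hfib x).flip inferInstance
      surj := fun v => by
        obtain ⟨j, w, hw⟩ := hsurj ((Yoneda.toId x).left.left v)
        have H := isPullback_eps (π := π) (g := g j) hfib x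
        have e : (str π x).left v = (str π (Over.mk (𝟙 W))).left ((Yoneda.toId x).left.left v) := by
          rw [← map_str π (Yoneda.toId x)]
          rfl
        obtain ⟨z, hz, -⟩ := Scheme.Pullback.exists_preimage_pullback (f := (str π x).left)
          (g := (g j).left) v w (e.trans hw.symm)
        refine ⟨j, H.isoPullback.inv z, ?_⟩
        rw [← Scheme.Hom.comp_apply, H.isoPullback_inv_fst]
        exact hz }
  refine D.eq_of_mapTop N fun j => ?_
  show N.obj.mapTop (eps hfib x) ((u.hom.app x).app ⊤ t) = N.obj.mapTop _ 0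
  rw [StMod.Mod.mapTop_zero, StMod.Mod.mapTop_app]
  exact congrArg (fun k : (StMod.comapQ (fst π (g j))).obj M ⟶ (StMod.comapQ (fst π (g j))).obj N =>
    (k.hom.app (up hfib x)).app ⊤ (M.obj.mapTop (eps hfib x) t)) (hkill j)

theorem hom_toId_unique {x : Over W} (k k' : x ⟶ Over.mk (𝟙 W)) : k = k' := by
  refine Over.OverMorphism.ext ?_
  have h := Over.w k
  have h' := Over.w k'
  simp only [Over.mk_hom, Category.comp_id] at h h'
  exact h.trans h'.symm

/-- The structure sheaf of a quasi-affine scheme over an affine scheme generates. -/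
theorem isGenFam_overCat (W : Over S) [W.left.IsQuasiAffine] {T : Over S} [IsAffine T.left] (i : W ⟶ T) :
    StMod.IsGenFam (fun _ : PUnit.{u + 1} => StMod.OQ (overCat W)) := by
  have hfib : IsFibGrpd (overCat W).p := Yoneda.isFibGrpd_overCat W
  let V : Over S := Over.mk ((Spec.map i.left.appTop ≫ T.left.isoSpec.inv) ≫ T.hom)
  let w : W ⟶ V := Over.homMk W.left.toSpecΓ (by
    show W.left.toSpecΓ ≫ (Spec.map i.left.appTop ≫ T.left.isoSpec.inv) ≫ T.hom = W.hom
    rw [← Category.assoc, ← Scheme.toSpecΓ_naturality_assoc, ← Scheme.isoSpec_hom, Iso.hom_inv_id, Category.comp_id]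
    exact Over.w i)
  haveI : IsAffine V.left := inferInstanceAs (IsAffine (Spec _))
  let π : overCat W ⥤ᵇ AlgSt.ofSch V := BasedFunctor.comp (overMap w) (AlgSt.ofOverCat V)
  have hqs : AlgSt.IsQuasiSeparatedMor (overMap w) :=
    Sep.Main2.diag_qcqs_of_qs (H14.Chart.Basic.rep_overMap w (Sep.SpProps.stableBC_qs (S := S))
      ((AlgSp.isQuasiSeparatedMor_yon_map_iff w).2 inferInstance))
  obtain ⟨C⟩ := exists_chart (H14.Chart.Basic.isAlgStack_overCat W) (overMap w) hqs
    (H14.Chart.QC.isQuasiCompact_overCat W)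
  rw [StMod.isGenFam_iff]
  intro M N u hu
  let J := { r : Γ(W.left, ⊤) // IsAffineOpen (W.left.basicOpen r) }
  let V' : J → Over S := fun r =>
    Over.mk (Spec.map (CommRingCat.ofHom (algebraMap Γ(W.left, ⊤) (Localization.Away r.1))) ≫ V.hom)
  let g : ∀ r, V' r ⟶ V := fun r =>
    Over.homMk (Spec.map (CommRingCat.ofHom (algebraMap Γ(W.left, ⊤) (Localization.Away r.1))))
  haveI : ∀ r, IsAffine (V' r).left := fun r => inferInstanceAs (IsAffine (Spec _))
  haveI hopen : ∀ r, IsOpenImmersion (g r).left := fun r => IsOpenImmersion.of_isLocalization r.1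
  have hstr : (str π (Over.mk (𝟙 W))).left = W.left.toSpecΓ := by
    simp [str, π, w, AlgSt.ofOverCat, AlgSt.overMap]
    exact Category.id_comp _
  have hrange : ∀ r : J, Set.range (g r).left =
      (SetLike.coe (PrimeSpectrum.basicOpen r.1) : Set (PrimeSpectrum Γ(W.left, ⊤))) := fun r =>
    PrimeSpectrum.localization_away_comap_range (Localization.Away r.1) r.1
  refine isGenFam_of_flat_overCat (π := π) u V' g (fun v => ?_) fun r => ?_
  · obtain ⟨_, ⟨_, ⟨r, hr, rfl⟩, rfl⟩, hv, -⟩ :=
      (Scheme.IsQuasiAffine.isBasis_basicOpen W.left).exists_subset_of_mem_open (Set.mem_univ v) isOpen_univ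
    refine ⟨⟨r, hr⟩, ?_⟩
    rw [hrange, hstr]
    exact (W.left.toSpecΓ_preimage_basicOpen r).ge hv
  · let top := up (π := π) (g := g r) hfib (Over.mk (𝟙 W))
    have H := isPullback_eps (π := π) (g := g r) hfib (Over.mk (𝟙 W))
    have htop : IsAffine (sch (cat π (g r)) top) := by
      have hi : IsOpenImmersion (bmap (overCat W) (eps (π := π) (g := g r) hfib (Over.mk (𝟙 W)))) :=
        MorphismProperty.of_isPullback (P := @IsOpenImmersion) H.flip (hopen r)
      have e : bmap (overCat W) (eps (π := π) (g := g r) hfib (Over.mk (𝟙 W))) ''ᵁ ⊤ = W.left.basicOpen r.1 := by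
        refine TopologicalSpace.Opens.ext (Set.ext fun v => ⟨?_, fun hv => ?_⟩)
        · rintro ⟨z, -, rfl⟩
          rw [← W.left.toSpecΓ_preimage_basicOpen, ← hstr]
          show (str π _).left _ ∈ (SetLike.coe (PrimeSpectrum.basicOpen r.1) : Set (PrimeSpectrum Γ(W.left, ⊤)))
          rw [← hrange]
          exact ⟨_, ((Scheme.Hom.comp_apply _ _ z).symm.trans ((congrArg (fun k : _ ⟶ V.left => k z) H.w).trans
            (Scheme.Hom.comp_apply _ _ z))).symm⟩
        · rw [← W.left.toSpecΓ_preimage_basicOpen, ← hstr] at hv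
          obtain ⟨z, hz⟩ := (hrange r).ge hv
          obtain ⟨t, ht, -⟩ := Scheme.Pullback.exists_preimage_pullback (f := (str π (Over.mk (𝟙 W))).left)
            (g := (g r).left) v z hz.symm
          refine ⟨H.isoPullback.inv t, trivial, ?_⟩
          refine (Scheme.Hom.comp_apply _ _ t).symm.trans ?_
          rw [H.isoPullback_inv_fst]
          exact ht
      have h := (Scheme.Hom.isAffineOpen_iff_of_isOpenImmersion (bmap (overCat W) (eps (π := π) (g := g r) hfib (Over.mk (𝟙 W))))).1 (e.symm ▸ r.2)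
      haveI : IsAffine (Scheme.Opens.toScheme (⊤ : (sch (overCat W) top.obj.left).Opens)) := h
      exact IsAffine.of_isIso (Scheme.topIso (sch (overCat W) top.obj.left)).inv
    exact killed_obj C u (hu PUnit.unit) (fp_OQ' C.x) top htop
      (fun o => ⟨upLift hfib (Yoneda.toId o.obj.left)⟩)
      (fun o a b => up_hom_ext hfib (hom_toId_unique _ _))

end Groth.Agent.H14.GenFam
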