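import Groth.Agent.H14.GenFam.Over

/-!
Generating families relative to composites.
-/

set_option autoImplicit false
set_option backward.isDefEq.respectTransparency false
set_option backward.isDefEq.respectTransparency.types false
set_option linter.style.haveILetI false

universe u

open CategoryTheory CategoryTheory.Limits AlgebraicGeometry
open StMod (sch bmap fibCat fibFst)
open Groth.Agent.Lib Groth.Agent.Lib.AlgStack
open Groth.Agent.H14.ModDesc
open FibCat (IsFibGrpd fp diag)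
open AlgSt (IsAlgStack RepByAlgSpWith)

namespace Groth.Agent.H14.GenFam

variable {S : Scheme.{u}}

theorem isGenFam_of_iso {𝒳 : AlgSt.Cat S} (hX : IsFibGrpd 𝒳.p) {ι : Type u} {E E' : ι → StMod.QCoh 𝒳}
    (iso : ∀ i, (E i).obj ≅ (E' i).obj) (h : StMod.IsGenFam E) : StMod.IsGenFam E' :=
  (isEqv_of_isEquivOver BasedBasic.isEquivOver_id hX hX).isGenFam_of_source
    (E := E') (E' := E) (fun i => StMod.comapIdIso (E' i).obj ≪≫ (iso i).symm) h

/-- The structure sheaf pulled back along two functors. -/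
noncomputable def comapO₂ {𝒜 ℬ 𝒞 𝒟 : AlgSt.Cat S} (G : 𝒜 ⥤ᵇ ℬ) (p : ℬ ⥤ᵇ 𝒞) (q : 𝒜 ⥤ᵇ 𝒟) :
    StMod.Mod.comap G ((StMod.comapQ p).obj (StMod.OQ 𝒞)).obj ≅ ((StMod.comapQ q).obj (StMod.OQ 𝒟)).obj :=
  (StMod.comapFunctor G).mapIso (StMod.comapOIso p) ≪≫ StMod.comapOIso G ≪≫ (StMod.comapOIso q).symm

section Over

variable {𝒰 𝒳 𝒴 : AlgSt.Cat S} (h𝒰 : IsAlgStack Scheme.fppfPrecoverage 𝒰)
  (h𝒳 : IsAlgStack Scheme.fppfPrecoverage 𝒳) (h𝒴 : IsAlgStack Scheme.fppfPrecoverage 𝒴)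
  (r : 𝒰 ⥤ᵇ 𝒳) (hrqc : AlgSt.IsQuasiCompactMor Scheme.fppfPrecoverage r) (hrqs : AlgSt.IsQuasiSeparatedMor r)
  (f : 𝒳 ⥤ᵇ 𝒴) (hfqc : AlgSt.IsQuasiCompactMor Scheme.fppfPrecoverage f) (hfqs : AlgSt.IsQuasiSeparatedMor f)
  (h : 𝒰 ⥤ᵇ 𝒴) (e : BasedFunctor.comp r f ≅ h) {ι : Type u}

include h𝒰 h𝒳 hrqc hrqs in
theorem exists_chart_overFun (η : 𝒴.obj) (P : (fibCat f η).obj) (hP : IsAffine (sch (fibCat f η) P)) :
    Nonempty (Chart (fibCat (overFun r f h e η) P)) := by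
  obtain ⟨C⟩ := exists_chart_at r h𝒰 h𝒳 hrqc hrqs P.left hP
  obtain ⟨G', hG'⟩ := (isEqv_overFib r f h e h𝒰.isStack.1 η P).exists_symm
  exact Chart.transfer hG' C

include h𝒰 h𝒳 h𝒴 hrqc hrqs hfqc hfqs e in
/-- Inverse images are relatively generating when the structure sheaf is so along the first morphism. -/
theorem isRelGenFam_comapQ (F : ι → StMod.QCoh 𝒳) (hO : StMod.IsRelGenFam r (fun _ : PUnit.{u + 1} => StMod.OQ 𝒰))
    (hF : StMod.IsRelGenFam f F) : StMod.IsRelGenFam h (fun j => (StMod.comapQ r).obj (F j)) := by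
  intro η hη
  have hU := h𝒰.isStack.1
  obtain ⟨C⟩ := exists_chart2_at f h𝒳 h𝒴 hfqc hfqs η hη
  have hX' : IsFibGrpd (fibCat h η).p := isFibGrpd_fibCat hU h η
  refine isGenFam_of_iso hX' (fun j => comapIso₂ (overFun r f h e η) (fibFst f η)
      (BasedFunctor.comp (fibFst h η) r) rfl (F j).obj ≪≫ StMod.comapCompIso r (fibFst h η) (F j).obj)
    (isGenFam_comap_of_structureSheaf hX' (isFibGrpd_fibCat h𝒳.isStack.1 f η) C
      (fun P hP => exists_chart_overFun h𝒰 h𝒳 r hrqc hrqs f h e η P hP) (fun P hP => ?_) (fam f F η) (hF η hη))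
  exact (isEqv_overFib r f h e hU η P).isGenFam_of_target
    (E := fun _ : PUnit.{u + 1} => (StMod.comapQ (fibFst r P.left)).obj (StMod.OQ 𝒰))
    (fun _ => comapO₂ (overFib r f h e η P) (fibFst r P.left) (fibFst (overFun r f h e η) P)) (hO P.left hP)

include h𝒰 h𝒳 h𝒴 hrqc hrqs hfqc hfqs e in
/-- A family is relatively generating when the structure sheaf is so along the second morphism. -/
theorem isRelGenFam_of_structureSheaf_target (E : ι → StMod.QCoh 𝒰) (hfp : ∀ i, (E i).obj.IsFinPres)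
    (hE : StMod.IsRelGenFam r E) (hO : StMod.IsRelGenFam f (fun _ : PUnit.{u + 1} => StMod.OQ 𝒳)) :
    StMod.IsRelGenFam h E := by
  intro η hη
  have hU := h𝒰.isStack.1
  have hY' := isFibGrpd_fibCat h𝒳.isStack.1 f η
  obtain ⟨C⟩ := exists_chart2_at f h𝒳 h𝒴 hfqc hfqs η hη
  refine isGenFam_of_structureSheaf_target (isFibGrpd_fibCat hU h η) hY' C
    (fun P hP => exists_chart_overFun h𝒰 h𝒳 r hrqc hrqs f h e η P hP) (fam h E η) (fun i x hx => ?_) (fun P hP => ?_)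
    (isGenFam_of_iso hY' (fun _ => StMod.comapOIso (fibFst f η)) (hO η hη))
  · haveI : IsAffine (sch (fibCat h η) x) := hx
    haveI : ((fam h E η i).obj.obj x).IsQuasicoherent := (fam h E η i).property.2 x
    exact DescAlg.FPPush.finitePresentation_sections (isAffineOpen_top _) _ (hfp i x.left)
  · exact (isEqv_overFib r f h e hU η P).isGenFam_of_target (E := fam r E P.left)
      (fun i => comapIso₂ (overFib r f h e η P) (fibFst r P.left)
          (BasedFunctor.comp (fibFst (overFun r f h e η) P) (fibFst h η)) rfl (E i).obj ≪≫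
        StMod.comapCompIso (fibFst h η) (fibFst (overFun r f h e η) P) (E i).obj) (hE P.left hP)

end Over

section Graph

variable {𝒳 𝒴 𝒵 : AlgSt.Cat S} (h𝒳 : IsAlgStack Scheme.fppfPrecoverage 𝒳)
  (h𝒴 : IsAlgStack Scheme.fppfPrecoverage 𝒴) (h𝒵 : IsAlgStack Scheme.fppfPrecoverage 𝒵)
  (f : 𝒳 ⥤ᵇ 𝒴) (hfqc : AlgSt.IsQuasiCompactMor Scheme.fppfPrecoverage f) (hfqs : AlgSt.IsQuasiSeparatedMor f)
  (g : 𝒴 ⥤ᵇ 𝒵) (hgqc : AlgSt.IsQuasiCompactMor Scheme.fppfPrecoverage g) (hgqs : AlgSt.IsQuasiSeparatedMor g)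
  {ι : Type u} (E : ι → StMod.QCoh 𝒳)

include h𝒳 h𝒴 h𝒵 hfqc hfqs hgqc hgqs in
/-- Cancellation of a morphism with relatively generating structure sheaf along the diagonal. -/
theorem isRelGenFam_of_comp (hh : StMod.IsRelGenFam (BasedFunctor.comp f g) E)
    (hO : StMod.IsRelGenFam (diag g) (fun _ : PUnit.{u + 1} => StMod.OQ 𝒴)) : StMod.IsRelGenFam f E := by
  intro η hη
  have hX := h𝒳.isStack.1
  have hY := h𝒴.isStack.1
  have hZ := h𝒵.isStack.1
  have hP2 := H14.Chart.Basic.isAlgStack_fp h𝒵 h𝒴 h𝒴 g g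
  have hrep := Rep.repByAlgSp1_of_repByAlgSpWith hgqs
  have hdqc : AlgSt.IsQuasiCompactMor Scheme.fppfPrecoverage (diag g) :=
    (H14.Chart.QC.repByAlgSpWith_qc_iff h𝒴 hP2 hrep).1 (Rep.repByAlgSpWith_mono hgqs fun _ _ _ _ _ h => h.1)
  have hdqs : AlgSt.IsQuasiSeparatedMor (diag g) :=
    H14.Sep.Main2.diag_qcqs_of_qs (Rep.repByAlgSpWith_mono hgqs fun _ _ _ _ _ h => h.2)
  have hη' : IsAffine (sch 𝒵 (g.obj η)) := isAffine_map g η hη
  obtain ⟨C⟩ := exists_chart2_at (BasedFunctor.comp f g) h𝒳 h𝒵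
    (H14.Chart.QC.isQuasiCompactMor_comp h𝒳 h𝒴 h𝒵 hfqc hgqc)
    (H14.Sep.Main.good_qcqs.diagComp hX hY hfqs hgqs) (g.obj η) hη'
  have hX' := isFibGrpd_fibCat hX f η
  refine isGenFam_of_iso hX' (fun i => comapIso₂ (graphFun f g η) (fibFst (BasedFunctor.comp f g) (g.obj η))
      (fibFst f η) rfl (E i).obj)
    (isGenFam_comap_of_structureSheaf hX' (isFibGrpd_fibCat hX (BasedFunctor.comp f g) (g.obj η)) C
      (fun P hP => ?_) (fun P hP => ?_) (fam (BasedFunctor.comp f g) E (g.obj η)) (hh (g.obj η) hη'))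
  all_goals obtain ⟨D⟩ := exists_graphData hY hZ η P
  all_goals have hW : IsAffine (sch (fp g g) D.W) := isAffine_map f P.left hP
  · obtain ⟨C⟩ := exists_chart_at (diag g) h𝒴 hP2 hdqc hdqs D.W hW
    obtain ⟨G', hG'⟩ := (D.isEqv_fib hY hZ hX).exists_symm
    exact Chart.transfer hG' C
  · exact (D.isEqv_fib hY hZ hX).isGenFam_of_target
      (E := fun _ : PUnit.{u + 1} => (StMod.comapQ (fibFst (diag g) D.W)).obj (StMod.OQ 𝒴))
      (fun _ => comapO₂ (D.fib hY hZ) (fibFst (diag g) D.W) (fibFst (graphFun f g η) P)) (hO D.W hW)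

end Graph

end Groth.Agent.H14.GenFam
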