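import Groth.Agent.H14.GenFam.AffBC
import Groth.Agent.H14.ModDesc.Stack

/-!
Generating families along functors which are locally equivalences.
-/

set_option autoImplicit false
set_option backward.isDefEq.respectTransparency false
set_option backward.isDefEq.respectTransparency.types false
set_option linter.style.haveILetI false

universe u

open CategoryTheory CategoryTheory.Limits AlgebraicGeometry Opposite TopologicalSpace
open StMod (sch bmap)
open Groth.Agent.Lib.AlgStack
open Groth.Agent.H14.ModDesc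

namespace Groth.Agent.H14.GenFam

variable {S : Scheme.{u}} {𝒳' 𝒳 : AlgSt.Cat S}

/-- An equivalence over the base, in the form used here. -/
structure IsEqv (F : 𝒳' ⥤ᵇ 𝒳) : Prop where
  fibX : FibCat.IsFibGrpd 𝒳'.p
  fibY : FibCat.IsFibGrpd 𝒳.p
  full : F.toFunctor.Full
  faithful : F.toFunctor.Faithful
  obj : ∀ y : 𝒳.obj, ∃ (x : 𝒳'.obj) (e : F.obj x ≅ y), 𝒳.p.IsHomLift (𝟙 (𝒳.p.obj y)) e.hom

variable {F : 𝒳' ⥤ᵇ 𝒳}

theorem IsEqv.hyp (h : IsEqv F) (G : StMod.QCoh 𝒳') : Hyp F G where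
  fibX := h.fibX
  fibY := h.fibY
  locObj y := ⟨⊤, GrothendieckTopology.top_mem _ _, fun V f _ => by
    obtain ⟨y', φ, hφ⟩ := h.fibY.exists_lift f
    obtain ⟨x, e, he⟩ := h.obj y'
    refine ⟨x, e.hom ≫ φ, ?_⟩
    have e1 : 𝒳.p.obj y' = V := IsHomLift.domain_eq 𝒳.p f φ
    subst e1
    have : 𝒳.p.IsHomLift (𝟙 _ ≫ f) (e.hom ≫ φ) := inferInstance
    simpa using this⟩
  locHom x x' b hb := ⟨⊤, GrothendieckTopology.top_mem _ _, fun V f _ => by
    obtain ⟨x₀, φ, hφ⟩ := h.fibX.exists_lift f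
    have := h.full
    refine ⟨x₀, φ, F.toFunctor.preimage (F.map φ ≫ b), hφ, ?_, (F.toFunctor.map_preimage _).symm⟩
    have := BasedFunctor.preserves_isHomLift F f φ
    have h3 : 𝒳.p.IsHomLift (f ≫ 𝟙 (𝒳'.p.obj x)) (F.map φ ≫ b) := inferInstance
    refine (BasedFunctor.isHomLift_iff F _ _).1 ?_
    rw [F.toFunctor.map_preimage]
    simpa using h3⟩
  dep φ φ' _ h' s := by
    have := h.faithful
    rw [F.toFunctor.map_injective h']

variable {ι : Type u} {E : ι → StMod.QCoh 𝒳} {E' : ι → StMod.QCoh 𝒳'}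
  (iso : ∀ i, StMod.Mod.comap F (E i).obj ≅ (E' i).obj)

include iso in
/-- A family is generating if its inverse image is. -/
theorem IsEqv.isGenFam_of_source (h : IsEqv F) (hg : StMod.IsGenFam E') : StMod.IsGenFam E := by
  rw [StMod.isGenFam_iff] at hg ⊢
  intro M N u hu
  have e := hg ((StMod.comapQ F).map u) fun i ψ => by
    obtain ⟨φ, hφ⟩ : ∃ φ : (E i).obj ⟶ M.obj, StMod.Mod.comapMap F φ = (iso i).hom ≫ ψ :=
      ⟨_, comapMap_preimageHom (h.hyp ((StMod.comapQ F).obj M)) ((iso i).hom ≫ ψ)⟩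
    have h2 := (StMod.comapFunctor F).map_comp φ u.hom
    simp only [StMod.comapFunctor_map, hu i φ] at h2
    rw [hφ, Category.assoc] at h2
    rw [← cancel_epi (iso i).hom, comp_zero]
    exact h2.symm.trans ((StMod.comapFunctor F).map_zero _ _)
  refine InducedCategory.hom_ext (comapMap_injective (h.hyp ((StMod.comapQ F).obj N)) ?_)
  exact (congrArg InducedCategory.Hom.hom e).trans ((StMod.comapFunctor F).map_zero _ _).symm

include iso in
/-- The inverse image of a generating family is generating. -/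
theorem IsEqv.isGenFam_of_target (h : IsEqv F) (hg : StMod.IsGenFam E) : StMod.IsGenFam E' := by
  rw [StMod.isGenFam_iff] at hg ⊢
  intro M' N' u' hu
  let M := ModDesc.pushQ (h.hyp M')
  let N := ModDesc.pushQ (h.hyp N')
  let cM : StMod.Mod.comap F M.obj ≅ M'.obj := counitIso (h.hyp M')
  let cN : StMod.Mod.comap F N.obj ≅ N'.obj := counitIso (h.hyp N')
  obtain ⟨v, hv⟩ : ∃ v : M.obj ⟶ N.obj, StMod.Mod.comapMap F v = cM.hom ≫ u'.hom ≫ cN.inv :=
    ⟨_, comapMap_preimageHom (h.hyp ((StMod.comapQ F).obj N)) _⟩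
  have e := hg (InducedCategory.homMk v : M ⟶ N) fun i φ => by
    refine comapMap_injective (h.hyp ((StMod.comapQ F).obj N)) (((StMod.comapFunctor F).map_comp φ v).trans ?_)
    show StMod.Mod.comapMap F φ ≫ StMod.Mod.comapMap F v = _
    have h0 := hu i ((iso i).inv ≫ StMod.Mod.comapMap F φ ≫ cM.hom)
    rw [hv]
    refine Eq.trans ?_ ((StMod.comapFunctor F).map_zero _ _).symm
    rw [← cancel_epi (iso i).inv, comp_zero, ← cancel_mono cN.hom, zero_comp]
    simpa using h0
  have h1 : cM.hom ≫ u'.hom ≫ cN.inv = 0 := by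
    rw [← hv, show v = 0 from congrArg InducedCategory.Hom.hom e]
    exact (StMod.comapFunctor F).map_zero _ _
  refine InducedCategory.hom_ext ?_
  show u'.hom = 0
  rw [← cancel_epi cM.hom, comp_zero, ← cancel_mono cN.inv, zero_comp, Category.assoc, h1]

end Groth.Agent.H14.GenFam
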